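import Cfsg.Agent.Lib.BrauerPairs.Subpair
import Cfsg.Agent.Lib.FusionSystem.Group

/-!
# Maximal Brauer pairs, defect groups and conjugacy
-/

set_option autoImplicit false

namespace CfsgLib.BrauerPairs

open Cfsg CfsgLib.Blocks
open CfsgLib.LocalEven.SylowIn (IsSylowIn)
open scoped Classical ComplexConjugate

variable {G : Type*} [Group G] [Fintype G] {p : ℕ} {M : Ideal AlgInt} {Q R P : Subgroup G}
  {B : Set (IrrCharacter G)}
  {e : Set (IrrCharacter (Subgroup.centralizer (P : Set G)))}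
  {f : Set (IrrCharacter (Subgroup.centralizer (Q : Set G)))}

/-- No larger `p`-subgroup of the stabilizer of the pair has nonzero Brauer image. -/
def LocMax (p : ℕ) (M : Ideal AlgInt) (P : Subgroup G)
    (e : Set (IrrCharacter (Subgroup.centralizer (P : Set G)))) : Prop :=
  ∀ R : Subgroup G, IsPGroup p R → P ≤ R → R ≤ Subgroup.normalizer (P : Set G) →
    (∀ r ∈ R, Fixes r (subgroupBlockCoeff (Subgroup.centralizer (P : Set G)) e)) →
    (∃ c ∈ Subgroup.centralizer (R : Set G),
      ¬ MemLocalIdeal M (subgroupBlockCoeff (Subgroup.centralizer (P : Set G)) e c)) → R = P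

theorem exists_unit_of_pair (hM : IsPModular p M) (h : IsBrauerPairOf p M B Q f) :
    ∃ c ∈ Subgroup.centralizer (Q : Set G), ¬ MemLocalIdeal M (blockCoeff B c) := by
  by_contra hcon
  push Not at hcon
  obtain ⟨ξ, hξ⟩ := IsPBlock.nonempty hM h.1.2
  have h1 := LI.sub hM (brauerOmega_LI ξ hM (goodAt_blockCoeff hM h.2.1 Q) hcon) (h.2.2 ξ hξ)
  rw [sub_sub_cancel] at h1
  exact LI.not_one hM h1

theorem exists_defect_ge_of_pair (hM : IsPModular p M) (h : IsBrauerPairOf p M B Q f) :
    ∃ D : Subgroup G, IsDefectGroup p M B D ∧ Q ≤ D := by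
  obtain ⟨c, hc, hne⟩ := exists_unit_of_pair hM h
  exact exists_isDefectGroup_ge hM h.2.1 h.1.1 hc hne

/-- A good idempotent with a unit coefficient has value one at some block. -/
theorem exists_block_omega_one (hM : IsPModular p M) (hR : IsPGroup p R) {β : G → ℂ}
    (hβ : GoodAt M R β) (hi : IdemAt M R β) {c : G}
    (hc : c ∈ Subgroup.centralizer (R : Set G)) (hne : ¬ MemLocalIdeal M (β c)) :
    ∃ g : Set (IrrCharacter (Subgroup.centralizer (R : Set G))), IsPBlock M g ∧
      ∀ ξ ∈ g, MemLocalIdeal M (brauerOmega R β (ξ : _ → ℂ) - 1) := by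
  obtain ⟨ξ, hξ⟩ : ∃ ξ : IrrCharacter (Subgroup.centralizer (R : Set G)),
      ¬ MemLocalIdeal M (brauerOmega R β (ξ : _ → ℂ)) := by
    by_contra hcon
    push Not at hcon
    refine hne ?_
    have h := congr_blockCoeff_of_idem hM hβ.res_isClassFunction (fun x => hβ.lr _)
      (fun x => LI.trans hM (LI.sub_comm (gconv_congr_res hM hR hβ hβ x)) (hi _ x.2))
      (⟨c, hc⟩ : Subgroup.centralizer (R : Set G))
    have he : {ψ : IrrCharacter (Subgroup.centralizer (R : Set G)) |
        ¬ MemLocalIdeal M (omega (ψ : Subgroup.centralizer (R : Set G) → ℂ)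
          fun x : Subgroup.centralizer (R : Set G) => β x)} = ∅ :=
      Set.eq_empty_of_forall_notMem fun ψ hψ => hψ (by rw [← brauerOmega_eq_omega]; exact hcon ψ)
    rw [he, blockCoeff_empty, sub_zero] at h
    exact h
  refine ⟨blockOf M (ξ : _ → ℂ), isPBlock_blockOf ξ, fun η hη => ?_⟩
  exact LI.trans hM
    (brauerOmega_sameBlock η hM hβ (SameBlock_symm hη))
    ((brauerOmega_idem ξ hM hR hβ hi).resolve_left hξ)

theorem exists_pair_of_defectGroup (hM : IsPModular p M) (hB : IsPBlock M B) {D : Subgroup G}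
    (hD : IsDefectGroup p M B D) :
    ∃ g : Set (IrrCharacter (Subgroup.centralizer (D : Set G))), IsBrauerPairOf p M B D g := by
  obtain ⟨c, hc, hcl⟩ := exists_unit_coeff_centralizer hM hD
  obtain ⟨g, hg, h1⟩ := exists_block_omega_one hM (isPGroup_defectGroup hD)
    (goodAt_blockCoeff hM hB D) (idemAt_blockCoeff hM B D) hc hcl.2.1
  exact ⟨g, ⟨isPGroup_defectGroup hD, hg⟩, hB, h1⟩

/-- A unit coefficient gives a larger pair. -/
theorem exists_normal_above (hM : IsPModular p M) (hQf : IsBrauerPair p M Q f)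
    (hR : IsPGroup p R) (hQR : Q ≤ R) (hRN : R ≤ Subgroup.normalizer (Q : Set G))
    (hfix : ∀ r ∈ R, Fixes r (subgroupBlockCoeff (Subgroup.centralizer (Q : Set G)) f))
    (hunit : ∃ c ∈ Subgroup.centralizer (R : Set G),
      ¬ MemLocalIdeal M (subgroupBlockCoeff (Subgroup.centralizer (Q : Set G)) f c)) :
    ∃ g : Set (IrrCharacter (Subgroup.centralizer (R : Set G))),
      IsNormalSubpair p M Q f R g := by
  obtain ⟨c, hc, hne⟩ := hunit
  obtain ⟨g, hg, h1⟩ := exists_block_omega_one hM hR (goodAt_bc hM hQR hQf.2 hfix)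
    (idemAt_bc hM _ f R) hc hne
  exact ⟨g, isNormalSubpair_iff.2 ⟨hQf, ⟨hR, hg⟩, hQR, hRN, hfix, h1⟩⟩

theorem isMaximal_locMax (hM : IsPModular p M) (h : IsMaximalBrauerPair p M B P e) :
    LocMax p M P e := by
  intro R hR hPR hRN hfix hunit
  obtain ⟨g, hg⟩ := exists_normal_above hM h.1.1 hR hPR hRN hfix hunit
  exact h.2 R g (isBrauerPairOf_up_normal hM hg h.1) (Relation.ReflTransGen.single hg)

theorem defectGroup_eq_of_le (hM : IsPModular p M) (hB : IsPBlock M B)
    (hP : IsDefectGroup p M B P) (hPR : P ≤ R)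
    {g : Set (IrrCharacter (Subgroup.centralizer (R : Set G)))}
    (hg : IsBrauerPairOf p M B R g) : R = P := by
  obtain ⟨D, hD, hRD⟩ := exists_defect_ge_of_pair hM hg
  refine (Subgroup.eq_of_le_of_card_ge hPR ?_).symm
  rw [card_defectGroup hM hB hP, ← card_defectGroup hM hB hD]
  exact Subgroup.card_le_of_le hRD

theorem isMaximal_of_defectGroup (hM : IsPModular p M) (hP : IsDefectGroup p M B P)
    (h : IsBrauerPairOf p M B P e) : IsMaximalBrauerPair p M B P e :=
  ⟨h, fun _ _ hg hle => defectGroup_eq_of_le hM h.2.1 hP (subgroup_le_of_subpairLE hle) hg⟩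

/-! ### The orbit of a pair under the normalizer -/

section Orbit

variable (P : Subgroup G) (e : Set (IrrCharacter (Subgroup.centralizer (P : Set G))))

/-- The coefficient functions of the conjugates of `e` under the normalizer of `P`. -/
abbrev OrbitFun : Type _ :=
  {β : G → ℂ // ∃ u ∈ Subgroup.normalizer (P : Set G),
    β = fun x => subgroupBlockCoeff (Subgroup.centralizer (P : Set G)) e (u * x * u⁻¹)}

noncomputable instance orbitFunFintype : Fintype (OrbitFun P e) :=
  Fintype.ofSurjective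
    (fun u : Subgroup.normalizer (P : Set G) => (⟨_, u, u.2, rfl⟩ : OrbitFun P e))
    fun β => by
      obtain ⟨u, hu, h⟩ := β.2
      exact ⟨⟨u, hu⟩, Subtype.ext h.symm⟩

/-- The sum of the conjugates. -/
noncomputable def orbitSum : G → ℂ := fun x => ∑ β : OrbitFun P e, β.1 x

variable {P e}

theorem orbitFun_block (he : IsPBlock M e) (β : OrbitFun P e) :
    ∃ g : Set (IrrCharacter (Subgroup.centralizer (P : Set G))), IsPBlock M g ∧
      subgroupBlockCoeff (Subgroup.centralizer (P : Set G)) g = β.1 := by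
  obtain ⟨u, hu, h⟩ := β.2
  refine ⟨_, isPBlock_image (conjIso u
    (mem_iff_of_normalizer (normalizer_le_normalizer_centralizer P hu))) he, funext fun x => ?_⟩
  rw [h, bc_image_conjIso]

theorem orbitFun_goodAt (hM : IsPModular p M) (he : IsPBlock M e) (β : OrbitFun P e) :
    GoodAt M P β.1 := by
  obtain ⟨g, hg, h⟩ := orbitFun_block he β
  rw [← h]; exact goodAt_bc_self hM hg

theorem orbitSum_goodAt (hM : IsPModular p M) (he : IsPBlock M e) :
    GoodAt M P (orbitSum P e) :=
  ⟨fun x => LR.sum hM fun β _ => (orbitFun_goodAt hM he β).lr x,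
    fun u hu x => Finset.sum_congr rfl fun β _ => (orbitFun_goodAt hM he β).fixP u hu x,
    fun u hu x => Finset.sum_congr rfl fun β _ => (orbitFun_goodAt hM he β).fixC u hu x⟩

omit [Fintype G] in
theorem orbitFun_conj {u : G} (hu : u ∈ Subgroup.normalizer (P : Set G)) {β : G → ℂ}
    (h : ∃ w ∈ Subgroup.normalizer (P : Set G),
      β = fun x => subgroupBlockCoeff (Subgroup.centralizer (P : Set G)) e (w * x * w⁻¹)) :
    ∃ w ∈ Subgroup.normalizer (P : Set G),
      (fun x => β (u * x * u⁻¹))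
        = fun x => subgroupBlockCoeff (Subgroup.centralizer (P : Set G)) e (w * x * w⁻¹) := by
  obtain ⟨w, hw, rfl⟩ := h
  exact ⟨w * u, Subgroup.mul_mem _ hw hu, funext fun x => by simp [mul_assoc]⟩

theorem orbitSum_fixes {u : G} (hu : u ∈ Subgroup.normalizer (P : Set G)) :
    Fixes u (orbitSum P e) := fun x => by
  refine Fintype.sum_equiv
    { toFun := fun β => ⟨fun y => β.1 (u * y * u⁻¹), orbitFun_conj hu β.2⟩
      invFun := fun β => ⟨fun y => β.1 (u⁻¹ * y * u⁻¹⁻¹),
        orbitFun_conj (Subgroup.inv_mem _ hu) β.2⟩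
      left_inv := fun β => Subtype.ext (funext fun y => by simp [mul_assoc])
      right_inv := fun β => Subtype.ext (funext fun y => by simp [mul_assoc]) } _ _ fun β => ?_
  rfl

theorem brauerOmega_orbitSum_self (hM : IsPModular p M) (he : IsPBlock M e)
    {ξ : IrrCharacter (Subgroup.centralizer (P : Set G))} (hξ : ξ ∈ e) :
    brauerOmega P (orbitSum P e) (ξ : _ → ℂ) = 1 := by
  let β₀ : OrbitFun P e :=
    ⟨subgroupBlockCoeff (Subgroup.centralizer (P : Set G)) e, 1, Subgroup.one_mem _, by simp⟩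
  unfold orbitSum
  rw [brauerOmega_sum, Finset.sum_eq_single β₀]
  · rw [brauerOmega_bc_self, blockInd_of_mem hξ]
  · intro β _ hne
    obtain ⟨g, hg, h⟩ := orbitFun_block he β
    rw [← h, brauerOmega_bc_self, blockInd_of_notMem]
    intro hξg
    refine hne (Subtype.ext ?_)
    rw [← h, IsPBlock.eq_of_mem hM hg he hξg hξ]
  · simp

variable [Fact p.Prime]

theorem eq_of_orbitSum_unit (hM : IsPModular p M) (he : IsPBlock M e) (hmax : LocMax p M P e)
    {x : G} (hx : x ∈ Subgroup.centralizer (P : Set G))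
    (hux : ¬ MemLocalIdeal M (orbitSum P e x)) {R : Subgroup G} (hR : IsPGroup p R)
    (hPR : P ≤ R) (hRx : R ≤ Subgroup.centralizer ({x} : Set G)) : R = P := by
  suffices h : R ⊓ Subgroup.normalizer (P : Set G) = P by
    rcases hPR.lt_or_eq with hlt | heq
    · exact absurd h (CfsgLib.Fsys.lt_normalizerIn hR hlt).ne'
    · exact heq.symm
  set R' := R ⊓ Subgroup.normalizer (P : Set G)
  letI act : MulAction R' (OrbitFun P e) :=
    { smul := fun r β => ⟨fun y => β.1 ((r : G)⁻¹ * y * (r : G)⁻¹⁻¹),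
        orbitFun_conj (Subgroup.inv_mem _ r.2.2) β.2⟩
      one_smul := fun β => Subtype.ext (funext fun y => by
        show β.1 (((1 : R') : G)⁻¹ * y * ((1 : R') : G)⁻¹⁻¹) = β.1 y
        simp)
      mul_smul := fun r s β => Subtype.ext (funext fun y => by
        show β.1 (((r * s : R') : G)⁻¹ * y * ((r * s : R') : G)⁻¹⁻¹)
          = β.1 ((s : G)⁻¹ * ((r : G)⁻¹ * y * (r : G)⁻¹⁻¹) * (s : G)⁻¹⁻¹)
        simp [mul_assoc]) }
  have hsum := sum_congr_fixedPoints hM (hR.to_le inf_le_left : IsPGroup p R')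
    (fun β : OrbitFun P e => β.1 x) (fun β => (orbitFun_goodAt hM he β).lr x) fun r β => by
      show β.1 ((r : G)⁻¹ * x * (r : G)⁻¹⁻¹) = β.1 x
      rw [inv_inv, mul_assoc, ← Subgroup.mem_centralizer_singleton_iff.1 (hRx r.2.1),
        inv_mul_cancel_left]
  obtain ⟨β, hβfix, hβ⟩ : ∃ β : OrbitFun P e, β ∈ MulAction.fixedPoints R' (OrbitFun P e) ∧
      ¬ MemLocalIdeal M (β.1 x) := by
    by_contra hcon
    push Not at hcon
    have h2 := LI.add hM hsum (LI.sum hM
      (s := Finset.univ.filter fun β : OrbitFun P e => β ∈ MulAction.fixedPoints R' _) fun β hβ =>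
        hcon β (Finset.mem_filter.1 hβ).2)
    rw [sub_add_cancel] at h2
    exact hux h2
  obtain ⟨u, hu, hβu⟩ := β.2
  have hS := hmax (R'.map (MulAut.conj u).toMonoidHom) (IsPGroup.map (hR.to_le inf_le_left) _) ?_
    ?_ ?_ ⟨u * x * u⁻¹, ?_, ?_⟩
  · have h2 := congrArg (Subgroup.map (MulAut.conj u⁻¹).toMonoidHom) hS
    rw [map_conj_of_mem_normalizer (Subgroup.inv_mem _ hu), Subgroup.map_map] at h2
    rw [← h2]
    convert (Subgroup.map_id R').symm using 2
    ext z
    simp [mul_assoc]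
  · intro z hz
    refine ⟨u⁻¹ * z * u, ⟨hPR ?_, Subgroup.le_normalizer ?_⟩, by simp [mul_assoc]⟩
    all_goals simpa using (Subgroup.mem_normalizer_iff.1 (Subgroup.inv_mem _ hu) z).1 hz
  · rintro _ ⟨r, hr, rfl⟩
    exact Subgroup.mul_mem _ (Subgroup.mul_mem _ hu hr.2) (Subgroup.inv_mem _ hu)
  · rintro _ ⟨r, hr, rfl⟩ y
    have h2 := congrFun (congrArg Subtype.val (hβfix ⟨r⁻¹, R'.inv_mem hr⟩)) (u⁻¹ * y * u)
    change β.1 ((r⁻¹)⁻¹ * (u⁻¹ * y * u) * (r⁻¹)⁻¹⁻¹) = β.1 (u⁻¹ * y * u) at h2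
    simp only [hβu] at h2
    simpa [mul_assoc] using h2
  · refine (conj_mem_centralizer_map_iff R' u x).2 ?_
    exact Subgroup.mem_centralizer_iff.2 fun r hr =>
      Subgroup.mem_centralizer_singleton_iff.1 (hRx hr.1)
  · rw [hβu] at hβ; exact hβ

theorem isSylowIn_of_orbitSum_unit (hM : IsPModular p M) (hP : IsBrauerPair p M P e)
    (hmax : LocMax p M P e) {x : G} (hx : x ∈ Subgroup.centralizer (P : Set G))
    (hux : ¬ MemLocalIdeal M (orbitSum P e x)) :
    IsSylowIn p P (Subgroup.centralizer ({x} : Set G)) :=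
  ⟨fun r hr => Subgroup.mem_centralizer_singleton_iff.2 (Subgroup.mem_centralizer_iff.1 hx r hr),
    hP.1, fun U hU hUp hle => eq_of_orbitSum_unit hM hP.2 hmax hx hux hUp hle hU⟩

theorem exists_normalizer_conj (hM : IsPModular p M) (hP : IsBrauerPair p M P e)
    (hmax : LocMax p M P e) {x y : G} (hx : x ∈ Subgroup.centralizer (P : Set G))
    (hy : y ∈ Subgroup.centralizer (P : Set G)) (hux : ¬ MemLocalIdeal M (orbitSum P e x))
    (hxy : IsConj x y) : ∃ u ∈ Subgroup.normalizer (P : Set G), u * x * u⁻¹ = y := by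
  obtain ⟨g, hg⟩ := isConj_iff.1 hxy
  have hle : P.map (MulAut.conj g⁻¹).toMonoidHom ≤ Subgroup.centralizer ({x} : Set G) := by
    rintro _ ⟨r, hr, rfl⟩
    refine Subgroup.mem_centralizer_singleton_iff.2 ?_
    have := Subgroup.mem_centralizer_iff.1 hy r hr
    rw [← hg] at this
    have h2 := congrArg (fun z => g⁻¹ * z * g) this
    simpa [mul_assoc] using h2
  obtain ⟨k, hk, hkP⟩ := CfsgLib.Fsys.sylow_conjugate_into
    (isSylowIn_of_orbitSum_unit hM hP hmax hx hux) hle (IsPGroup.map hP.1 _)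
  refine ⟨g * k⁻¹, ?_, ?_⟩
  · have hN : k * g⁻¹ ∈ Subgroup.normalizer (P : Set G) :=
      CfsgLib.Fsys.mem_normalizer_of_map_le fun r hr => by
        have := hkP ⟨g⁻¹ * r * g, ⟨r, hr, by simp [mul_assoc]⟩, rfl⟩
        simpa [mul_assoc] using this
    simpa using Subgroup.inv_mem _ hN
  · rw [← hg]
    have := Subgroup.mem_centralizer_singleton_iff.1 (Subgroup.inv_mem _ hk)
    simp only [mul_inv_rev, inv_inv]
    rw [show g * k⁻¹ * x * (k * g⁻¹) = g * (k⁻¹ * x * k) * g⁻¹ by simp [mul_assoc], this,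
      inv_mul_cancel_right]

/-- The class function of `G` extending the orbit sum. -/
noncomputable def orbitExt (M : Ideal AlgInt) (P : Subgroup G)
    (e : Set (IrrCharacter (Subgroup.centralizer (P : Set G)))) : G → ℂ := fun g =>
  if h : ∃ x ∈ Subgroup.centralizer (P : Set G), IsConj g x ∧ ¬ MemLocalIdeal M (orbitSum P e x)
  then orbitSum P e h.choose else 0

theorem orbitExt_eq (hM : IsPModular p M) (hP : IsBrauerPair p M P e) (hmax : LocMax p M P e)
    {g x : G} (hx : x ∈ Subgroup.centralizer (P : Set G)) (hgx : IsConj g x)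
    (hux : ¬ MemLocalIdeal M (orbitSum P e x)) : orbitExt M P e g = orbitSum P e x := by
  have h : ∃ x ∈ Subgroup.centralizer (P : Set G),
      IsConj g x ∧ ¬ MemLocalIdeal M (orbitSum P e x) := ⟨x, hx, hgx, hux⟩
  rw [orbitExt, dif_pos h]
  obtain ⟨u, hu, he⟩ := exists_normalizer_conj hM hP hmax hx h.choose_spec.1 hux
    (hgx.symm.trans h.choose_spec.2.1)
  rw [← he, orbitSum_fixes hu]

theorem orbitExt_isClassFunction (hM : IsPModular p M) (hP : IsBrauerPair p M P e)
    (hmax : LocMax p M P e) : IsClassFunction G (orbitExt M P e) := fun g y => by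
  have hc : IsConj g (y * g * y⁻¹) := isConj_iff.2 ⟨y, rfl⟩
  by_cases h : ∃ x ∈ Subgroup.centralizer (P : Set G),
      IsConj g x ∧ ¬ MemLocalIdeal M (orbitSum P e x)
  · obtain ⟨x, hx, hgx, hux⟩ := h
    rw [orbitExt_eq hM hP hmax hx hgx hux, orbitExt_eq hM hP hmax hx (hc.symm.trans hgx) hux]
  · rw [orbitExt, orbitExt, dif_neg h,
      dif_neg fun ⟨x, hx, hgx, hux⟩ => h ⟨x, hx, hc.trans hgx, hux⟩]

theorem orbitExt_LR (hM : IsPModular p M) (he : IsPBlock M e) (g : G) :
    MemLocalRing M (orbitExt M P e g) := by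
  unfold orbitExt; split
  · exact (orbitSum_goodAt hM he).lr _
  · exact LR.zero hM

theorem orbitExt_congr (hM : IsPModular p M) (hP : IsBrauerPair p M P e) (hmax : LocMax p M P e)
    {c : G} (hc : c ∈ Subgroup.centralizer (P : Set G)) :
    MemLocalIdeal M (orbitSum P e c - orbitExt M P e c) := by
  by_cases h : ∃ x ∈ Subgroup.centralizer (P : Set G),
      IsConj c x ∧ ¬ MemLocalIdeal M (orbitSum P e x)
  · obtain ⟨x, hx, hcx, hux⟩ := h
    obtain ⟨u, hu, he⟩ := exists_normalizer_conj hM hP hmax hx hc hux hcx.symm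
    have h2 : orbitSum P e c = orbitSum P e x := by rw [← he, orbitSum_fixes hu]
    rw [orbitExt_eq hM hP hmax hx hcx hux, h2, sub_self]
    exact LI.zero hM
  · have hI : MemLocalIdeal M (orbitSum P e c) := by
      by_contra hn
      exact h ⟨c, hc, IsConj.refl c, hn⟩
    rw [orbitExt, dif_neg h, sub_zero]
    exact hI

/-- At every pair on `P` of the block, the orbit sum takes the value of the class extension. -/
theorem omega_orbitExt (hM : IsPModular p M) (hP : IsBrauerPair p M P e) (hmax : LocMax p M P e)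
    {g : Set (IrrCharacter (Subgroup.centralizer (P : Set G)))} (hg : IsBrauerPairOf p M B P g)
    {η : IrrCharacter (Subgroup.centralizer (P : Set G))} (hη : η ∈ g)
    {χ : IrrCharacter G} (hχ : χ ∈ B) :
    MemLocalIdeal M (brauerOmega P (orbitSum P e) (η : _ → ℂ)
      - omega (χ : G → ℂ) (orbitExt M P e)) := by
  have hcl := orbitExt_isClassFunction hM hP hmax
  have hgood : GoodAt M P (orbitExt M P e) :=
    ⟨orbitExt_LR hM hP.2, fun u _ x => hcl x u, fun u _ x => hcl x u⟩
  refine LI.trans hM (brauerOmega_congr η hM (orbitSum_goodAt hM hP.2) hgood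
    fun c hc => orbitExt_congr hM hP hmax hc) ?_
  rw [brauerOmega_eq_omega]
  exact IsInducedBlock.omega_congr hM ((isBrauerPairOf_iff_induced hM hg.1.1 hg.1.2).1 hg) hη hχ
    hcl (orbitExt_LR hM hP.2)

end Orbit

variable [Fact p.Prime]

/-- Pairs of the block on `P` are conjugate under the normalizer to a locally maximal one. -/
theorem exists_conj_of_locMax (hM : IsPModular p M) (he : IsBrauerPairOf p M B P e)
    (hmax : LocMax p M P e)
    {g : Set (IrrCharacter (Subgroup.centralizer (P : Set G)))} (hg : IsBrauerPairOf p M B P g) :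
    ∃ u ∈ Subgroup.normalizer (P : Set G), conjPair u ⟨P, g⟩ = ⟨P, e⟩ := by
  obtain ⟨ξ, hξ⟩ := IsPBlock.nonempty hM he.1.2
  obtain ⟨η, hη⟩ := IsPBlock.nonempty hM hg.1.2
  obtain ⟨χ, hχ⟩ := IsPBlock.nonempty hM he.2.1
  have h1 := omega_orbitExt hM he.1 hmax hg hη hχ
  have h2 := omega_orbitExt hM he.1 hmax he hξ hχ
  have h3 := LI.sub hM h1 h2
  rw [brauerOmega_orbitSum_self hM he.1.2 hξ, sub_sub_sub_cancel_right] at h3
  obtain ⟨β, hβ⟩ : ∃ β : OrbitFun P e, brauerOmega P β.1 (η : _ → ℂ) ≠ 0 := by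
    by_contra hcon
    push Not at hcon
    unfold orbitSum at h3
    rw [brauerOmega_sum, Finset.sum_eq_zero fun β _ => hcon β, zero_sub] at h3
    exact LI.not_one hM (by simpa using LI.neg h3)
  obtain ⟨k, hk, hkβ⟩ := orbitFun_block he.1.2 β
  rw [← hkβ, brauerOmega_bc_self] at hβ
  have hgk : g = k := IsPBlock.eq_of_mem hM hg.1.2 hk hη (by
    by_contra hn; exact hβ (blockInd_of_notMem hn))
  subst hgk
  obtain ⟨u, hu, hβu⟩ := β.2
  refine ⟨u, hu, pair_ext (map_conj_of_mem_normalizer hu) fun c => ?_⟩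
  show subgroupBlockCoeff _ (conjBlock P u g) c = _
  rw [bc_conjBlock', hkβ, hβu]
  simp [mul_assoc]

/-- A locally maximal pair sits on a defect group. -/
theorem isDefectGroup_of_locMax (hM : IsPModular p M) (he : IsBrauerPairOf p M B P e)
    (hmax : LocMax p M P e) : IsDefectGroup p M B P := by
  obtain ⟨ξ, hξ⟩ := IsPBlock.nonempty hM he.1.2
  obtain ⟨χ, hχ⟩ := IsPBlock.nonempty hM he.2.1
  have h1 := omega_orbitExt hM he.1 hmax he hξ hχ
  rw [brauerOmega_orbitSum_self hM he.1.2 hξ,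
    omega_eq_sum_centralChar χ (orbitExt_isClassFunction hM he.1 hmax)] at h1
  obtain ⟨C, hC⟩ : ∃ C : ConjClasses G, ¬ MemLocalIdeal M
      (orbitExt M P e C.out * centralChar (χ : G → ℂ) C.out) := by
    by_contra hcon
    push Not at hcon
    have h2 := LI.add hM h1 (LI.sum hM (s := Finset.univ) fun C _ => hcon C)
    rw [sub_add_cancel] at h2
    exact LI.not_one hM h2
  obtain ⟨x, hx, hCx, hux⟩ : ∃ x ∈ Subgroup.centralizer (P : Set G),
      IsConj C.out x ∧ ¬ MemLocalIdeal M (orbitSum P e x) := by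
    by_contra hn
    refine hC (LI.mul_right hM ?_ (centralChar_LR hM χ _))
    rw [orbitExt, dif_neg hn]
    exact LI.zero hM
  have hw : ¬ MemLocalIdeal M (centralChar (χ : G → ℂ) x) := by
    obtain ⟨y, hy⟩ := isConj_iff.1 hCx
    have h : centralChar (χ : G → ℂ) x = centralChar (χ : G → ℂ) C.out := by
      rw [← hy]; exact centralChar_isClassFunction χ _ y
    rw [h]
    exact fun hI => hC (LI.mul_left hM (orbitExt_LR hM he.1.2 _) hI)
  obtain ⟨D, hD, hPD⟩ := exists_defect_ge_of_pair hM he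
  have hcard : p ^ centExp p x = Nat.card P := by
    obtain ⟨S, hS⟩ : ∃ S : Sylow p (Subgroup.centralizer ({x} : Set G)),
        (S : Subgroup _) = P.subgroupOf (Subgroup.centralizer ({x} : Set G)) :=
      (CfsgLib.Fsys.exists_sylow_iff (isSylowIn_of_orbitSum_unit hM he.1 hmax hx hux).1).2
        (isSylowIn_of_orbitSum_unit hM he.1 hmax hx hux)
    rw [centExp, ← S.card_eq_multiplicity, hS]
    exact Nat.card_congr (Subgroup.subgroupOfEquivOfLe
      (isSylowIn_of_orbitSum_unit hM he.1 hmax hx hux).1).toEquiv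
  have : D = P := by
    refine (Subgroup.eq_of_le_of_card_ge hPD ?_).symm
    rw [card_defectGroup hM he.2.1 hD, ← hcard]
    exact Nat.pow_le_pow_right hM.1.pos (blockDefect_le_centExp hM he.2.1 hχ hw)
  exact this ▸ hD

theorem isDefectGroup_of_isMaximal (hM : IsPModular p M) (h : IsMaximalBrauerPair p M B P e) :
    IsDefectGroup p M B P :=
  isDefectGroup_of_locMax hM h.1 (isMaximal_locMax hM h)

omit [Fact p.Prime] in
theorem exists_maximal_above (hM : IsPModular p M) (h : IsBrauerPairOf p M B Q f) :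
    ∃ (R : Subgroup G) (g : Set (IrrCharacter (Subgroup.centralizer (R : Set G)))),
      SubpairLE p M Q f R g ∧ IsMaximalBrauerPair p M B R g := by
  set S := {R : Subgroup G | ∃ g, SubpairLE p M Q f R g ∧ IsBrauerPairOf p M B R g}
  obtain ⟨R, ⟨g, hle, hg⟩, hRmax⟩ := Set.Finite.exists_maximalFor
    (fun R : Subgroup G => Nat.card R) S (Set.toFinite S) ⟨Q, f, Relation.ReflTransGen.refl, h⟩
  refine ⟨R, g, hle, hg, fun U k hk hRU => ?_⟩
  have hUle := subgroup_le_of_subpairLE hRU
  exact (Subgroup.eq_of_le_of_card_ge hUle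
    (hRmax ⟨k, subpairLE_trans hle hRU, hk⟩ (Subgroup.card_le_of_le hUle))).symm

/-- Every pair of the block is, up to conjugation, below a given maximal one. -/
theorem exists_conj_subpairLE (hM : IsPModular p M) (hmax : IsMaximalBrauerPair p M B P e)
    (h : IsBrauerPairOf p M B Q f) :
    ∃ x : G, SubpairLE p M (Q.map (MulAut.conj x).toMonoidHom) (conjBlock Q x f) P e := by
  obtain ⟨R, g, hle, hR⟩ := exists_maximal_above hM h
  obtain ⟨y, hy⟩ := exists_conj_eq_defectGroup hM h.2.1 (isDefectGroup_of_isMaximal hM hR)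
    (isDefectGroup_of_isMaximal hM hmax)
  have hyg := isBrauerPairOf_conj y hR.1
  subst hy
  obtain ⟨u, hu, hue⟩ := exists_conj_of_locMax hM hmax.1 (isMaximal_locMax hM hmax) hyg
  refine ⟨u * y, ?_⟩
  have h1 : Relation.ReflTransGen (NormalSubpairRel p M) (conjPair (u * y) ⟨Q, f⟩)
      (conjPair (u * y) ⟨R, g⟩) := subpairLE_conj (u * y) hle
  rw [conjPair_mul u y ⟨R, g⟩] at h1
  rw [show conjPair y ⟨R, g⟩ = ⟨R.map (MulAut.conj y).toMonoidHom, conjBlock R y g⟩ from rfl,
    hue] at h1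
  exact h1

end CfsgLib.BrauerPairs
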