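import Cfsg.Agent.Lib.BrauerPairs.Normal
import Cfsg.Agent.Lib.FusionSystem.Alperin
import Cfsg.Agent.Lib.LocalEven.SylowIn

/-!
# Inclusion of Brauer pairs: existence and uniqueness of the pair below, conjugation
-/

set_option autoImplicit false

namespace CfsgLib.BrauerPairs

open Cfsg CfsgLib.Blocks
open scoped Classical ComplexConjugate

variable {G : Type*} [Group G] [Fintype G] {p : ℕ} {M : Ideal AlgInt} {Q R P : Subgroup G}
  {f f' : Set (IrrCharacter (Subgroup.centralizer (Q : Set G)))}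
  {g : Set (IrrCharacter (Subgroup.centralizer (R : Set G)))}
  {e : Set (IrrCharacter (Subgroup.centralizer (P : Set G)))}

omit [Fintype G] in
theorem subgroup_le_of_subpairLE (h : SubpairLE p M Q f P e) : Q ≤ P := by
  have key : ∀ a b : BrauerPairIdx G, Relation.ReflTransGen (NormalSubpairRel p M) a b →
      a.1 ≤ b.1 := by
    intro a b hab
    induction hab with
    | refl => exact le_rfl
    | tail _ h ih => exact ih.trans h.2.2.1
  exact key _ _ h

omit [Fintype G] in
theorem isBrauerPair_of_subpairLE (h : SubpairLE p M Q f P e) (hP : IsBrauerPair p M P e) :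
    IsBrauerPair p M Q f := by
  rcases Relation.ReflTransGen.cases_head h with h | ⟨b, hb, -⟩
  · injection h with h1 h2
    subst h1
    rw [eq_of_heq h2]; exact hP
  · exact hb.1

omit [Fintype G] in
theorem subpairLE_trans {S : Subgroup G} {k : Set (IrrCharacter (Subgroup.centralizer (S : Set G)))}
    (h : SubpairLE p M Q f R g) (h' : SubpairLE p M R g S k) : SubpairLE p M Q f S k :=
  Relation.ReflTransGen.trans h h'

theorem eq_of_normal_self (hM : IsPModular p M) (h : IsNormalSubpair p M Q f Q f') : f = f' := by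
  obtain ⟨⟨-, hf⟩, ⟨-, hf'⟩, -, -, -, h1⟩ := isNormalSubpair_iff.1 h
  obtain ⟨ξ, hξ⟩ := IsPBlock.nonempty hM hf'
  have h2 := h1 ξ hξ
  rw [brauerOmega_bc_self] at h2
  refine IsPBlock.eq_of_mem hM hf hf' ?_ hξ
  by_contra hne
  rw [blockInd_of_notMem hne, zero_sub] at h2
  exact LI.not_one hM (by simpa using LI.neg h2)

/-- A chain starts with a proper normal step unless it is trivial. -/
theorem eq_or_exists_first_step (hM : IsPModular p M) (h : SubpairLE p M Q f P e) :
    (⟨Q, f⟩ : BrauerPairIdx G) = ⟨P, e⟩ ∨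
      ∃ (S : Subgroup G) (k : Set (IrrCharacter (Subgroup.centralizer (S : Set G)))),
        Q < S ∧ IsNormalSubpair p M Q f S k ∧ SubpairLE p M S k P e := by
  have key : ∀ a b : BrauerPairIdx G, Relation.ReflTransGen (NormalSubpairRel p M) a b →
      a = b ∨ ∃ c : BrauerPairIdx G, a.1 < c.1 ∧ NormalSubpairRel p M a c ∧
        Relation.ReflTransGen (NormalSubpairRel p M) c b := by
    intro a b hab
    induction hab using Relation.ReflTransGen.head_induction_on with
    | refl => exact Or.inl rfl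
    | @head a c hac hcb ih =>
      rcases (hac.2.2.1 : a.1 ≤ c.1).lt_or_eq with hlt | heq
      · exact Or.inr ⟨c, hlt, hac, hcb⟩
      · obtain ⟨A, u⟩ := a
        obtain ⟨C, v⟩ := c
        simp only at heq
        subst heq
        have : u = v := eq_of_normal_self hM hac
        subst this
        exact ih
  rcases key _ _ h with h | ⟨⟨S, k⟩, h1, h2, h3⟩
  · exact Or.inl h
  · exact Or.inr ⟨S, k, h1, h2, h3⟩

theorem eq_of_subpairLE_self (hM : IsPModular p M) (h : SubpairLE p M Q f Q f') : f = f' := by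
  rcases eq_or_exists_first_step hM h with h' | ⟨S, k, hlt, -, h'⟩
  · exact eq_of_heq (Sigma.mk.injEq _ _ _ _ ▸ h').2
  · exact absurd (subgroup_le_of_subpairLE h') hlt.not_ge

theorem normal_of_chain_aux (hM : IsPModular p M) (h1 : IsNormalSubpair p M Q f R g)
    (b : BrauerPairIdx G) (h2 : Relation.ReflTransGen (NormalSubpairRel p M) ⟨R, g⟩ b)
    (hb : b.1 ≤ Subgroup.normalizer (Q : Set G)) : IsNormalSubpair p M Q f b.1 b.2 := by
  induction h2 with
  | refl => exact h1
  | @tail c d _ hcd ih => exact isNormalSubpair_trans hM (ih (hcd.2.2.1.trans hb)) hcd hb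

/-- There is exactly one block below a given pair on each smaller subgroup. -/
theorem existsUnique_below [Fact p.Prime] (hM : IsPModular p M) (hP : IsBrauerPair p M P e)
    (hQP : Q ≤ P) :
    ∃! f : Set (IrrCharacter (Subgroup.centralizer (Q : Set G))),
      SubpairLE p M Q f P e := by
  suffices H : ∀ (n : ℕ) (P : Subgroup G) (e : Set (IrrCharacter (Subgroup.centralizer (P : Set G))))
      (Q : Subgroup G), IsBrauerPair p M P e → Q ≤ P → Nat.card P - Nat.card Q ≤ n →
      ∃! f : Set (IrrCharacter (Subgroup.centralizer (Q : Set G))), SubpairLE p M Q f P e from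
    H _ P e Q hP hQP le_rfl
  intro n
  induction n using Nat.strong_induction_on with
  | _ n ih =>
  intro P e Q hP hQP hn
  rcases hQP.lt_or_eq with hlt | rfl
  swap
  · exact ⟨e, Relation.ReflTransGen.refl, fun f hf => eq_of_subpairLE_self hM hf⟩
  set Q1 := P ⊓ Subgroup.normalizer (Q : Set G)
  have hQQ1 : Q < Q1 := CfsgLib.Fsys.lt_normalizerIn hP.1 hlt
  have hQ1N : Q1 ≤ Subgroup.normalizer (Q : Set G) := inf_le_right
  have hcard : ∀ A B : Subgroup G, A < B → Nat.card A < Nat.card B := fun A B h => by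
    by_contra hle
    exact h.ne (Subgroup.eq_of_le_of_card_ge h.le (not_lt.1 hle))
  have hQ1P : Nat.card Q1 ≤ Nat.card P := Subgroup.card_le_of_le inf_le_left
  have hQc := hcard _ _ hQQ1
  obtain ⟨g1, hg1, hg1u⟩ := ih (Nat.card P - Nat.card Q1) (by omega) P e Q1 hP inf_le_left le_rfl
  have hg1p := isBrauerPair_of_subpairLE hg1 hP
  obtain ⟨f, hf, hfu⟩ := existsUnique_normal hM hQQ1.le hQ1N hg1p
  refine ⟨f, subpairLE_trans (Relation.ReflTransGen.single hf) hg1, fun f' hf' => hfu f' ?_⟩
  rcases eq_or_exists_first_step hM hf' with h | ⟨R, g, hQR, hN, hRP⟩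
  · exact absurd (congrArg Sigma.fst h) hlt.ne
  have hRP' := subgroup_le_of_subpairLE hRP
  have hRQ1 : R ≤ Q1 := le_inf hRP' hN.2.2.2.1
  have hRc := hcard _ _ hQR
  have hRP'' : Nat.card R ≤ Nat.card P := Subgroup.card_le_of_le hRP'
  obtain ⟨g', hg', -⟩ := ih (Nat.card Q1 - Nat.card R) (by omega) Q1 g1 R hg1p hRQ1 le_rfl
  obtain ⟨g₀, hg₀, hg₀u⟩ := ih (Nat.card P - Nat.card R) (by omega) P e R hP hRP' le_rfl
  have hgg : g' = g := (hg₀u g' (subpairLE_trans hg' hg1)).trans (hg₀u g hRP).symm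
  subst hgg
  exact normal_of_chain_aux hM hN ⟨Q1, g1⟩ hg' hQ1N

theorem subpairLE_mid [Fact p.Prime] (hM : IsPModular p M) (hP : IsBrauerPair p M P e)
    (hf : SubpairLE p M Q f P e) (hg : SubpairLE p M R g P e) (hQR : Q ≤ R) :
    SubpairLE p M Q f R g := by
  have hgp := isBrauerPair_of_subpairLE hg hP
  obtain ⟨f₁, hf₁, -⟩ := existsUnique_below hM hgp hQR
  rwa [(existsUnique_below hM hP (hQR.trans (subgroup_le_of_subpairLE hg))).unique
    (subpairLE_trans hf₁ hg) hf] at hf₁

theorem normal_of_subpairLE [Fact p.Prime] (hM : IsPModular p M) (hP : IsBrauerPair p M P e)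
    (hf : SubpairLE p M Q f P e) (hPN : P ≤ Subgroup.normalizer (Q : Set G)) :
    IsNormalSubpair p M Q f P e := by
  obtain ⟨f₁, hf₁, -⟩ := existsUnique_normal hM (subgroup_le_of_subpairLE hf) hPN hP
  rwa [(existsUnique_below hM hP (subgroup_le_of_subpairLE hf)).unique
    (Relation.ReflTransGen.single hf₁) hf] at hf₁

/-! ### Pairs of a block -/

theorem isBrauerPairOf_up_normal (hM : IsPModular p M) {B : Set (IrrCharacter G)}
    (h : IsNormalSubpair p M Q f P e) (hB : IsBrauerPairOf p M B Q f) :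
    IsBrauerPairOf p M B P e := by
  obtain ⟨hQf, hPe, hQP, hPN, hfP, hf1⟩ := isNormalSubpair_iff.1 h
  refine ⟨hPe, hB.2.1, fun ξ hξ => ?_⟩
  have hβP := goodAt_blockCoeff hM hB.2.1 P
  have hγP := goodAt_bc hM hQP hQf.2 hfP
  have hcong := brauerOmega_congr ξ hM (hβP.gconv hM hγP) hγP fun c hc =>
    gconv_bc_congr hM hQf.1 (goodAt_blockCoeff hM hB.2.1 Q) (idemAt_blockCoeff hM B Q) hQf.2
      hB.2.2 (centralizer_anti hQP hc)
  have hm := brauerOmega_gconv ξ hM hPe.1 hβP hγP
  have hg := hf1 ξ hξ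
  set a := brauerOmega P (blockCoeff B) (ξ : Subgroup.centralizer (P : Set G) → ℂ)
  set b := brauerOmega P (subgroupBlockCoeff (Subgroup.centralizer (Q : Set G)) f)
    (ξ : Subgroup.centralizer (P : Set G) → ℂ)
  have := LI.sub hM (LI.sub hM (LI.add hM hcong hg) hm)
    (LI.mul_left hM (brauerOmega_LR ξ hM hβP) hg)
  convert this using 1
  ring

theorem exists_block_of_pair (hM : IsPModular p M) (h : IsBrauerPair p M Q f) :
    ∃ B, IsBrauerPairOf p M B Q f := by
  obtain ⟨B, hind⟩ := exists_isInducedBlock_centralizer hM h.1 rfl h.2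
  exact ⟨B, (isBrauerPairOf_iff_induced hM h.1 h.2).2 hind⟩

theorem block_unique (hM : IsPModular p M) {B B' : Set (IrrCharacter G)}
    (h : IsBrauerPairOf p M B Q f) (h' : IsBrauerPairOf p M B' Q f) : B = B' :=
  IsInducedBlock.unique hM ((isBrauerPairOf_iff_induced hM h.1.1 h.1.2).1 h)
    ((isBrauerPairOf_iff_induced hM h'.1.1 h'.1.2).1 h')

theorem isBrauerPairOf_up (hM : IsPModular p M) {B : Set (IrrCharacter G)}
    (h : SubpairLE p M Q f P e) (hB : IsBrauerPairOf p M B Q f) : IsBrauerPairOf p M B P e := by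
  have key : ∀ a b : BrauerPairIdx G, Relation.ReflTransGen (NormalSubpairRel p M) a b →
      IsBrauerPairOf p M B a.1 a.2 → IsBrauerPairOf p M B b.1 b.2 := by
    intro a b hab ha
    induction hab with
    | refl => exact ha
    | tail _ h ih => exact isBrauerPairOf_up_normal hM h ih
  exact key _ _ h hB

theorem isBrauerPairOf_down (hM : IsPModular p M) {B : Set (IrrCharacter G)}
    (h : SubpairLE p M Q f P e) (hB : IsBrauerPairOf p M B P e) : IsBrauerPairOf p M B Q f := by
  obtain ⟨B', hB'⟩ := exists_block_of_pair hM (isBrauerPair_of_subpairLE h hB.1)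
  rwa [block_unique hM hB (isBrauerPairOf_up hM h hB')]

/-! ### Conjugation -/

omit [Fintype G] in
theorem mem_normalizer_map_conj {Q : Subgroup G} {x u : G} :
    x * u * x⁻¹ ∈ Subgroup.normalizer ((Q.map (MulAut.conj x).toMonoidHom : Subgroup G) : Set G)
      ↔ u ∈ Subgroup.normalizer (Q : Set G) := by
  rw [CfsgLib.LocalEven.SylowIn.normalizer_map_conj]
  exact Subgroup.mem_map_iff_mem (MulAut.conj x).injective

theorem isBrauerPair_conj (x : G) (h : IsBrauerPair p M Q f) :
    IsBrauerPair p M (Q.map (MulAut.conj x).toMonoidHom) (conjBlock Q x f) :=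
  ⟨IsPGroup.map h.1 _, isPBlock_conjBlock Q x h.2⟩

theorem isNormalSubpair_conj (x : G) (h : IsNormalSubpair p M Q f P e) :
    IsNormalSubpair p M (Q.map (MulAut.conj x).toMonoidHom) (conjBlock Q x f)
      (P.map (MulAut.conj x).toMonoidHom) (conjBlock P x e) := by
  obtain ⟨hQf, hPe, hQP, hPN, hfP, hf1⟩ := isNormalSubpair_iff.1 h
  refine isNormalSubpair_iff.2 ⟨isBrauerPair_conj x hQf, isBrauerPair_conj x hPe,
    Subgroup.map_mono hQP, ?_, ?_, fun ξ hξ => ?_⟩
  · rintro _ ⟨u, hu, rfl⟩
    exact mem_normalizer_map_conj.2 (hPN hu)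
  · rintro _ ⟨u, hu, rfl⟩ y
    rw [bc_conjBlock', bc_conjBlock']
    have := hfP u hu (x⁻¹ * y * x)
    simpa [mul_assoc] using this
  · rw [brauerOmega_conj P x (β := subgroupBlockCoeff (Subgroup.centralizer (Q : Set G)) f)
      (fun c => bc_conjBlock Q x f c) ξ]
    rw [conjBlock_eq] at hξ
    exact hf1 _ hξ

/-- The conjugate of a pair. -/
def conjPair (x : G) (a : BrauerPairIdx G) : BrauerPairIdx G :=
  ⟨a.1.map (MulAut.conj x).toMonoidHom, conjBlock a.1 x a.2⟩

theorem subpairLE_conj (x : G) (h : SubpairLE p M Q f P e) :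
    SubpairLE p M (Q.map (MulAut.conj x).toMonoidHom) (conjBlock Q x f)
      (P.map (MulAut.conj x).toMonoidHom) (conjBlock P x e) :=
  show Relation.ReflTransGen (NormalSubpairRel p M) (conjPair x ⟨Q, f⟩) (conjPair x ⟨P, e⟩) from
    Relation.ReflTransGen.lift (conjPair x) (fun _ _ h => isNormalSubpair_conj x h) _ _ h

theorem isBrauerPairOf_conj {B : Set (IrrCharacter G)} (x : G)
    (h : IsBrauerPairOf p M B Q f) :
    IsBrauerPairOf p M B (Q.map (MulAut.conj x).toMonoidHom) (conjBlock Q x f) := by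
  refine ⟨isBrauerPair_conj x h.1, h.2.1, fun ξ hξ => ?_⟩
  rw [brauerOmega_conj Q x (β := blockCoeff B) (fun c => blockCoeff_isClassFunction B c x) ξ]
  rw [conjBlock_eq] at hξ
  exact h.2.2 _ hξ

theorem pair_ext {a b : BrauerPairIdx G} (h : a.1 = b.1)
    (hb : ∀ c, subgroupBlockCoeff (Subgroup.centralizer (a.1 : Set G)) a.2 c
      = subgroupBlockCoeff (Subgroup.centralizer (b.1 : Set G)) b.2 c) : a = b := by
  obtain ⟨A, u⟩ := a
  obtain ⟨C, v⟩ := b
  simp only at h
  subst h
  exact congrArg (Sigma.mk A) (bc_injective _ (funext hb))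

theorem conjPair_one (a : BrauerPairIdx G) : conjPair 1 a = a := by
  refine pair_ext (map_conj_of_mem_normalizer (Subgroup.one_mem _)) fun c => ?_
  show subgroupBlockCoeff _ (conjBlock a.1 1 a.2) c = _
  rw [bc_conjBlock']; simp

theorem conjPair_mul (x y : G) (a : BrauerPairIdx G) :
    conjPair (x * y) a = conjPair x (conjPair y a) := by
  refine pair_ext ?_ fun c => ?_
  · show a.1.map _ = (a.1.map _).map _
    rw [Subgroup.map_map]
    congr 1
    ext z
    simp [mul_assoc]
  · show subgroupBlockCoeff _ (conjBlock a.1 (x * y) a.2) c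
      = subgroupBlockCoeff _ (conjBlock _ x (conjBlock a.1 y a.2)) c
    rw [bc_conjBlock', bc_conjBlock', bc_conjBlock']
    simp [mul_assoc]

end CfsgLib.BrauerPairs
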