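import Cfsg.Agent.Lib.BrauerPairs.Conj

/-!
# Subgroups of subgroups
-/

set_option autoImplicit false

namespace CfsgLib.BrauerPairs

open Cfsg CfsgLib.Blocks
open scoped Classical ComplexConjugate

variable {G : Type*} [Group G] [Fintype G] {M : Ideal AlgInt} {H L' : Subgroup G} {L : Subgroup H}

/-- A subgroup of a subgroup, seen in the group. -/
def nestIso (hle : L' ≤ H) (h : ∀ x : H, (x : G) ∈ L' ↔ x ∈ L) : L ≃* L' where
  toFun x := ⟨((x : H) : G), (h _).2 x.2⟩
  invFun x := ⟨⟨x, hle x.2⟩, (h _).1 x.2⟩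
  left_inv _ := rfl
  right_inv _ := rfl
  map_mul' _ _ := rfl

theorem bc_image_nestIso (hle : L' ≤ H) (h : ∀ x : H, (x : G) ∈ L' ↔ x ∈ L)
    (e : Set (IrrCharacter L')) (x : H) :
    subgroupBlockCoeff L (irrEquiv (nestIso hle h) '' e) x = subgroupBlockCoeff L' e (x : G) := by
  by_cases hx : x ∈ L
  · rw [bc_of_mem hx, bc_of_mem ((h x).2 hx), blockCoeff_image]; rfl
  · rw [bc_of_notMem hx, bc_of_notMem fun hc => hx ((h x).1 hc)]

theorem exists_block_nested (hle : L' ≤ H) (h : ∀ x : H, (x : G) ∈ L' ↔ x ∈ L)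
    {e : Set (IrrCharacter L')} (he : IsPBlock M e) :
    ∃ e₁ : Set (IrrCharacter L), IsPBlock M e₁ ∧
      ∀ x : H, subgroupBlockCoeff L e₁ x = subgroupBlockCoeff L' e (x : G) :=
  ⟨_, isPBlock_image _ he, bc_image_nestIso hle h e⟩

theorem exists_block_unnested (hle : L' ≤ H) (h : ∀ x : H, (x : G) ∈ L' ↔ x ∈ L)
    {e₁ : Set (IrrCharacter L)} (he : IsPBlock M e₁) :
    ∃ e : Set (IrrCharacter L'), IsPBlock M e ∧
      ∀ x : H, subgroupBlockCoeff L e₁ x = subgroupBlockCoeff L' e (x : G) := by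
  refine ⟨_, isPBlock_image (nestIso hle h).symm he, fun x => ?_⟩
  by_cases hx : x ∈ L
  · rw [bc_of_mem hx, bc_of_mem ((h x).2 hx), blockCoeff_image]
    exact congrArg _ ((nestIso hle h).symm_apply_apply ⟨x, hx⟩).symm
  · rw [bc_of_notMem hx, bc_of_notMem fun hc => hx ((h x).1 hc)]

omit [Fintype G] in
theorem coe_mem_centralizer_iff {H : Subgroup G} {R : Subgroup H} {R' : Subgroup G}
    (hR : R.map H.subtype = R') (x : H) :
    (x : G) ∈ Subgroup.centralizer (R' : Set G) ↔ x ∈ Subgroup.centralizer (R : Set H) := by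
  subst hR
  simp only [Subgroup.mem_centralizer_iff, Subgroup.coe_map, Set.forall_mem_image]
  refine forall₂_congr fun r _ => ?_
  rw [Subtype.ext_iff]
  rfl

omit [Fintype G] in
theorem mem_centralizer_subgroupOf_iff {H R : Subgroup G} (hR : R ≤ H) (x : H) :
    x ∈ Subgroup.centralizer (R.subgroupOf H : Set H)
      ↔ (x : G) ∈ Subgroup.centralizer (R : Set G) :=
  (coe_mem_centralizer_iff (Subgroup.map_subgroupOf_eq_of_le hR) x).symm

end CfsgLib.BrauerPairs
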