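import Cfsg.Agent.Lib.BrauerPairs.Maximal
import Cfsg.Agent.Lib.BrauerPairs.Nested
import Cfsg.Agent.Lib.Blocks.NormalP

/-!
# The block of the stabilizer of a pair, and its defect groups
-/

set_option autoImplicit false

namespace CfsgLib.BrauerPairs

open Cfsg CfsgLib.Blocks
open scoped Classical ComplexConjugate

variable {G : Type*} [Group G] [Fintype G] {p : ℕ} {M : Ideal AlgInt} {Q P T : Subgroup G}
  {B : Set (IrrCharacter G)} {f : Set (IrrCharacter (Subgroup.centralizer (Q : Set G)))}
  {e : Set (IrrCharacter (Subgroup.centralizer (P : Set G)))}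

theorem eq_zero_or_one_of_sq {w : ℂ} (h : w * w = w) : w = 0 ∨ w = 1 := by
  rcases mul_eq_zero.1 (show w * (w - 1) = 0 by rw [mul_sub_one, h, sub_self]) with h0 | h1
  · exact Or.inl h0
  · exact Or.inr (sub_eq_zero.1 h1)

/-- Data: a subgroup between a pair and its stabilizer. -/
structure StabHyp (p : ℕ) (M : Ideal AlgInt) (Q T : Subgroup G)
    (f : Set (IrrCharacter (Subgroup.centralizer (Q : Set G)))) : Prop where
  pair : IsBrauerPair p M Q f
  le : Q ≤ T
  cent : Subgroup.centralizer (Q : Set G) ≤ T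
  norm : T ≤ Subgroup.normalizer (Q : Set G)
  fix : ∀ t ∈ T, Fixes t (subgroupBlockCoeff (Subgroup.centralizer (Q : Set G)) f)

theorem normalizer_subgroupOf_normal (hQT : T ≤ Subgroup.normalizer (Q : Set G)) :
    (Q.subgroupOf T).Normal :=
  ⟨fun n hn t => (Subgroup.mem_normalizer_iff.1 (hQT t.2) _).1 hn⟩

theorem blockCoeff_eq_zero_of_notMem (hM : IsPModular p M) (h : StabHyp p M Q T f)
    {F : Set (IrrCharacter T)} (hF : IsPBlock M F) {t : T}
    (ht : (t : G) ∉ Subgroup.centralizer (Q : Set G)) : blockCoeff F t = 0 := by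
  haveI := normalizer_subgroupOf_normal h.norm
  exact blockCoeff_eq_zero_of_notMem_centralizer (P := Q.subgroupOf T) hM
    (IsPGroup.comap_subtype (K := T) h.pair.1) hF
    fun hc => ht ((mem_centralizer_subgroupOf_iff h.le t).1 hc)

/-- The coefficients of `f` are those of a block of the stabilizer. -/
theorem exists_stabBlock (hM : IsPModular p M) (h : StabHyp p M Q T f) :
    ∃ F : Set (IrrCharacter T), IsPBlock M F ∧
      ∀ t : T, blockCoeff F t
        = subgroupBlockCoeff (Subgroup.centralizer (Q : Set G)) f (t : G) := by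
  set ft : T → ℂ := fun t => subgroupBlockCoeff (Subgroup.centralizer (Q : Set G)) f (t : G)
    with hft
  have hcl : IsClassFunction T ft := fun t u => h.fix u u.2 t
  have hR : ∀ t, MemLocalRing M (ft t) := fun t => bc_LR hM h.pair.2 _
  have hsupp : ∀ x ∉ T, subgroupBlockCoeff (Subgroup.centralizer (Q : Set G)) f x = 0 :=
    fun x hx => bc_of_notMem (fun hc => hx (h.cent hc)) f
  have hconv : gconv ft ft = ft := by
    funext c
    have h1 := congrFun (gconv_bc (Subgroup.centralizer (Q : Set G)) f f) (c : G)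
    rw [Set.inter_self, gconv, sum_supported hsupp] at h1
    exact h1
  have h01 : ∀ χ : IrrCharacter T, omega (χ : T → ℂ) ft = 0 ∨ omega (χ : T → ℂ) ft = 1 := fun χ =>
    eq_zero_or_one_of_sq (by rw [← omega_gconv χ hcl hcl, hconv])
  set F : Set (IrrCharacter T) := {χ | omega (χ : T → ℂ) ft = 1}
  have hInd : ∀ χ : IrrCharacter T, blockInd F χ = omega (χ : T → ℂ) ft := fun χ => by
    rcases h01 χ with h0 | h1
    · rw [h0, blockInd_of_notMem]
      intro hχ
      exact zero_ne_one (h0.symm.trans hχ)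
    · rw [h1, blockInd_of_mem (show χ ∈ F from h1)]
  have hFc : ∀ t : T, blockCoeff F t = ft t := fun t => by
    rw [blockCoeff_eq_fourierInv, show blockInd F = fun χ : IrrCharacter T => omega (χ : T → ℂ) ft
      from funext hInd, fourierInv_omega hcl]
  refine ⟨F, ?_, hFc⟩
  obtain ⟨χ, hχ⟩ : F.Nonempty := by
    by_contra hne
    rw [Set.not_nonempty_iff_eq_empty] at hne
    refine bc_ne_zero hM h.pair.2 ?_
    have h1 := hFc 1
    rw [hne, blockCoeff_empty] at h1
    exact h1.symm
  refine ⟨χ, ?_⟩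
  set B₁ := blockOf M (χ : T → ℂ)
  have hB₁ : IsPBlock M B₁ := isPBlock_blockOf χ
  have hχB : χ ∈ B₁ := SameBlock_refl hM _
  have hsub : B₁ ⊆ F := fun ψ hψ => by
    rcases h01 ψ with h0 | h1
    · have h2 := omega_congr hM (IsPBlock.sameBlock hM hB₁ hχB hψ) hcl hR
      rw [h0, show omega (χ : T → ℂ) ft = 1 from hχ, sub_zero] at h2
      exact absurd h2 (LI.not_one hM)
    · exact h1
  set w : Subgroup.centralizer (Q : Set G) → ℂ := fun c => blockCoeff B₁ ⟨c, h.cent c.2⟩
  have hwcl : IsClassFunction (Subgroup.centralizer (Q : Set G)) w := fun x y =>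
    blockCoeff_isClassFunction B₁ ⟨x, h.cent x.2⟩ ⟨y, h.cent y.2⟩
  have hwg : ∀ (γ : T → ℂ) (c : Subgroup.centralizer (Q : Set G)),
      gconv (blockCoeff B₁) γ ⟨c, h.cent c.2⟩
        = gconv w (fun d : Subgroup.centralizer (Q : Set G) => γ ⟨d, h.cent d.2⟩) c := by
    intro γ c
    simp only [gconv]
    rw [sum_supported (K := (Subgroup.centralizer (Q : Set G)).subgroupOf T)
      (fun t ht => blockCoeff_eq_zero_of_notMem hM h hB₁ ht)]
    exact Fintype.sum_equiv (Subgroup.subgroupOfEquivOfLe h.cent).toEquiv _ _ fun k => rfl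
  have hww : gconv w w = w := funext fun c => by
    have h1 := hwg (blockCoeff B₁) c
    rw [gconv_blockCoeff, Set.inter_self] at h1
    exact h1.symm
  have hwe : gconv w (blockCoeff f) = w := funext fun c => by
    have h1 := hwg ft c
    rw [← funext hFc, gconv_blockCoeff, Set.inter_eq_left.2 hsub] at h1
    have e : (fun d : Subgroup.centralizer (Q : Set G) => blockCoeff F ⟨d, h.cent d.2⟩)
        = blockCoeff f := funext fun d => by
      rw [hFc]; exact bc_coe _ f d
    rw [e] at h1
    exact h1.symm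
  obtain ⟨η₀, hη₀⟩ : ∃ η : IrrCharacter (Subgroup.centralizer (Q : Set G)),
      omega (η : _ → ℂ) w ≠ 0 := by
    by_contra hcon
    push Not at hcon
    refine blockCoeff_one_ne_zero hM hB₁ ?_
    have h1 : fourierInv (fun η : IrrCharacter (Subgroup.centralizer (Q : Set G)) =>
        omega (η : _ → ℂ) w) 1 = w 1 := congrFun (fourierInv_omega hwcl) 1
    simp only [hcon, fourierInv, zero_mul, Finset.sum_const_zero, mul_zero] at h1
    exact h1.symm
  have hval : ∀ η : IrrCharacter (Subgroup.centralizer (Q : Set G)),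
      omega (η : _ → ℂ) w = blockInd f η := by
    have hmul : ∀ η : IrrCharacter (Subgroup.centralizer (Q : Set G)),
        omega (η : _ → ℂ) w = omega (η : _ → ℂ) w * blockInd f η := fun η => by
      conv_lhs => rw [← hwe, omega_gconv η hwcl (blockCoeff_isClassFunction f), omega_blockCoeff]
    have h01w : ∀ η : IrrCharacter (Subgroup.centralizer (Q : Set G)),
        omega (η : _ → ℂ) w = 0 ∨ omega (η : _ → ℂ) w = 1 := fun η =>
      eq_zero_or_one_of_sq (by rw [← omega_gconv η hwcl hwcl, hww])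
    intro η
    by_cases hη : η ∈ f
    · rw [blockInd_of_mem hη]
      have hη₀f : η₀ ∈ f := by
        by_contra hn
        exact hη₀ (by rw [hmul, blockInd_of_notMem hn, mul_zero])
      rcases h01w η with h0 | h1
      · have h2 := omega_congr hM (IsPBlock.sameBlock hM h.pair.2 hη₀f hη) hwcl
          fun c => blockCoeff_LR hM hB₁ _
        rw [h0, (h01w η₀).resolve_left hη₀, sub_zero] at h2
        exact absurd h2 (LI.not_one hM)
      · exact h1
    · rw [hmul, blockInd_of_notMem hη, mul_zero]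
  have hwf : ∀ c, w c = blockCoeff f c := fun c => by
    rw [blockCoeff_eq_fourierInv, ← funext hval, fourierInv_omega hwcl]
  refine blockCoeff_injective (funext fun t => ?_)
  show blockCoeff F t = blockCoeff B₁ t
  by_cases ht : (t : G) ∈ Subgroup.centralizer (Q : Set G)
  · rw [hFc, hft]
    simp only
    rw [bc_of_mem ht, ← hwf ⟨t, ht⟩]
  · rw [hFc, hft, blockCoeff_eq_zero_of_notMem hM h hB₁ ht]
    exact bc_of_notMem ht f

variable {F : Set (IrrCharacter T)}

theorem exists_defect_ge_stab (hM : IsPModular p M) (hF : IsPBlock M F)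
    (hFc : ∀ t : T, blockCoeff F t = subgroupBlockCoeff (Subgroup.centralizer (Q : Set G)) f (t : G))
    {R : Subgroup G} (hR : IsPGroup p R) (hRT : R ≤ T)
    (hcent : Subgroup.centralizer (Q : Set G) ≤ T)
    (hunit : ∃ c ∈ Subgroup.centralizer (R : Set G),
      ¬ MemLocalIdeal M (subgroupBlockCoeff (Subgroup.centralizer (Q : Set G)) f c)) :
    ∃ D : Subgroup T, IsDefectGroup p M F D ∧ R.subgroupOf T ≤ D := by
  obtain ⟨c, hc, hne⟩ := hunit
  have hcQ : c ∈ Subgroup.centralizer (Q : Set G) := by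
    by_contra hn
    exact hne (by rw [bc_of_notMem hn]; exact LI.zero hM)
  refine exists_isDefectGroup_ge hM hF (IsPGroup.comap_subtype (K := T) hR)
    (c := ⟨c, hcent hcQ⟩) ((mem_centralizer_subgroupOf_iff hRT _).2 hc) ?_
  rw [hFc]; exact hne

/-- A unit coefficient over a normal step from a pair. -/
theorem exists_unit_of_normal (hM : IsPModular p M) (h : IsNormalSubpair p M Q f P e) :
    ∃ c ∈ Subgroup.centralizer (P : Set G),
      ¬ MemLocalIdeal M (subgroupBlockCoeff (Subgroup.centralizer (Q : Set G)) f c) := by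
  obtain ⟨hQf, hPe, hQP, -, hfix, h1⟩ := isNormalSubpair_iff.1 h
  by_contra hcon
  push Not at hcon
  obtain ⟨ξ, hξ⟩ := IsPBlock.nonempty hM hPe.2
  have h2 := LI.sub hM (brauerOmega_LI ξ hM (goodAt_bc hM hQP hQf.2 hfix) hcon) (h1 ξ hξ)
  rw [sub_sub_cancel] at h2
  exact LI.not_one hM h2

/-- A defect group of the block of the stabilizer gives a pair above. -/
theorem stab_defect_data (hM : IsPModular p M) (h : StabHyp p M Q T f) (hF : IsPBlock M F)
    (hFc : ∀ t : T, blockCoeff F t = subgroupBlockCoeff (Subgroup.centralizer (Q : Set G)) f (t : G))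
    {D : Subgroup T} (hD : IsDefectGroup p M F D) :
    Q ≤ D.map T.subtype ∧ ∃ c ∈ Subgroup.centralizer ((D.map T.subtype : Subgroup G) : Set G),
      ¬ MemLocalIdeal M (subgroupBlockCoeff (Subgroup.centralizer (Q : Set G)) f c) := by
  obtain ⟨c, hc, hcl⟩ := exists_unit_coeff_centralizer hM hD
  have hne : ¬ MemLocalIdeal M
      (subgroupBlockCoeff (Subgroup.centralizer (Q : Set G)) f (c : G)) := by
    rw [← hFc]; exact hcl.2.1
  have hcD : (c : G) ∈ Subgroup.centralizer ((D.map T.subtype : Subgroup G) : Set G) :=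
    (coe_mem_centralizer_iff rfl c).2 hc
  refine ⟨?_, c, hcD, hne⟩
  have hcQ : (c : G) ∈ Subgroup.centralizer (Q : Set G) := by
    by_contra hn
    exact hne (by rw [bc_of_notMem hn]; exact LI.zero hM)
  have hDN : D.map T.subtype ≤ Subgroup.normalizer (Q : Set G) :=
    (Subgroup.map_subtype_le D).trans h.norm
  have hS : IsPGroup p (Q ⊔ D.map T.subtype : Subgroup G) := by
    rw [sup_comm]
    exact (IsPGroup.map (isPGroup_defectGroup hD) _).to_sup_of_normal_right' h.pair.1 hDN
  obtain ⟨D', hD', hle⟩ := exists_defect_ge_stab hM hF hFc hS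
    (sup_le h.le (Subgroup.map_subtype_le D)) h.cent ⟨c, Subgroup.mem_centralizer_iff.2 fun u hu => by
      have : Q ⊔ D.map T.subtype ≤ Subgroup.centralizer ({(c : G)} : Set G) := sup_le
        (fun q hq => Subgroup.mem_centralizer_singleton_iff.2
          (Subgroup.mem_centralizer_iff.1 hcQ q hq))
        (fun q hq => Subgroup.mem_centralizer_singleton_iff.2
          (Subgroup.mem_centralizer_iff.1 hcD q hq))
      exact Subgroup.mem_centralizer_singleton_iff.1 (this hu), hne⟩
  have hDD : D = D' := Subgroup.eq_of_le_of_card_ge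
    (fun d hd => hle (Subgroup.mem_sup_right ⟨d, hd, rfl⟩))
    (by rw [card_defectGroup hM hF hD, card_defectGroup hM hF hD'])
  subst hDD
  exact fun q hq => ⟨⟨q, h.le hq⟩, hle (Subgroup.mem_sup_left (T := D.map T.subtype) hq), rfl⟩

variable [Fact p.Prime]

/-- A normal overgroup with unit coefficient moves, with the pair, below the maximal pair. -/
theorem exists_conj_le_maximal (hM : IsPModular p M) (hmax : IsMaximalBrauerPair p M B P e)
    (hQB : IsBrauerPairOf p M B Q f) {S : Subgroup G} (hS : IsPGroup p S) (hQS : Q ≤ S)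
    (hSN : S ≤ Subgroup.normalizer (Q : Set G))
    (hfix : ∀ s ∈ S, Fixes s (subgroupBlockCoeff (Subgroup.centralizer (Q : Set G)) f))
    (hunit : ∃ c ∈ Subgroup.centralizer (S : Set G),
      ¬ MemLocalIdeal M (subgroupBlockCoeff (Subgroup.centralizer (Q : Set G)) f c)) :
    ∃ x : G, SubpairLE p M (Q.map (MulAut.conj x).toMonoidHom) (conjBlock Q x f) P e ∧
      S.map (MulAut.conj x).toMonoidHom ≤ P := by
  obtain ⟨g, hg⟩ := exists_normal_above hM hQB.1 hS hQS hSN hfix hunit
  obtain ⟨x, hx⟩ := exists_conj_subpairLE hM hmax (isBrauerPairOf_up_normal hM hg hQB)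
  exact ⟨x, subpairLE_trans (subpairLE_conj x (Relation.ReflTransGen.single hg)) hx,
    subgroup_le_of_subpairLE hx⟩

theorem exists_normal_between (hM : IsPModular p M) (hPe : IsBrauerPair p M P e)
    (hle : SubpairLE p M Q f P e) {S : Subgroup G} (hQS : Q ≤ S) (hSP : S ≤ P)
    (hSN : S ≤ Subgroup.normalizer (Q : Set G)) :
    ∃ g : Set (IrrCharacter (Subgroup.centralizer (S : Set G))),
      IsNormalSubpair p M Q f S g := by
  obtain ⟨g, hg, -⟩ := existsUnique_below hM hPe hSP
  exact ⟨g, normal_of_subpairLE hM (isBrauerPair_of_subpairLE hg hPe)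
    (subpairLE_mid hM hPe hle hg hQS) hSN⟩

/-- `C_P(Q)` lies in a defect group of the block below on `Q`. -/
theorem exists_defect_ge_centralizer (hM : IsPModular p M) (hPe : IsBrauerPair p M P e)
    (hle : SubpairLE p M Q f P e) :
    ∃ D : Subgroup (Subgroup.centralizer (Q : Set G)), IsDefectGroup p M f D ∧
      (P ⊓ Subgroup.centralizer (Q : Set G)).subgroupOf (Subgroup.centralizer (Q : Set G)) ≤ D := by
  have hQP := subgroup_le_of_subpairLE hle
  have hQf := isBrauerPair_of_subpairLE hle hPe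
  set S := Q ⊔ (P ⊓ Subgroup.centralizer (Q : Set G))
  obtain ⟨g, hg⟩ := exists_normal_between hM hPe hle (S := S) le_sup_left (sup_le hQP inf_le_left)
    (sup_le Subgroup.le_normalizer (inf_le_right.trans (centralizer_le_normalizer Q)))
  obtain ⟨c, hc, hne⟩ := exists_unit_of_normal hM hg
  have hcQ : c ∈ Subgroup.centralizer (Q : Set G) := centralizer_anti le_sup_left hc
  refine exists_isDefectGroup_ge hM hQf.2
    (IsPGroup.comap_subtype (K := Subgroup.centralizer (Q : Set G)) (hPe.1.to_le inf_le_left))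
    (c := ⟨c, hcQ⟩) ((mem_centralizer_subgroupOf_iff inf_le_right _).2
      (centralizer_anti le_sup_right hc)) ?_
  rw [← bc_coe]; exact hne

theorem stabHyp_inf (hM : IsPModular p M) (hPe : IsBrauerPair p M P e)
    (hle : SubpairLE p M Q f P e) :
    Q ≤ P ⊓ Subgroup.normalizer (Q : Set G) ∧
      (∀ s ∈ P ⊓ Subgroup.normalizer (Q : Set G),
        Fixes s (subgroupBlockCoeff (Subgroup.centralizer (Q : Set G)) f)) ∧
      ∃ c ∈ Subgroup.centralizer ((P ⊓ Subgroup.normalizer (Q : Set G) : Subgroup G) : Set G),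
        ¬ MemLocalIdeal M (subgroupBlockCoeff (Subgroup.centralizer (Q : Set G)) f c) := by
  have hQS : Q ≤ P ⊓ Subgroup.normalizer (Q : Set G) :=
    le_inf (subgroup_le_of_subpairLE hle) Subgroup.le_normalizer
  obtain ⟨g, hg⟩ := exists_normal_between hM hPe hle hQS inf_le_left inf_le_right
  exact ⟨hQS, (isNormalSubpair_iff.1 hg).2.2.2.2.1, exists_unit_of_normal hM hg⟩

theorem stabHyp_of_iff (hQf : IsBrauerPair p M Q f) (hM : IsPModular p M)
    (hT : ∀ y : G, y ∈ T ↔ y ∈ Subgroup.normalizer (Q : Set G)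
      ∧ StabilizesBlock (Subgroup.centralizer (Q : Set G)) f y) : StabHyp p M Q T f where
  pair := hQf
  le q hq := (hT q).2 ⟨Subgroup.le_normalizer hq, (stabilizesBlock_iff _ f q).2
    ⟨normalizer_le_normalizer_centralizer Q (Subgroup.le_normalizer hq),
      (goodAt_bc_self hM hQf.2).fixP q hq⟩⟩
  cent c hc := (hT c).2 ⟨centralizer_le_normalizer Q hc, (stabilizesBlock_iff _ f c).2
    ⟨Subgroup.le_normalizer hc, bc_fixes_of_mem hc f⟩⟩
  norm t ht := ((hT t).1 ht).1
  fix t ht := ((stabilizesBlock_iff _ f t).1 ((hT t).1 ht).2).2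

theorem mem_stab_iff
    (hT : ∀ y : G, y ∈ T ↔ y ∈ Subgroup.normalizer (Q : Set G)
      ∧ StabilizesBlock (Subgroup.centralizer (Q : Set G)) f y) (y : G) :
    y ∈ T ↔ y ∈ Subgroup.normalizer (Q : Set G)
      ∧ Fixes y (subgroupBlockCoeff (Subgroup.centralizer (Q : Set G)) f) := by
  rw [hT]
  exact and_congr_right fun hy => (stabilizesBlock_iff _ f y).trans
    (and_iff_right (normalizer_le_normalizer_centralizer Q hy))

theorem exists_defect_ge_normalizer (hM : IsPModular p M) (hPe : IsBrauerPair p M P e)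
    (hle : SubpairLE p M Q f P e)
    (hT : ∀ y : G, y ∈ T ↔ y ∈ Subgroup.normalizer (Q : Set G)
      ∧ StabilizesBlock (Subgroup.centralizer (Q : Set G)) f y)
    (hF : IsPBlock M F)
    (hFc : ∀ t : T, blockCoeff F t
      = subgroupBlockCoeff (Subgroup.centralizer (Q : Set G)) f (t : G)) :
    ∃ D : Subgroup T, IsDefectGroup p M F D ∧
      (P ⊓ Subgroup.normalizer (Q : Set G)).subgroupOf T ≤ D := by
  obtain ⟨hQS, hfix, hunit⟩ := stabHyp_inf hM hPe hle
  exact exists_defect_ge_stab hM hF hFc (hPe.1.to_le inf_le_left)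
    (fun s hs => (mem_stab_iff hT s).2 ⟨hs.2, hfix s hs⟩)
    (stabHyp_of_iff (isBrauerPair_of_subpairLE hle hPe) hM hT).cent hunit

theorem isDefectGroup_conjBlock (x : G) {D : Subgroup (Subgroup.centralizer (Q : Set G))}
    (hD : IsDefectGroup p M f D) :
    IsDefectGroup p M (conjBlock Q x f) (D.map (centIso Q x).toMonoidHom) :=
  isDefectGroup_map (centIso Q x) (by rw [image_conjBlock]; exact hD)

/-- Some conjugate below the maximal pair has `C_P(Q)` as a defect group. -/
theorem exists_conj_centralizer_defect (hM : IsPModular p M)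
    (hmax : IsMaximalBrauerPair p M B P e) (hQB : IsBrauerPairOf p M B Q f) :
    ∃ x : G, SubpairLE p M (Q.map (MulAut.conj x).toMonoidHom) (conjBlock Q x f) P e ∧
      IsDefectGroup p M (conjBlock Q x f)
        ((P ⊓ Subgroup.centralizer ((Q.map (MulAut.conj x).toMonoidHom : Subgroup G) : Set G)).subgroupOf
          (Subgroup.centralizer ((Q.map (MulAut.conj x).toMonoidHom : Subgroup G) : Set G))) := by
  obtain ⟨D, hD⟩ := exists_isDefectGroup hM hQB.1.2
  obtain ⟨c, hc, hcl⟩ := exists_unit_coeff_centralizer hM hD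
  set D' := D.map (Subgroup.centralizer (Q : Set G)).subtype
  have hD'C : D' ≤ Subgroup.centralizer (Q : Set G) := Subgroup.map_subtype_le D
  have hS : IsPGroup p (Q ⊔ D' : Subgroup G) := by
    rw [sup_comm]
    exact (IsPGroup.map (isPGroup_defectGroup hD) _).to_sup_of_normal_right' hQB.1.1
      (hD'C.trans (centralizer_le_normalizer Q))
  have hQs := goodAt_bc_self (P := Q) hM hQB.1.2
  obtain ⟨x, hx, hxS⟩ := exists_conj_le_maximal hM hmax hQB hS le_sup_left
    (sup_le Subgroup.le_normalizer (hD'C.trans (centralizer_le_normalizer Q)))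
    (fun s hs => by
      let U : Subgroup G :=
        { carrier := {u | Fixes u (subgroupBlockCoeff (Subgroup.centralizer (Q : Set G)) f)}
          one_mem' := fun z => by simp
          mul_mem' := fun ha hb => Fixes.mul ha hb
          inv_mem' := fun ha => Fixes.inv ha }
      exact (show Q ⊔ D' ≤ U from sup_le (fun q hq => hQs.fixP q hq)
        fun q hq => hQs.fixC q (hD'C hq)) hs)
    ⟨c, Subgroup.mem_centralizer_iff.2 fun u hu => by
      have hcD : (c : G) ∈ Subgroup.centralizer ((D' : Subgroup G) : Set G) :=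
        (coe_mem_centralizer_iff rfl c).2 hc
      have : Q ⊔ D' ≤ Subgroup.centralizer ({(c : G)} : Set G) := sup_le
        (fun q hq => Subgroup.mem_centralizer_singleton_iff.2
          (Subgroup.mem_centralizer_iff.1 c.2 q hq))
        (fun q hq => Subgroup.mem_centralizer_singleton_iff.2
          (Subgroup.mem_centralizer_iff.1 hcD q hq))
      exact Subgroup.mem_centralizer_singleton_iff.1 (this hu),
      by rw [bc_coe]; exact hcl.2.1⟩
  refine ⟨x, hx, ?_⟩
  obtain ⟨E, hE, hPE⟩ := exists_defect_ge_centralizer hM hmax.1.1 hx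
  have hDx := isDefectGroup_conjBlock x hD
  have h1 : D.map (centIso Q x).toMonoidHom
      ≤ (P ⊓ Subgroup.centralizer ((Q.map (MulAut.conj x).toMonoidHom : Subgroup G) : Set G)).subgroupOf
        (Subgroup.centralizer ((Q.map (MulAut.conj x).toMonoidHom : Subgroup G) : Set G)) := by
    rintro _ ⟨d, hd, rfl⟩
    exact ⟨hxS ⟨(d : G), Subgroup.mem_sup_right ⟨d, hd, rfl⟩, rfl⟩, (centIso Q x d).2⟩
  have hcard : D.map (centIso Q x).toMonoidHom = E :=
    Subgroup.eq_of_le_of_card_ge (h1.trans hPE)
      (by rw [card_defectGroup hM (isPBlock_conjBlock Q x hQB.1.2) hE,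
        card_defectGroup hM (isPBlock_conjBlock Q x hQB.1.2) hDx])
  rwa [← le_antisymm h1 (hcard ▸ hPE)]

end CfsgLib.BrauerPairs
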