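import Cfsg.Agent.Lib.BrauerPairs.Fusion

/-!
# Brauer pairs of the principal block
-/

set_option autoImplicit false

namespace CfsgLib.BrauerPairs

open Cfsg CfsgLib.Blocks
open scoped Classical ComplexConjugate

variable {G : Type*} [Group G] [Fintype G] {p : ℕ} {M : Ideal AlgInt}

theorem isBrauerPairOf_principal_iff (hM : IsPModular p M) {Q : Subgroup G} (hQ : IsPGroup p Q)
    {f : Set (IrrCharacter (Subgroup.centralizer (Q : Set G)))} :
    IsBrauerPairOf p M (principalBlock M G) Q f
      ↔ f = principalBlock M (Subgroup.centralizer (Q : Set G)) := by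
  have hdeg : ∀ (H : Type _) [Group H] [Fintype H], degVal p (trivChar H) = 0 := fun H _ _ => by
    have : charDegree (trivChar H : H → ℂ) = 1 := by simp [charDegree]
    rw [degVal, this, Nat.factorization_one]; rfl
  have hres : IsIrrCharacter (Subgroup.centralizer (Q : Set G))
      (fun h : Subgroup.centralizer (Q : Set G) => (trivChar G : G → ℂ) h) :=
    (trivChar (Subgroup.centralizer (Q : Set G))).2
  have key : ∀ f' : Set (IrrCharacter (Subgroup.centralizer (Q : Set G))), IsPBlock M f' →
      (IsInducedBlock M (Subgroup.centralizer (Q : Set G)) f' (principalBlock M G)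
        ↔ f' = principalBlock M (Subgroup.centralizer (Q : Set G))) := fun f' hf' =>
    isInducedBlock_iff_res hM hres
      ((hdeg G).trans (minDegVal_principalBlock hM).symm)
      ((hdeg (Subgroup.centralizer (Q : Set G))).trans (minDegVal_principalBlock hM).symm)
      (exists_isInducedBlock_centralizer hM hQ rfl hf')
  constructor
  · intro h
    exact (key f h.1.2).1 ((isBrauerPairOf_iff_induced hM hQ h.1.2).1 h)
  · rintro rfl
    exact (isBrauerPairOf_iff_induced hM hQ isPBlock_principalBlock).2
      ((key _ isPBlock_principalBlock).2 rfl)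

theorem conjPair_principal (hM : IsPModular p M) (g : G) (Q : Subgroup G) :
    conjPair g ⟨Q, principalBlock M (Subgroup.centralizer (Q : Set G))⟩
      = ⟨Q.map (MulAut.conj g).toMonoidHom, principalBlock M _⟩ := by
  refine congrArg (Sigma.mk (Q.map (MulAut.conj g).toMonoidHom)) ?_
  refine IsPBlock.eq_of_mem hM (isPBlock_conjBlock Q g isPBlock_principalBlock)
    isPBlock_principalBlock ?_ (trivChar_mem_principalBlock hM)
  rw [conjBlock_eq, Set.mem_preimage]
  have : irrEquiv (centIso Q g) (trivChar _) = trivChar (Subgroup.centralizer (Q : Set G)) :=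
    Subtype.ext (funext fun _ => rfl)
  rw [this]
  exact trivChar_mem_principalBlock hM

theorem stabilizes_principal (hM : IsPModular p M) {Q : Subgroup G} {g : G}
    (hg : g ∈ Subgroup.normalizer (Q : Set G)) :
    StabilizesBlock (Subgroup.centralizer (Q : Set G))
      (principalBlock M (Subgroup.centralizer (Q : Set G))) g := by
  refine (stabilizesBlock_iff _ _ g).2 ⟨normalizer_le_normalizer_centralizer Q hg, fun z => ?_⟩
  have h0 : (⟨Q.map (MulAut.conj g).toMonoidHom, principalBlock M _⟩ : BrauerPairIdx G)
      = ⟨Q, principalBlock M _⟩ :=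
    congrArg (fun R : Subgroup G =>
      (⟨R, principalBlock M (Subgroup.centralizer (R : Set G))⟩ : BrauerPairIdx G))
      (map_conj_of_mem_normalizer hg)
  have h1 := congrFun (congrArg (fun a : BrauerPairIdx G =>
    subgroupBlockCoeff (Subgroup.centralizer (a.1 : Set G)) a.2)
      ((conjPair_principal hM g Q).trans h0)) (g * z * g⁻¹)
  simp only [conjPair] at h1
  rw [bc_conjBlock] at h1
  exact h1.symm

theorem below_principal [Fact p.Prime] (hM : IsPModular p M) {P : Subgroup G} (hP : IsPGroup p P)
    {Q : Subgroup G} (hQ : Q ≤ P) :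
    Below p M P (principalBlock M _) ⟨Q, principalBlock M _⟩ := by
  obtain ⟨f, hf, -⟩ := existsUnique_below (Q := Q) hM
    (⟨hP, isPBlock_principalBlock⟩ : IsBrauerPair p M P
      (principalBlock M (Subgroup.centralizer (P : Set G)))) hQ
  have h := isBrauerPairOf_down hM hf ((isBrauerPairOf_principal_iff hM hP).2 rfl)
  rw [(isBrauerPairOf_principal_iff hM (hP.to_le hQ)).1 h] at hf
  exact hf

theorem isMaximal_principal [Fact p.Prime] (hM : IsPModular p M) (S : Sylow p G) :
    IsMaximalBrauerPair p M (principalBlock M G) (S : Subgroup G) (principalBlock M _) :=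
  isMaximal_of_defectGroup hM ((isDefectGroup_principalBlock_iff hM _).2 ⟨S, rfl⟩)
    ((isBrauerPairOf_principal_iff hM S.2).2 rfl)

end CfsgLib.BrauerPairs
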