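import Cfsg.Agent.Lib.Blocks.Defect
import Cfsg.Agent.Lib.Char.Quotient

/-!
# Blocks transported along group isomorphisms
-/

set_option autoImplicit false

namespace CfsgLib.BrauerPairs

open Cfsg CfsgLib.Blocks
open scoped Classical ComplexConjugate

variable {K K' : Type*} [Group K] [Group K'] [Fintype K] [Fintype K'] {p : ℕ} {M : Ideal AlgInt}

/-- Pulling irreducible characters back along an isomorphism. -/
noncomputable def irrEquiv (φ : K ≃* K') : IrrCharacter K' ≃ IrrCharacter K where
  toFun χ := ⟨(χ : K' → ℂ) ∘ φ, CfsgLib.Char.IsIrrCharacter.comp_equiv χ.2 φ⟩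
  invFun χ := ⟨(χ : K → ℂ) ∘ φ.symm, CfsgLib.Char.IsIrrCharacter.comp_equiv χ.2 φ.symm⟩
  left_inv χ := Subtype.ext (funext fun k => by simp)
  right_inv χ := Subtype.ext (funext fun k => by simp)

theorem irrEquiv_apply (φ : K ≃* K') (χ : IrrCharacter K') (k : K) :
    (irrEquiv φ χ : K → ℂ) k = (χ : K' → ℂ) (φ k) := rfl

theorem isConj_map_iff (φ : K ≃* K') {a b : K} : IsConj (φ a) (φ b) ↔ IsConj a b :=
  ⟨fun h => by simpa using φ.symm.toMonoidHom.map_isConj h,
    fun h => φ.toMonoidHom.map_isConj h⟩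

theorem index_centralizer_map (φ : K ≃* K') (k : K) :
    (Subgroup.centralizer ({φ k} : Set K')).index
      = (Subgroup.centralizer ({k} : Set K)).index := by
  rw [← CfsgLib.Char.card_isConj_eq_index, ← CfsgLib.Char.card_isConj_eq_index]
  exact (Nat.card_congr (Equiv.subtypeEquiv φ.toEquiv (p := fun x => IsConj x k)
    (q := fun x => IsConj x (φ k)) fun x => (isConj_map_iff φ).symm)).symm

theorem centralChar_irrEquiv (φ : K ≃* K') (χ : K' → ℂ) (k : K) :
    centralChar (fun a => χ (φ a)) k = centralChar χ (φ k) := by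
  simp only [Cfsg.centralChar, index_centralizer_map, map_one]

theorem sameBlock_irrEquiv (φ : K ≃* K') (χ ψ : K' → ℂ) :
    SameBlock M (fun a => χ (φ a)) (fun a => ψ (φ a)) ↔ SameBlock M χ ψ := by
  refine ⟨fun h k' => ?_, fun h k => ?_⟩
  · have := h (φ.symm k')
    rwa [centralChar_irrEquiv, centralChar_irrEquiv, MulEquiv.apply_symm_apply] at this
  · rw [centralChar_irrEquiv, centralChar_irrEquiv]; exact h _

theorem isPBlock_image (φ : K ≃* K') {e : Set (IrrCharacter K')} (he : IsPBlock M e) :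
    IsPBlock M (irrEquiv φ '' e) := by
  obtain ⟨χ, rfl⟩ := he
  refine ⟨irrEquiv φ χ, Set.ext fun ψ => ?_⟩
  obtain ⟨ψ, rfl⟩ := (irrEquiv φ).surjective ψ
  rw [(irrEquiv φ).injective.mem_set_image]
  exact (sameBlock_irrEquiv φ _ _).symm

theorem blockCoeff_image (φ : K ≃* K') (e : Set (IrrCharacter K')) (k : K) :
    blockCoeff (irrEquiv φ '' e) k = blockCoeff e (φ k) := by
  simp only [blockCoeff_eq_fourierInv, fourierInv, Nat.card_congr φ.toEquiv]
  congr 1
  refine (Fintype.sum_equiv (irrEquiv φ) _ _ fun ψ => ?_).symm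
  have h : blockInd (irrEquiv φ '' e) (irrEquiv φ ψ) = blockInd e ψ := by
    unfold blockInd
    exact if_congr (irrEquiv φ).injective.mem_set_image rfl rfl
  simp [h, irrEquiv_apply]

theorem centralizer_map (φ : K ≃* K') (k : K) :
    (Subgroup.centralizer ({k} : Set K)).map φ.toMonoidHom
      = Subgroup.centralizer ({φ k} : Set K') := by
  ext x
  obtain ⟨x, rfl⟩ := φ.surjective x
  simp [Subgroup.mem_centralizer_singleton_iff, ← map_mul]

theorem isDefectClass_image (φ : K ≃* K') {e : Set (IrrCharacter K')} {k : K} :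
    IsDefectClass M (irrEquiv φ '' e) k ↔ IsDefectClass M e (φ k) := by
  simp only [IsDefectClass, blockCoeff_image, Set.forall_mem_image]
  refine and_congr Iff.rfl (and_congr Iff.rfl (forall_congr' fun χ => imp_congr_right fun _ => ?_))
  rw [show ((irrEquiv φ χ : IrrCharacter K) : K → ℂ) = fun a => (χ : K' → ℂ) (φ a) from rfl,
    centralChar_irrEquiv]

theorem isDefectGroup_map [Fact p.Prime] (φ : K ≃* K') {e : Set (IrrCharacter K')}
    {D : Subgroup K} (hD : IsDefectGroup p M (irrEquiv φ '' e) D) :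
    IsDefectGroup p M e (D.map φ.toMonoidHom) := by
  obtain ⟨g, hg, S, rfl⟩ := hD
  refine ⟨φ g, (isDefectClass_image φ).1 hg, ?_⟩
  let ψ := ((Subgroup.centralizer ({g} : Set K)).equivMapOfInjective φ.toMonoidHom
    φ.injective).trans (MulEquiv.subgroupCongr (centralizer_map φ g))
  have hsurj : Function.Surjective ψ.toMonoidHom := ψ.surjective
  refine ⟨S.mapSurjective hsurj, ?_⟩
  rw [Sylow.coe_mapSurjective, Subgroup.map_map, Subgroup.map_map]
  rfl

end CfsgLib.BrauerPairs
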