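import Cfsg.Agent.Lib.BrauerPairs.Fusion
import Cfsg.Agent.Lib.FusionSystem.Alperin

/-!
# Nilpotent blocks
-/

set_option autoImplicit false

namespace CfsgLib.BrauerPairs

open Cfsg CfsgLib.Blocks
open scoped Classical ComplexConjugate

variable {G : Type*} [Group G] [Fintype G] {p : ℕ} [Fact p.Prime] {M : Ideal AlgInt}
  {B : Set (IrrCharacter G)} {P : Subgroup G}
  {e : Set (IrrCharacter (Subgroup.centralizer (P : Set G)))} {F : FusionSystem P}
  {Q : Subgroup G} {f : Set (IrrCharacter (Subgroup.centralizer (Q : Set G)))}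

omit [Fintype G] in
theorem not_dvd_orderOf_iff {H : Type*} [Group H] (hp : p.Prime) (x : H) :
    ¬ p ∣ orderOf x ↔ Nat.Coprime (orderOf x) p :=
  ⟨fun h => (hp.coprime_iff_not_dvd.2 h).symm, fun h => hp.coprime_iff_not_dvd.1 h.symm⟩

omit [Fintype G] in
theorem centralizes_of_conj_eq {K R : Subgroup G} (hK : IsPGroup p K) {x u : G}
    (hx : x ∈ Subgroup.normalizer (R : Set G)) (hreg : IsPRegular p x) (hu : u ∈ K)
    (h : ∀ r ∈ R, x * r * x⁻¹ = u * r * u⁻¹) : x ∈ Subgroup.centralizer (R : Set G) := by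
  have hpow : ∀ n : ℕ, ∀ r ∈ R, x ^ n * r * (x ^ n)⁻¹ = u ^ n * r * (u ^ n)⁻¹ := by
    intro n
    induction n with
    | zero => simp
    | succ n ih =>
      intro r hr
      have hxr := (Subgroup.mem_normalizer_iff.1 hx r).1 hr
      rw [pow_succ, pow_succ, show x ^ n * x * r * (x ^ n * x)⁻¹ = x ^ n * (x * r * x⁻¹) * (x ^ n)⁻¹
        by group, ih _ hxr, h r hr]
      group
  obtain ⟨k, hk⟩ := hK ⟨u, hu⟩
  have huk : u ^ p ^ k = 1 := congrArg Subtype.val hk
  obtain ⟨m, hm⟩ := exists_pow_eq_self_of_coprime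
    (((not_dvd_orderOf_iff (Fact.out : p.Prime) x).1 hreg).symm.pow_left k)
  have hc : x ^ p ^ k ∈ Subgroup.centralizer (R : Set G) :=
    Subgroup.mem_centralizer_iff.2 fun r hr => by
      have := hpow (p ^ k) r hr
      rw [huk] at this
      have h2 := mul_inv_eq_iff_eq_mul.1 (this.trans (by simp : _ = r))
      exact h2.symm
  rw [← hm]
  exact Subgroup.pow_mem _ hc m

theorem isPGroup_autGroup_of_nilpotent (hM : IsPModular p M)
    (hF : IsBlockFusionSystemOn p M B P e F) (hnil : IsNilpotentBlock p M B)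
    (hle : SubpairLE p M Q f P e) : IsPGroup p (F.autGroup Q) := by
  rw [autGroup_eq hM hF hle mem_pairStab]
  rintro ⟨α, hα⟩
  obtain ⟨t, ht, hαt⟩ := CfsgLib.Fsys.mem_autInducedBy.1 hα
  refine ⟨(orderOf t).factorization p, Subtype.ext ?_⟩
  have hQB := isBrauerPairOf_down hM hle hF.1.1
  have hreg : IsPRegular p (t ^ p ^ (orderOf t).factorization p) := by
    rw [IsPRegular, orderOf_pow' t (pow_ne_zero _ hM.1.ne_zero),
      Nat.gcd_eq_right (Nat.ordProj_dvd _ _)]
    exact Nat.not_dvd_ordCompl hM.1 (orderOf_pos t).ne'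
  have htn := Subgroup.pow_mem _ ht (p ^ (orderOf t).factorization p)
  have hst := (mem_pairStab (Q := Q) (f := f) _).1 htn
  have hc := hnil.2 Q f hQB _ hst.1 hst.2 hreg
  have key : ∀ n : ℕ, ∀ x : Q, (((α ^ n) x : Q) : G) = t ^ n * (x : G) * (t ^ n)⁻¹ := by
    intro n
    induction n with
    | zero => intro x; simp
    | succ n ih =>
      intro x
      rw [pow_succ, MulAut.mul_apply, ih, hαt, pow_succ]
      group
  refine MulEquiv.ext fun x => Subtype.ext ?_
  show (((α ^ p ^ _) x : Q) : G) = x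
  rw [key, ← Subgroup.mem_centralizer_iff.1 hc x x.2, mul_inv_cancel_right]

theorem autGroup_le_of_nilpotent (hM : IsPModular p M)
    (hF : IsBlockFusionSystemOn p M B P e F) (hnil : IsNilpotentBlock p M B)
    (hFN : F.IsFullyNormalized Q) : F.autGroup Q ≤ autInducedBy P Q := by
  obtain ⟨f, hle, -⟩ := existsUnique_below hM hF.1.1.1 hFN.1
  obtain ⟨-, R, hR⟩ := fullyAutomized_of_normalized hM hF hle hFN
  intro α hα
  have htop : IsPGroup p (⊤ : Subgroup (F.autGroup Q)) := fun x => by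
    obtain ⟨k, hk⟩ := isPGroup_autGroup_of_nilpotent hM hF hnil hle x
    exact ⟨k, Subtype.ext (Subtype.ext (by simpa using congrArg Subtype.val hk))⟩
  have h2 := R.is_maximal' htop le_top
  have h1 : (⟨α, hα⟩ : F.autGroup Q) ∈ (⊤ : Subgroup (F.autGroup Q)) := Subgroup.mem_top _
  rw [h2, hR] at h1
  exact h1

theorem hom_eq_inner_of_nilpotent (hM : IsPModular p M)
    (hF : IsBlockFusionSystemOn p M B P e F) (hnil : IsNilpotentBlock p M B) (R : Subgroup G) :
    F.Hom R = (innerFusionSystem P).Hom R := by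
  have hP := hF.1.1.1.1
  have hPn : F.IsFullyNormalized P := by
    obtain ⟨R', hR', hn⟩ := CfsgLib.Fsys.exists_fullyNormalized (F := F) (le_refl P)
    rwa [CfsgLib.Fsys.eq_of_le_of_card le_rfl hn.1 (CfsgLib.Fsys.isConj_card hR').ge] at hn
  have hle : F ≤ innerFusionSystem P := by
    refine CfsgLib.Fsys.le_of_automizers hP (isSaturated_block hM hF) _
      ((autGroup_le_of_nilpotent hM hF hnil hPn).trans
        (CfsgLib.Fsys.autInducedBy_le_autGroup le_rfl)) fun R hR hRn _ => ?_
    exact (autGroup_le_of_nilpotent hM hF hnil hRn).trans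
      (CfsgLib.Fsys.autInducedBy_le_autGroup hR.le)
  refine Set.Subset.antisymm (hle R) fun φ hφ => ?_
  obtain ⟨hR, g, hg, hgφ⟩ := hφ
  have hφg : φ = conjHom R g := MonoidHom.ext fun x => hgφ x
  rw [hφg]
  exact F.conj_mem hR hg

/-- A block is nilpotent as soon as stabilizers act on pairs below the maximal one like `P`. -/
theorem isNilpotent_of_local (hM : IsPModular p M) (hmax : IsMaximalBrauerPair p M B P e)
    (h : ∀ (Q : Subgroup G) (f : Set (IrrCharacter (Subgroup.centralizer (Q : Set G)))),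
      SubpairLE p M Q f P e → ∀ x ∈ pairStab Q f, IsPRegular p x →
        x ∈ Subgroup.centralizer (Q : Set G)) : IsNilpotentBlock p M B := by
  refine ⟨hmax.1.2.1, fun Q f hQf x hxN hxs hxr => ?_⟩
  obtain ⟨y, hy⟩ := exists_conj_subpairLE hM hmax hQf
  have hfix : Fixes x (subgroupBlockCoeff (Subgroup.centralizer (Q : Set G)) f) :=
    ((stabilizesBlock_iff _ f x).1 hxs).2
  refine (conj_mem_centralizer_map_iff Q y x).1 (h _ _ hy (y * x * y⁻¹) ⟨?_, fun z => ?_⟩ ?_)
  · exact mem_normalizer_map_conj.2 hxN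
  · rw [bc_conjBlock', bc_conjBlock']
    have := hfix (y⁻¹ * z * y)
    simpa [mul_assoc] using this
  · rw [IsPRegular, ← MulAut.conj_apply, MulEquiv.orderOf_eq]
    exact hxr

theorem isNilpotent_of_inner (hM : IsPModular p M) (hF : IsBlockFusionSystemOn p M B P e F)
    (h : ∀ R : Subgroup G, F.Hom R = (innerFusionSystem P).Hom R) : IsNilpotentBlock p M B := by
  refine isNilpotent_of_local hM hF.1 fun Q f hle x hx hxr => ?_
  have hQP : Q ≤ P := subgroup_le_of_subpairLE hle
  have hpair : conjPair x ⟨Q, f⟩ = ⟨Q, f⟩ := pair_ext (map_conj_of_mem_normalizer hx.1) fun c => by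
    show subgroupBlockCoeff _ (conjBlock Q x f) c = _
    rw [bc_conjBlock', ← hx.2]
    simp [mul_assoc]
  have hmem : conjHom Q x ∈ F.Hom Q :=
    (mem_hom_iff hF).2 ⟨hQP, x, fun u => rfl, f, hle, by rw [hpair]; exact hle⟩
  rw [h Q] at hmem
  obtain ⟨-, u, hu, hux⟩ := hmem
  exact centralizes_of_conj_eq hF.1.1.1.1 hx.1 hxr hu fun r hr => hux ⟨r, hr⟩

/-- For an abelian maximal subgroup, stabilizers factor through the stabilizer of the pair. -/
theorem exists_factor_abelian (hM : IsPModular p M) (hmax : IsMaximalBrauerPair p M B P e)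
    (hab : ∀ x ∈ P, ∀ y ∈ P, x * y = y * x) (hle : SubpairLE p M Q f P e) {x : G}
    (hx : x ∈ pairStab Q f) :
    ∃ y ∈ pairStab P e, ∃ c ∈ Subgroup.centralizer (Q : Set G), x = y * c := by
  have hP := hmax.1.1
  have hQP : Q ≤ P := subgroup_le_of_subpairLE hle
  have hPC : P ≤ Subgroup.centralizer (Q : Set G) := fun a ha =>
    Subgroup.mem_centralizer_iff.2 fun q hq => hab q (hQP hq) a ha
  have hh : StabHyp p M Q (Subgroup.centralizer (Q : Set G)) f :=
    ⟨isBrauerPair_of_subpairLE hle hP, hQP.trans hPC, le_rfl, centralizer_le_normalizer Q,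
      fun t ht => bc_fixes_of_mem ht f⟩
  have hcard : Nat.card (P ⊓ Subgroup.centralizer (Q : Set G) : Subgroup G)
      = p ^ blockDefect p f := by
    have hF := isBlockFusionSystemOn_blockFusion hM hmax
    refine (isFullyCentralized_iff hM hF hle).1 ⟨hQP, fun R _ => ?_⟩
    exact Subgroup.card_le_of_le (le_inf inf_le_left (inf_le_left.trans hPC))
  have hbd : ∀ (F' : Set (IrrCharacter ↥(Subgroup.centralizer (Q : Set G))))
      (D : Subgroup ↥(Subgroup.centralizer (Q : Set G))), IsPBlock M F' →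
      (∀ t : ↥(Subgroup.centralizer (Q : Set G)),
        blockCoeff F' t = subgroupBlockCoeff (Subgroup.centralizer (Q : Set G)) f (t : G)) →
      IsDefectGroup p M F' D → Nat.card D ≤ Nat.card ↥(P ⊓ Subgroup.centralizer (Q : Set G)) := by
    intro F' D hF' hFc' hD
    refine (card_defect_le_of_aut hM hh hF' hFc' hD (R₀ := ⊥) fun α hα => ?_).trans ?_
    · rw [CfsgLib.Fsys.mem_autInducedBy] at hα ⊢
      obtain ⟨c, hc, hα⟩ := hα
      refine ⟨1, Subgroup.one_mem _, fun q => ?_⟩
      rw [hα, ← Subgroup.mem_centralizer_iff.1 hc q q.2]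
      simp
    · have h1 := card_autInducedBy (K := (⊥ : Subgroup G)) (Q := Q) bot_le
      rw [bot_inf_eq, Subgroup.card_bot, mul_one] at h1
      rw [h1, one_mul, hcard]
  have hnorm : IsNormalSubpair p M Q f P e :=
    normal_of_subpairLE hM hP hle (hPC.trans (centralizer_le_normalizer Q))
  have hpair : conjPair x ⟨Q, f⟩ = ⟨Q, f⟩ := pair_ext (map_conj_of_mem_normalizer hx.1) fun c => by
    show subgroupBlockCoeff _ (conjBlock Q x f) c = _
    rw [bc_conjBlock', ← hx.2]
    simp [mul_assoc]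
  have hn : NormalSubpairRel p M (conjPair x ⟨Q, f⟩) (conjPair x ⟨P, e⟩) :=
    isNormalSubpair_conj x hnorm
  rw [hpair] at hn
  have hS : P.map (MulAut.conj x).toMonoidHom ≤ Subgroup.centralizer (Q : Set G) := by
    rintro _ ⟨a, ha, rfl⟩
    exact mem_centralizer_conj hx.1 (hPC ha)
  obtain ⟨u, hu, hub⟩ := exists_conj_below_in hM hh hP hle hbd
    (S := P.map (MulAut.conj x).toMonoidHom) (g := conjBlock P x e) hn hS
  have hub' : Below p M P e (conjPair (u * x) ⟨P, e⟩) := by rw [conjPair_mul]; exact hub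
  have hmap : P.map (MulAut.conj (u * x)).toMonoidHom = P :=
    Subgroup.eq_of_le_of_card_ge (Below.le hub')
      (Subgroup.card_map_of_injective (MulAut.conj (u * x)).injective).ge
  have heq := Below.eq hM hP hub' (Relation.ReflTransGen.refl : Below p M P e ⟨P, e⟩) hmap
  refine ⟨u * x, ⟨?_, fun z => ?_⟩, x⁻¹ * u⁻¹ * x, ?_, by group⟩
  · exact CfsgLib.Fsys.mem_normalizer_of_map_le fun a ha => hmap.le ⟨a, ha, rfl⟩
  · have h1 := congrFun (congrArg (fun a : BrauerPairIdx G =>
      subgroupBlockCoeff (Subgroup.centralizer (a.1 : Set G)) a.2) heq) (u * x * z * (u * x)⁻¹)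
    simp only [conjPair] at h1
    rw [bc_conjBlock] at h1
    exact h1.symm
  · have := mem_centralizer_conj (P := Q) (Subgroup.inv_mem _ hx.1)
      (Subgroup.inv_mem _ hu : u⁻¹ ∈ Subgroup.centralizer (Q : Set G))
    simpa using this

theorem stab_le_stab_of_below (hM : IsPModular p M) (hP : IsBrauerPair p M P e)
    (hle : SubpairLE p M Q f P e) {y : G} (hy : y ∈ pairStab P e)
    (hyQ : y ∈ Subgroup.normalizer (Q : Set G)) : y ∈ pairStab Q f := by
  refine ⟨hyQ, fun z => ?_⟩
  have hPe : conjPair y ⟨P, e⟩ = ⟨P, e⟩ := pair_ext (map_conj_of_mem_normalizer hy.1) fun c => by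
    show subgroupBlockCoeff _ (conjBlock P y e) c = _
    rw [bc_conjBlock', ← hy.2]
    simp [mul_assoc]
  have h : Below p M P e (conjPair y ⟨Q, f⟩) := by
    have h0 := conjPair_subpair (p := p) (M := M) y (show Relation.ReflTransGen
      (NormalSubpairRel p M) ⟨Q, f⟩ ⟨P, e⟩ from hle)
    rwa [hPe] at h0
  have heq := Below.eq hM hP h (hle : Below p M P e ⟨Q, f⟩) (map_conj_of_mem_normalizer hyQ)
  have h1 := congrFun (congrArg (fun a : BrauerPairIdx G =>
    subgroupBlockCoeff (Subgroup.centralizer (a.1 : Set G)) a.2) heq) (y * z * y⁻¹)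
  simp only [conjPair] at h1
  rw [bc_conjBlock] at h1
  exact h1.symm

omit [Fact p.Prime] in
theorem index_eq_card_aut {K Q : Subgroup G} (hK : K ≤ Subgroup.normalizer (Q : Set G)) :
    ((Subgroup.centralizer (Q : Set G)).subgroupOf K).index = Nat.card (autInducedBy K Q) := by
  refine Nat.eq_of_mul_eq_mul_right (Nat.card_pos
    (α := (K ⊓ Subgroup.centralizer (Q : Set G) : Subgroup G))) ?_
  rw [card_autInducedBy hK, mul_comm,
    ← Nat.card_congr (Subgroup.subgroupOfEquivOfLe
      (inf_le_left : K ⊓ Subgroup.centralizer (Q : Set G) ≤ K)).toEquiv,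
    inf_comm, Subgroup.inf_subgroupOf_right, Subgroup.card_mul_index]

end CfsgLib.BrauerPairs
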