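import Cfsg.Agent.Lib.Blocks.BrauerPair
import Cfsg.Agent.Lib.Blocks.DefectGroup

/-!
# Functions on a group fixed by a `p`-subgroup and their values at Brauer pairs
-/

set_option autoImplicit false

namespace CfsgLib.BrauerPairs

open Cfsg CfsgLib.Blocks
open scoped Classical ComplexConjugate

variable {G : Type*} [Group G] [Fintype G] {p : ℕ} {M : Ideal AlgInt}

/-- `u` fixes `β` under conjugation. -/
def Fixes (u : G) (β : G → ℂ) : Prop := ∀ x, β (u * x * u⁻¹) = β x

/-- Convolution of coefficient functions. -/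
noncomputable def gconv (β γ : G → ℂ) : G → ℂ := fun c => ∑ x, β x * γ (x⁻¹ * c)

/-- `β` has local integral values and is fixed by `P` and by its centralizer. -/
structure GoodAt (M : Ideal AlgInt) (P : Subgroup G) (β : G → ℂ) : Prop where
  lr : ∀ x, MemLocalRing M (β x)
  fixP : ∀ u ∈ P, Fixes u β
  fixC : ∀ u ∈ Subgroup.centralizer (P : Set G), Fixes u β

/-- `β` is idempotent modulo `M` on the centralizer of `P`. -/
def IdemAt (M : Ideal AlgInt) (P : Subgroup G) (β : G → ℂ) : Prop :=
  ∀ c ∈ Subgroup.centralizer (P : Set G), MemLocalIdeal M (gconv β β c - β c)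

omit [Fintype G] in
theorem Fixes.inv {u : G} {β : G → ℂ} (h : Fixes u β) : Fixes u⁻¹ β := fun x => by
  conv_rhs => rw [show x = u * (u⁻¹ * x * u⁻¹⁻¹) * u⁻¹ by simp [mul_assoc]]
  exact (h _).symm

omit [Fintype G] in
theorem Fixes.mul {u v : G} {β : G → ℂ} (h : Fixes u β) (h' : Fixes v β) : Fixes (u * v) β :=
  fun x => by rw [← h' x, ← h (v * x * v⁻¹)]; congr 1; simp [mul_assoc]

theorem Fixes.gconv {u : G} {β γ : G → ℂ} (h : Fixes u β) (h' : Fixes u γ) :
    Fixes u (gconv β γ) := fun c => by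
  refine (Fintype.sum_equiv (MulAut.conj u).toEquiv _ _ fun x => ?_).symm
  show β x * γ (x⁻¹ * c) = β (u * x * u⁻¹) * γ ((u * x * u⁻¹)⁻¹ * (u * c * u⁻¹))
  rw [h x, show (u * x * u⁻¹)⁻¹ * (u * c * u⁻¹) = u * (x⁻¹ * c) * u⁻¹ by simp [mul_assoc], h']

theorem gconv_sub_left (β γ δ : G → ℂ) (c : G) :
    gconv (fun x => β x - γ x) δ c = gconv β δ c - gconv γ δ c := by
  simp only [gconv, sub_mul, Finset.sum_sub_distrib]

theorem GoodAt.gconv (hM : IsPModular p M) {P : Subgroup G} {β γ : G → ℂ} (h : GoodAt M P β)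
    (h' : GoodAt M P γ) : GoodAt M P (gconv β γ) :=
  ⟨fun _ => LR.sum hM fun x _ => LR.mul hM (h.lr x) (h'.lr _),
    fun u hu => (h.fixP u hu).gconv (h'.fixP u hu), fun u hu => (h.fixC u hu).gconv (h'.fixC u hu)⟩

omit [Fintype G] in
theorem GoodAt.sub (hM : IsPModular p M) {P : Subgroup G} {β γ : G → ℂ} (h : GoodAt M P β)
    (h' : GoodAt M P γ) : GoodAt M P fun x => β x - γ x :=
  ⟨fun x => LR.sub hM (h.lr x) (h'.lr x),
    fun u hu x => congrArg₂ (fun a b : ℂ => a - b) (h.fixP u hu x) (h'.fixP u hu x),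
    fun u hu x => congrArg₂ (fun a b : ℂ => a - b) (h.fixC u hu x) (h'.fixC u hu x)⟩

omit [Fintype G] in
theorem GoodAt.res_isClassFunction {P : Subgroup G} {β : G → ℂ} (h : GoodAt M P β) :
    IsClassFunction (Subgroup.centralizer (P : Set G))
      fun c : Subgroup.centralizer (P : Set G) => β c :=
  fun x y => h.fixC y y.2 x

theorem goodAt_blockCoeff (hM : IsPModular p M) {B : Set (IrrCharacter G)} (hB : IsPBlock M B)
    (P : Subgroup G) : GoodAt M P (blockCoeff B) :=
  ⟨blockCoeff_LR hM hB, fun u _ x => blockCoeff_isClassFunction B x u,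
    fun u _ x => blockCoeff_isClassFunction B x u⟩

theorem gconv_blockCoeff (B B' : Set (IrrCharacter G)) :
    gconv (blockCoeff B) (blockCoeff B') = blockCoeff (B ∩ B') :=
  funext fun c => blockCoeff_conv B B' c

theorem blockCoeff_empty (g : G) : blockCoeff (∅ : Set (IrrCharacter G)) g = 0 := by
  simp [blockCoeff]

theorem idemAt_blockCoeff (hM : IsPModular p M) (B : Set (IrrCharacter G)) (P : Subgroup G) :
    IdemAt M P (blockCoeff B) := fun c _ => by
  rw [gconv_blockCoeff, Set.inter_self, sub_self]; exact LI.zero hM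

theorem blockCoeff_injective :
    Function.Injective fun B : Set (IrrCharacter G) => blockCoeff B := fun B B' h => by
  ext χ
  have h1 := omega_blockCoeff B χ
  rw [show blockCoeff B = blockCoeff B' from h, omega_blockCoeff] at h1
  unfold blockInd at h1
  by_cases hB : χ ∈ B <;> by_cases hB' : χ ∈ B' <;> simp [hB, hB'] at h1 ⊢

/-! ### Coefficient functions of blocks of subgroups -/

variable {K : Subgroup G} {e e' : Set (IrrCharacter K)}

theorem bc_coe (K : Subgroup G) (e : Set (IrrCharacter K)) (k : K) :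
    subgroupBlockCoeff K e (k : G) = blockCoeff e k := by
  simp [subgroupBlockCoeff, k.2]

theorem bc_of_mem {g : G} (hg : g ∈ K) (e : Set (IrrCharacter K)) :
    subgroupBlockCoeff K e g = blockCoeff e ⟨g, hg⟩ := bc_coe K e ⟨g, hg⟩

theorem bc_of_notMem {g : G} (hg : g ∉ K) (e : Set (IrrCharacter K)) :
    subgroupBlockCoeff K e g = 0 := by
  simp [subgroupBlockCoeff, hg]

theorem bc_LR (hM : IsPModular p M) (he : IsPBlock M e) (g : G) :
    MemLocalRing M (subgroupBlockCoeff K e g) := by
  by_cases hg : g ∈ K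
  · rw [bc_of_mem hg]; exact blockCoeff_LR hM he _
  · rw [bc_of_notMem hg]; exact LR.zero hM

theorem bc_fixes_of_mem {u : G} (hu : u ∈ K) (e : Set (IrrCharacter K)) :
    Fixes u (subgroupBlockCoeff K e) := fun x => by
  by_cases hx : x ∈ K
  · rw [bc_of_mem hx, bc_of_mem (K.mul_mem (K.mul_mem hu hx) (K.inv_mem hu))]
    exact blockCoeff_isClassFunction e ⟨x, hx⟩ ⟨u, hu⟩
  · rw [bc_of_notMem hx, bc_of_notMem fun h => hx (by
      simpa [mul_assoc] using K.mul_mem (K.mul_mem (K.inv_mem hu) h) hu)]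

theorem sum_supported {β : G → ℂ} (h0 : ∀ x ∉ K, β x = 0) (φ : G → ℂ) :
    ∑ x, β x * φ x = ∑ k : K, β k * φ k := by
  rw [← Finset.sum_filter_add_sum_filter_not Finset.univ (fun x : G => x ∈ K),
    Finset.sum_eq_zero (s := Finset.univ.filter fun x : G => ¬ x ∈ K) (fun x hx => by
      rw [h0 x (Finset.mem_filter.1 hx).2, zero_mul]), add_zero,
    Finset.sum_subtype _ (p := fun x : G => x ∈ K) (fun x => by simp)]

theorem gconv_bc (K : Subgroup G) (e e' : Set (IrrCharacter K)) :
    gconv (subgroupBlockCoeff K e) (subgroupBlockCoeff K e')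
      = subgroupBlockCoeff K (e ∩ e') := by
  funext c
  rw [gconv, sum_supported (fun x hx => bc_of_notMem hx e)]
  by_cases hc : c ∈ K
  · rw [bc_of_mem hc, ← blockCoeff_conv]
    exact Finset.sum_congr rfl fun k _ => by
      rw [bc_coe, bc_of_mem (K.mul_mem (K.inv_mem k.2) hc)]; rfl
  · rw [bc_of_notMem hc]
    refine Finset.sum_eq_zero fun k _ => ?_
    rw [bc_of_notMem (g := (k : G)⁻¹ * c) (fun h => hc (by simpa using K.mul_mem k.2 h)), mul_zero]

theorem bc_injective (K : Subgroup G) :
    Function.Injective fun e : Set (IrrCharacter K) => subgroupBlockCoeff K e := fun e e' h =>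
  blockCoeff_injective (funext fun k => by
    show blockCoeff e k = blockCoeff e' k
    rw [← bc_coe, ← bc_coe]; exact congrFun h k)

theorem bc_ne_zero (hM : IsPModular p M) (he : IsPBlock M e) :
    subgroupBlockCoeff K e 1 ≠ 0 := by
  intro h
  rw [bc_of_mem K.one_mem] at h
  obtain ⟨χ, hχ⟩ := IsPBlock.nonempty hM he
  have h1 := sum_sq_blockInd (1 : K) e
  rw [show (1 : K) = ⟨1, K.one_mem⟩ from rfl, h, mul_zero] at h1
  have h2 : ((∑ ψ ∈ e.toFinset, charDegree (ψ : K → ℂ) ^ 2 : ℕ) : ℂ) = 0 := by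
    rw [h1, Nat.cast_sum]
    rw [← Finset.sum_subset (Finset.subset_univ e.toFinset) (fun ψ _ hψ => by
      rw [blockInd_of_notMem (by simpa using hψ), zero_mul])]
    refine Finset.sum_congr rfl fun ψ hψ => ?_
    rw [blockInd_of_mem (Set.mem_toFinset.1 hψ), one_mul,
      show (⟨1, K.one_mem⟩ : K) = 1 from rfl, inv_one, irr_one_eq]
    push_cast; ring
  have : 0 < ∑ ψ ∈ e.toFinset, charDegree (ψ : K → ℂ) ^ 2 :=
    Finset.sum_pos (fun ψ _ => pow_pos (charDegree_pos ψ) 2) ⟨χ, Set.mem_toFinset.2 hχ⟩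
  rw [Nat.cast_eq_zero] at h2
  omega

/-- The set of blocks of a group. -/
noncomputable def blockSet (M : Ideal AlgInt) (H : Type*) [Group H] [Fintype H] :
    Finset (Set (IrrCharacter H)) :=
  Finset.image (fun χ : IrrCharacter H => blockOf M (χ : H → ℂ)) Finset.univ

theorem mem_blockSet {B : Set (IrrCharacter G)} : B ∈ blockSet M G ↔ IsPBlock M B := by
  simp only [blockSet, Finset.mem_image, Finset.mem_univ, true_and, IsPBlock]
  exact ⟨fun ⟨χ, h⟩ => ⟨χ, h.symm⟩, fun ⟨χ, h⟩ => ⟨χ, h.symm⟩⟩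

theorem sum_blockCoeff (hM : IsPModular p M) (g : G) :
    ∑ B ∈ blockSet M G, blockCoeff B g = if g = 1 then 1 else 0 := by
  have h : ∀ ψ : IrrCharacter G, ∑ B ∈ blockSet M G, blockInd B ψ = 1 := fun ψ => by
    rw [Finset.sum_eq_single (blockOf M (ψ : G → ℂ))]
    · exact blockInd_of_mem (SameBlock_refl hM _)
    · intro B hB hne
      exact blockInd_of_notMem fun hψ =>
        hne (IsPBlock.eq_blockOf hM (mem_blockSet.1 hB) hψ)
    · exact fun h => absurd (mem_blockSet.2 (isPBlock_blockOf ψ)) h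
  rw [← congrFun (fourierInv_one (G := G)) g]
  simp only [blockCoeff_eq_fourierInv, fourierInv]
  rw [← Finset.mul_sum, Finset.sum_comm]
  congr 1
  exact Finset.sum_congr rfl fun ψ _ => by rw [← Finset.sum_mul, h]

theorem sum_bc (hM : IsPModular p M) (K : Subgroup G) (g : G) :
    ∑ e ∈ blockSet M K, subgroupBlockCoeff K e g = if g = 1 then 1 else 0 := by
  by_cases hg : g ∈ K
  · simp only [bc_of_mem hg]
    rw [sum_blockCoeff hM]
    simp [Subtype.ext_iff]
  · rw [Finset.sum_eq_zero fun e _ => bc_of_notMem hg e, if_neg fun h => hg (by rw [h]; exact K.one_mem)]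

/-! ### Values at a pair -/

section AtPair

variable {P : Subgroup G} {β γ : G → ℂ}
  (ξ : IrrCharacter (Subgroup.centralizer (P : Set G)))

theorem brauerOmega_LR (hM : IsPModular p M) (h : GoodAt M P β) :
    MemLocalRing M (brauerOmega P β (ξ : _ → ℂ)) := by
  rw [brauerOmega_eq_omega]
  exact omega_LR hM ξ h.res_isClassFunction fun c => h.lr _

theorem brauerOmega_LI (hM : IsPModular p M) (h : GoodAt M P β)
    (h0 : ∀ c ∈ Subgroup.centralizer (P : Set G), MemLocalIdeal M (β c)) :
    MemLocalIdeal M (brauerOmega P β (ξ : _ → ℂ)) := by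
  rw [brauerOmega_eq_omega]
  exact omega_LI hM ξ h.res_isClassFunction fun c => h0 _ c.2

theorem brauerOmega_sub (β γ : G → ℂ) (ξ : Subgroup.centralizer (P : Set G) → ℂ) :
    brauerOmega P (fun x => β x - γ x) ξ = brauerOmega P β ξ - brauerOmega P γ ξ := by
  simp only [brauerOmega_eq_omega, omega, sub_mul, Finset.sum_sub_distrib, sub_div]

theorem brauerOmega_sum {ι : Type*} (s : Finset ι) (F : ι → G → ℂ)
    (ξ : Subgroup.centralizer (P : Set G) → ℂ) :
    brauerOmega P (fun x => ∑ i ∈ s, F i x) ξ = ∑ i ∈ s, brauerOmega P (F i) ξ := by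
  simp only [brauerOmega_eq_omega, omega, Finset.sum_mul, ← Finset.sum_div]
  rw [Finset.sum_comm]

theorem brauerOmega_congr (hM : IsPModular p M) (h : GoodAt M P β) (h' : GoodAt M P γ)
    (h0 : ∀ c ∈ Subgroup.centralizer (P : Set G), MemLocalIdeal M (β c - γ c)) :
    MemLocalIdeal M (brauerOmega P β (ξ : _ → ℂ) - brauerOmega P γ (ξ : _ → ℂ)) := by
  rw [← brauerOmega_sub]
  exact brauerOmega_LI ξ hM (h.sub hM h') h0

theorem brauerOmega_delta :
    brauerOmega P (fun x => if x = 1 then (1 : ℂ) else 0) (ξ : _ → ℂ) = 1 := by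
  rw [brauerOmega_eq_omega, omega, Finset.sum_eq_single 1]
  · simp [irr_one_ne_zero ξ]
  · intro c _ hc
    rw [if_neg (show ¬ (c : G) = 1 from fun h => hc (Subtype.ext h)), zero_mul]
  · simp

theorem brauerOmega_sameBlock (hM : IsPModular p M) (h : GoodAt M P β)
    {ξ' : IrrCharacter (Subgroup.centralizer (P : Set G))}
    (hs : SameBlock M (ξ : Subgroup.centralizer (P : Set G) → ℂ)
      (ξ' : Subgroup.centralizer (P : Set G) → ℂ)) :
    MemLocalIdeal M (brauerOmega P β (ξ : _ → ℂ) - brauerOmega P β (ξ' : _ → ℂ)) := by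
  simp only [brauerOmega_eq_omega]
  exact omega_congr hM hs h.res_isClassFunction fun c => h.lr _

theorem gconv_congr_res (hM : IsPModular p M) (hP : IsPGroup p P) (h : GoodAt M P β)
    (h' : GoodAt M P γ) (c : Subgroup.centralizer (P : Set G)) :
    MemLocalIdeal M (gconv β γ c
      - gconv (fun x : Subgroup.centralizer (P : Set G) => β x)
          (fun x : Subgroup.centralizer (P : Set G) => γ x) c) := by
  have hc := conv_congr_centralizer hM hP h.lr h'.lr h.fixP h'.fixP c.2
  have e : (∑ x : G with x ∈ Subgroup.centralizer (P : Set G), β x * γ (x⁻¹ * (c : G)))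
      = gconv (fun x : Subgroup.centralizer (P : Set G) => β x)
          (fun x : Subgroup.centralizer (P : Set G) => γ x) c := by
    rw [Finset.sum_subtype _ (p := fun x : G => x ∈ Subgroup.centralizer (P : Set G))
      (fun x => by simp)]
    exact Finset.sum_congr rfl fun x _ => rfl
  rwa [e] at hc

/-- The Brauer map at a pair is multiplicative. -/
theorem brauerOmega_gconv (hM : IsPModular p M) (hP : IsPGroup p P) (h : GoodAt M P β)
    (h' : GoodAt M P γ) :
    MemLocalIdeal M (brauerOmega P (gconv β γ) (ξ : _ → ℂ)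
      - brauerOmega P β (ξ : _ → ℂ) * brauerOmega P γ (ξ : _ → ℂ)) := by
  simp only [brauerOmega_eq_omega]
  rw [← omega_conv ξ h.res_isClassFunction h'.res_isClassFunction, omega, omega, ← sub_div,
    ← Finset.sum_sub_distrib]
  simp only [← sub_mul]
  refine omega_LI hM ξ (f := fun c : Subgroup.centralizer (P : Set G) => gconv β γ c
    - ∑ x : Subgroup.centralizer (P : Set G), β x * γ ((x⁻¹ * c : Subgroup.centralizer _) : G))
    (fun x y => ?_) fun c => gconv_congr_res hM hP h h' c
  exact congrArg₂ (fun a b : ℂ => a - b) ((h.gconv hM h').res_isClassFunction x y)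
    (conv_isClassFunction h.res_isClassFunction h'.res_isClassFunction x y)

theorem brauerOmega_idem (hM : IsPModular p M) (hP : IsPGroup p P) (h : GoodAt M P β)
    (hi : IdemAt M P β) :
    MemLocalIdeal M (brauerOmega P β (ξ : _ → ℂ))
      ∨ MemLocalIdeal M (brauerOmega P β (ξ : _ → ℂ) - 1) := by
  set w := brauerOmega P β (ξ : _ → ℂ)
  have h1 := LI.trans hM (LI.sub_comm (brauerOmega_gconv ξ hM hP h h))
    (brauerOmega_congr ξ hM (h.gconv hM h) h hi)
  refine LI.mem_or_mem hM (brauerOmega_LR ξ hM h)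
    (LR.sub hM (brauerOmega_LR ξ hM h) (LR.one hM)) ?_
  rwa [mul_sub_one]

end AtPair

/-! ### Idempotents of a centralizer -/

/-- Class functions congruent as soon as their coefficients are. -/
theorem isLocalZero_omega_iff {f : G → ℂ} (hf : IsClassFunction G f) :
    IsLocalZero M (fun ψ : IrrCharacter G => omega (ψ : G → ℂ) f)
      ↔ ∀ g, MemLocalIdeal M (f g) := by
  simp only [IsLocalZero, fourierInv_omega hf]

variable {w : G → ℂ}

theorem gconv_isClassFunction {f g : G → ℂ} (hf : IsClassFunction G f)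
    (hg : IsClassFunction G g) : IsClassFunction G (gconv f g) := conv_isClassFunction hf hg

theorem omega_gconv (χ : IrrCharacter G) {f g : G → ℂ} (hf : IsClassFunction G f)
    (hg : IsClassFunction G g) :
    omega (χ : G → ℂ) (gconv f g) = omega (χ : G → ℂ) f * omega (χ : G → ℂ) g :=
  omega_conv χ hf hg

theorem omega_sub (χ : G → ℂ) (f g : G → ℂ) :
    omega χ (fun x => f x - g x) = omega χ f - omega χ g := by
  simp only [omega, sub_mul, Finset.sum_sub_distrib, sub_div]

/-- A central idempotent modulo `M` is congruent to the idempotent of the union of the blocks on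
which it takes the value one. -/
theorem congr_blockCoeff_of_idem (hM : IsPModular p M) (hw : IsClassFunction G w)
    (hR : ∀ g, MemLocalRing M (w g)) (hi : ∀ g, MemLocalIdeal M (gconv w w g - w g)) (g : G) :
    MemLocalIdeal M
      (w g - blockCoeff {ψ : IrrCharacter G | ¬ MemLocalIdeal M (omega (ψ : G → ℂ) w)} g) := by
  set S := {ψ : IrrCharacter G | ¬ MemLocalIdeal M (omega (ψ : G → ℂ) w)}
  set W : IrrCharacter G → ℂ := fun ψ => omega (ψ : G → ℂ) w
  have hW : IsLocalOn M (⊤ : Subgroup G) W :=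
    isLocalOn_omega hM hw hR fun x hx => absurd (Subgroup.mem_top x) hx
  have hS : IsLocalOn M (⊤ : Subgroup G) (blockInd S) := by
    refine IsLocalOn.blockInd_of_separated hM fun χ hχ ψ hψ => ?_
    by_contra h
    push Not at h
    refine hχ ?_
    have h1 := omega_congr hM (χ := χ) (ψ := ψ) (fun x => h x (Subgroup.mem_top x)) hw hR
    have h2 : MemLocalIdeal M (omega (ψ : G → ℂ) w) := not_not.1 hψ
    have := LI.add hM h1 h2
    rwa [sub_add_cancel] at this
  have hidem : IsLocalZero M fun ψ => W ψ * W ψ - W ψ := by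
    refine IsLocalZero.congr ((isLocalZero_omega_iff (f := fun x => gconv w w x - w x)
      (fun x y => congrArg₂ (fun a b : ℂ => a - b) (gconv_isClassFunction hw hw x y) (hw x y))).2
        hi) fun ψ => ?_
    rw [omega_sub, omega_gconv ψ hw hw]
  have h1S : IsLocalOn M (⊤ : Subgroup G) fun ψ => 1 - blockInd S ψ :=
    IsLocalOn.sub hM (IsLocalOn.one hM) hS
  have h1W : IsLocalOn M (⊤ : Subgroup G) fun ψ => 1 - W ψ :=
    IsLocalOn.sub hM (IsLocalOn.one hM) hW
  have hA := isLocalZero_of_idem hM hW h1S hidem fun ψ hψ => by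
    by_contra h
    exact hψ (by simp [blockInd_of_mem (show ψ ∈ S from h)])
  have hB := isLocalZero_of_idem hM h1W hS (hidem.congr fun ψ => by ring) fun ψ hψ => by
    have hψS : ψ ∈ S := by by_contra h; exact hψ (blockInd_of_notMem h)
    have h0 : MemLocalIdeal M (W ψ * (W ψ - 1)) := by
      have h2 := omega_LI hM ψ (f := fun x => gconv w w x - w x)
        (fun x y => congrArg₂ (fun a b : ℂ => a - b) (gconv_isClassFunction hw hw x y) (hw x y)) hi
      rwa [omega_sub, omega_gconv ψ hw hw, ← mul_sub_one] at h2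
    have := (LI.mem_or_mem hM (hW.LR_value hM ψ)
      (LR.sub hM (hW.LR_value hM ψ) (LR.one hM)) h0).resolve_left hψS
    exact LI.sub_comm this
  have h := IsLocalZero.add hM hA
    (IsLocalZero.mul_left hM (IsLocalOn.const hM (C := ⊤) (LR.neg (LR.one hM))) hB)
  have e : (fun ψ => W ψ * (1 - blockInd S ψ) + (-1) * ((1 - W ψ) * blockInd S ψ))
      = fun ψ : IrrCharacter G => omega (ψ : G → ℂ) fun x => w x - blockCoeff S x := by
    funext ψ
    rw [omega_sub, omega_blockCoeff]; ring
  rw [e] at h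
  exact (isLocalZero_omega_iff (f := fun x => w x - blockCoeff S x)
    (fun x y => congrArg₂ (fun a b : ℂ => a - b) (hw x y)
    (blockCoeff_isClassFunction S x y))).1 h g

/-- An idempotent modulo `M` with value one at `B` fixes the idempotent of `B`. -/
theorem gconv_blockCoeff_of_omega_one (hM : IsPModular p M) (hw : IsClassFunction G w)
    (hR : ∀ g, MemLocalRing M (w g)) (hi : ∀ g, MemLocalIdeal M (gconv w w g - w g))
    {B : Set (IrrCharacter G)} (hB : IsPBlock M B)
    (h1 : ∀ ψ ∈ B, MemLocalIdeal M (omega (ψ : G → ℂ) w - 1)) (g : G) :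
    MemLocalIdeal M (gconv w (blockCoeff B) g - blockCoeff B g) := by
  set S := {ψ : IrrCharacter G | ¬ MemLocalIdeal M (omega (ψ : G → ℂ) w)}
  have hsub : B ⊆ S := fun ψ hψ hI => LI.not_one hM (by
    have := LI.sub hM hI (h1 ψ hψ)
    rwa [sub_sub_cancel] at this)
  have e : blockCoeff B g = gconv (blockCoeff S) (blockCoeff B) g := by
    rw [gconv_blockCoeff, Set.inter_eq_right.2 hsub]
  rw [e, ← gconv_sub_left]
  exact LI.sum hM fun x _ =>
    LI.mul_right hM (congr_blockCoeff_of_idem hM hw hR hi x) (blockCoeff_LR hM hB _)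

end CfsgLib.BrauerPairs
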