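import Cfsg.Prelude.Def_BrauerPairs
import Cfsg.Agent.Lib.BrauerPairs.Transport
import Cfsg.Agent.Lib.BrauerPairs.Idem

/-!
# Conjugation of blocks of subgroups and of Brauer pairs
-/

set_option autoImplicit false

namespace CfsgLib.BrauerPairs

open Cfsg CfsgLib.Blocks
open scoped Classical ComplexConjugate

variable {G : Type*} [Group G] [Fintype G] {p : ℕ} {M : Ideal AlgInt}

/-- Conjugation by `g` as an isomorphism from `K` to `K'`. -/
def conjIso {K K' : Subgroup G} (g : G) (h : ∀ x, g * x * g⁻¹ ∈ K' ↔ x ∈ K) : K ≃* K' where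
  toFun k := ⟨g * k * g⁻¹, (h k).2 k.2⟩
  invFun k' := ⟨g⁻¹ * k' * g, (h _).1 (by simp [mul_assoc])⟩
  left_inv k := Subtype.ext (by simp [mul_assoc])
  right_inv k' := Subtype.ext (by simp [mul_assoc])
  map_mul' a b := Subtype.ext (by simp [mul_assoc])

omit [Fintype G] in
theorem coe_conjIso {K K' : Subgroup G} (g : G) (h : ∀ x, g * x * g⁻¹ ∈ K' ↔ x ∈ K) (k : K) :
    (conjIso g h k : G) = g * k * g⁻¹ := rfl

theorem bc_image_conjIso {K K' : Subgroup G} (g : G) (h : ∀ x, g * x * g⁻¹ ∈ K' ↔ x ∈ K)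
    (e : Set (IrrCharacter K')) (x : G) :
    subgroupBlockCoeff K (irrEquiv (conjIso g h) '' e) x
      = subgroupBlockCoeff K' e (g * x * g⁻¹) := by
  by_cases hx : x ∈ K
  · rw [bc_of_mem hx, bc_of_mem ((h x).2 hx), blockCoeff_image]
    rfl
  · rw [bc_of_notMem hx, bc_of_notMem fun h' => hx ((h x).1 h')]

omit [Fintype G] in
theorem mem_iff_of_normalizer {K : Subgroup G} {g : G} (hg : g ∈ Subgroup.normalizer (K : Set G))
    (x : G) : g * x * g⁻¹ ∈ K ↔ x ∈ K := (Subgroup.mem_normalizer_iff.1 hg x).symm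

/-- An element stabilizes a set of characters of `K` iff it normalizes `K` and fixes the
coefficient function of the set. -/
theorem stabilizesBlock_iff (K : Subgroup G) (e : Set (IrrCharacter K)) (g : G) :
    StabilizesBlock K e g
      ↔ g ∈ Subgroup.normalizer (K : Set G) ∧ Fixes g (subgroupBlockCoeff K e) := by
  refine and_congr_right fun hg => ?_
  set φ := conjIso g (mem_iff_of_normalizer hg)
  have key : ∀ χ χ' : IrrCharacter K,
      IsConjCharOf K g (χ : K → ℂ) (χ' : K → ℂ) ↔ irrEquiv φ χ' = χ := fun χ χ' => by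
    refine ⟨fun hc => Subtype.ext (funext fun k => hc k (φ k) rfl), fun hc k k' hk => ?_⟩
    rw [← hc, irrEquiv_apply]
    exact congrArg _ (Subtype.ext hk)
  constructor
  · intro h x
    have hsub : e ⊆ irrEquiv φ '' e := fun χ hχ => by
      obtain ⟨χ', hχ', hc⟩ := h χ hχ
      exact ⟨χ', hχ', (key χ χ').1 hc⟩
    have heq : e = irrEquiv φ '' e :=
      Set.eq_of_subset_of_ncard_le hsub (Set.ncard_image_of_injective e (irrEquiv φ).injective).le
    rw [← bc_image_conjIso g (mem_iff_of_normalizer hg) e x, ← heq]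
  · intro h χ hχ
    have heq : irrEquiv φ '' e = e := bc_injective K (funext fun x => by
      show subgroupBlockCoeff K (irrEquiv φ '' e) x = subgroupBlockCoeff K e x
      rw [bc_image_conjIso g (mem_iff_of_normalizer hg) e x, h x])
    rw [← heq] at hχ
    obtain ⟨χ', hχ', hc⟩ := hχ
    exact ⟨χ', hχ', (key χ χ').2 hc⟩

omit [Fintype G] in
theorem conj_mem_centralizer_map_iff (Q : Subgroup G) (x c : G) :
    x * c * x⁻¹ ∈ Subgroup.centralizer ((Q.map (MulAut.conj x).toMonoidHom : Subgroup G) : Set G)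
      ↔ c ∈ Subgroup.centralizer (Q : Set G) := by
  simp only [Subgroup.mem_centralizer_iff, Subgroup.coe_map, Set.forall_mem_image,
    MulEquiv.coe_toMonoidHom, MulAut.conj_apply]
  refine forall₂_congr fun q _ => ⟨fun h => ?_, fun h => ?_⟩
  · have := congrArg (fun z => x⁻¹ * z * x) h
    simpa [mul_assoc] using this
  · simp only [mul_assoc, inv_mul_cancel_left, mul_right_inj]
    rw [← mul_assoc q c, h, mul_assoc]

theorem normalizer_le_normalizer_centralizer (Q : Subgroup G) :
    Subgroup.normalizer (Q : Set G)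
      ≤ Subgroup.normalizer ((Subgroup.centralizer (Q : Set G) : Subgroup G) : Set G) := by
  intro u hu
  refine Subgroup.mem_normalizer_iff.2 fun c =>
    ⟨fun hc => mem_centralizer_conj hu hc, fun hc => ?_⟩
  have := mem_centralizer_conj (Subgroup.inv_mem _ hu) hc
  simpa [mul_assoc] using this

omit [Fintype G] in
theorem map_conj_of_mem_normalizer {Q : Subgroup G} {u : G}
    (hu : u ∈ Subgroup.normalizer (Q : Set G)) : Q.map (MulAut.conj u).toMonoidHom = Q := by
  refine Subgroup.ext fun q => ⟨?_, fun hq => ?_⟩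
  · rintro ⟨q, hq, rfl⟩
    exact (Subgroup.mem_normalizer_iff.1 hu q).1 hq
  · exact ⟨u⁻¹ * q * u, (Subgroup.mem_normalizer_iff.1 hu _).2 (by simpa [mul_assoc] using hq),
      by simp [mul_assoc]⟩

/-! ### Conjugate pairs -/

/-- The isomorphism of centralizers given by conjugation. -/
def centIso (Q : Subgroup G) (x : G) :
    Subgroup.centralizer (Q : Set G)
      ≃* Subgroup.centralizer ((Q.map (MulAut.conj x).toMonoidHom : Subgroup G) : Set G) :=
  conjIso x (conj_mem_centralizer_map_iff Q x)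

theorem conjBlock_eq (Q : Subgroup G) (x : G)
    (f : Set (IrrCharacter (Subgroup.centralizer (Q : Set G)))) :
    conjBlock Q x f = irrEquiv (centIso Q x) ⁻¹' f := by
  ext ξ'
  constructor
  · rintro ⟨ξ, hξ, h⟩
    have : irrEquiv (centIso Q x) ξ' = ξ := Subtype.ext (funext fun c => h c _ rfl)
    rw [Set.mem_preimage, this]; exact hξ
  · intro h
    refine ⟨_, h, fun c c' hc => ?_⟩
    rw [irrEquiv_apply]
    exact congrArg _ (Subtype.ext hc)

theorem image_conjBlock (Q : Subgroup G) (x : G)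
    (f : Set (IrrCharacter (Subgroup.centralizer (Q : Set G)))) :
    irrEquiv (centIso Q x) '' conjBlock Q x f = f := by
  rw [conjBlock_eq, Set.image_preimage_eq f (irrEquiv (centIso Q x)).surjective]

theorem isPBlock_conjBlock (Q : Subgroup G) (x : G)
    {f : Set (IrrCharacter (Subgroup.centralizer (Q : Set G)))} (hf : IsPBlock M f) :
    IsPBlock M (conjBlock Q x f) := by
  obtain ⟨χ, rfl⟩ := hf
  obtain ⟨χ', hχ'⟩ := (irrEquiv (centIso Q x)).surjective χ
  refine ⟨χ', ?_⟩
  rw [conjBlock_eq, ← hχ']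
  ext ψ
  exact sameBlock_irrEquiv (centIso Q x) _ _

theorem bc_conjBlock (Q : Subgroup G) (x : G)
    (f : Set (IrrCharacter (Subgroup.centralizer (Q : Set G)))) (c : G) :
    subgroupBlockCoeff
        (Subgroup.centralizer ((Q.map (MulAut.conj x).toMonoidHom : Subgroup G) : Set G))
        (conjBlock Q x f) (x * c * x⁻¹)
      = subgroupBlockCoeff (Subgroup.centralizer (Q : Set G)) f c := by
  conv_rhs => rw [← image_conjBlock Q x f]
  exact (bc_image_conjIso x (conj_mem_centralizer_map_iff Q x) _ c).symm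

theorem bc_conjBlock' (Q : Subgroup G) (x : G)
    (f : Set (IrrCharacter (Subgroup.centralizer (Q : Set G)))) (c : G) :
    subgroupBlockCoeff
        (Subgroup.centralizer ((Q.map (MulAut.conj x).toMonoidHom : Subgroup G) : Set G))
        (conjBlock Q x f) c
      = subgroupBlockCoeff (Subgroup.centralizer (Q : Set G)) f (x⁻¹ * c * x) := by
  rw [← bc_conjBlock Q x f (x⁻¹ * c * x)]
  congr 1
  simp [mul_assoc]

theorem brauerOmega_conj (P : Subgroup G) (x : G) {β β' : G → ℂ}
    (hβ : ∀ c, β' (x * c * x⁻¹) = β c)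
    (ξ' : IrrCharacter
      (Subgroup.centralizer ((P.map (MulAut.conj x).toMonoidHom : Subgroup G) : Set G))) :
    brauerOmega (P.map (MulAut.conj x).toMonoidHom) β' (ξ' : _ → ℂ)
      = brauerOmega P β (irrEquiv (centIso P x) ξ' : _ → ℂ) := by
  rw [brauerOmega_eq_omega, brauerOmega_eq_omega, omega, omega, irrEquiv_apply, map_one]
  congr 1
  refine (Fintype.sum_equiv (centIso P x).toEquiv _ _ fun c => ?_).symm
  rw [irrEquiv_apply]
  show β c * _ = β' (x * (c : G) * x⁻¹) * _
  rw [hβ]
  rfl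

end CfsgLib.BrauerPairs
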