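import Cfsg.Agent.Lib.BrauerPairs.Aut
import Cfsg.Prelude.Def_BlockFusion
import Cfsg.Agent.Lib.FusionSystem.Group

/-!
# The fusion system of a block on a maximal Brauer pair
-/

set_option autoImplicit false

namespace CfsgLib.BrauerPairs

open Cfsg CfsgLib.Blocks
open scoped Classical ComplexConjugate

variable {G : Type*} [Group G] [Fintype G] {p : ℕ} [Fact p.Prime] {M : Ideal AlgInt}
  {B : Set (IrrCharacter G)} {P : Subgroup G}
  {e : Set (IrrCharacter (Subgroup.centralizer (P : Set G)))}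

/-- The pair lies below `(P, e)`. -/
def Below (p : ℕ) (M : Ideal AlgInt) (P : Subgroup G)
    (e : Set (IrrCharacter (Subgroup.centralizer (P : Set G)))) (a : BrauerPairIdx G) : Prop :=
  Relation.ReflTransGen (NormalSubpairRel p M) a ⟨P, e⟩

/-- `g` carries the pair below `(P, e)` on `Q` to a pair below `(P, e)`. -/
def Moves (p : ℕ) (M : Ideal AlgInt) (P : Subgroup G)
    (e : Set (IrrCharacter (Subgroup.centralizer (P : Set G)))) (Q : Subgroup G) (g : G) : Prop :=
  ∃ f : Set (IrrCharacter (Subgroup.centralizer (Q : Set G))),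
    Below p M P e ⟨Q, f⟩ ∧ Below p M P e (conjPair g ⟨Q, f⟩)

omit [Fact p.Prime] in
theorem Below.le {a : BrauerPairIdx G} (h : Below p M P e a) : a.1 ≤ P :=
  subgroup_le_of_subpairLE h

theorem Below.eq (hM : IsPModular p M) (hP : IsBrauerPair p M P e) {a b : BrauerPairIdx G}
    (ha : Below p M P e a) (hb : Below p M P e b) (h : a.1 = b.1) : a = b := by
  obtain ⟨A, u⟩ := a
  obtain ⟨C, v⟩ := b
  simp only at h
  subst h
  exact congrArg (Sigma.mk A)
    ((existsUnique_below hM hP (Below.le (a := ⟨A, u⟩) ha)).unique ha hb)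

omit [Fact p.Prime] in
theorem conjPair_subpair (g : G) {a b : BrauerPairIdx G}
    (h : Relation.ReflTransGen (NormalSubpairRel p M) a b) :
    Relation.ReflTransGen (NormalSubpairRel p M) (conjPair g a) (conjPair g b) :=
  subpairLE_conj g h

theorem conjPair_self_of_mem (hM : IsPModular p M) (hP : IsBrauerPair p M P e) {g : G}
    (hg : g ∈ P) : conjPair g ⟨P, e⟩ = ⟨P, e⟩ := by
  refine pair_ext (map_conj_of_mem_normalizer (Subgroup.le_normalizer hg)) fun c => ?_
  show subgroupBlockCoeff _ (conjBlock P g e) c = _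
  rw [bc_conjBlock']
  have h := (goodAt_bc_self hM hP.2).fixP g⁻¹ (P.inv_mem hg) c
  simpa using h

theorem Below.conj_mem (hM : IsPModular p M) (hP : IsBrauerPair p M P e) {a : BrauerPairIdx G}
    (ha : Below p M P e a) {g : G} (hg : g ∈ P) : Below p M P e (conjPair g a) := by
  have h := conjPair_subpair g ha
  rw [conjPair_self_of_mem hM hP hg] at h
  exact h

theorem moves_of_mem (hM : IsPModular p M) (hP : IsBrauerPair p M P e) {Q : Subgroup G}
    (hQ : Q ≤ P) {g : G} (hg : g ∈ P) : Moves p M P e Q g := by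
  obtain ⟨f, hf, -⟩ := existsUnique_below hM hP hQ
  exact ⟨f, hf, Below.conj_mem hM hP hf hg⟩

theorem Moves.comp (hM : IsPModular p M) (hP : IsBrauerPair p M P e) {Q R : Subgroup G} {g k : G}
    (hg : Moves p M P e Q g) (hk : Moves p M P e R k)
    (hle : Q.map (MulAut.conj g).toMonoidHom ≤ R) : Moves p M P e Q (k * g) := by
  obtain ⟨f, hf, hgf⟩ := hg
  obtain ⟨f', hf', hkf'⟩ := hk
  refine ⟨f, hf, ?_⟩
  rw [conjPair_mul]
  exact (conjPair_subpair k (subpairLE_mid hM hP hgf hf' hle)).trans hkf'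

theorem Moves.inv {Q : Subgroup G} {g : G} (hg : Moves p M P e Q g) :
    Moves p M P e (Q.map (MulAut.conj g).toMonoidHom) g⁻¹ := by
  obtain ⟨f, hf, hgf⟩ := hg
  refine ⟨conjBlock Q g f, hgf, ?_⟩
  show Below p M P e (conjPair g⁻¹ (conjPair g ⟨Q, f⟩))
  rwa [← conjPair_mul, inv_mul_cancel, conjPair_one]

theorem mem_blockHom_iff {Q : Subgroup G} (g : G) :
    (∃ f : Set (IrrCharacter (Subgroup.centralizer (Q : Set G))), SubpairLE p M Q f P e ∧
      SubpairLE p M (Q.map (MulAut.conj g).toMonoidHom) (conjBlock Q g f) P e)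
      ↔ Moves p M P e Q g := Iff.rfl

/-- The fusion system of a block on a maximal pair. -/
def blockFusion (hM : IsPModular p M) (hP : IsBrauerPair p M P e) : FusionSystem P where
  Hom Q := {φ | Q ≤ P ∧ ∃ g : G, (∀ u : Q, φ u = g * (u : G) * g⁻¹) ∧
    Q.map (MulAut.conj g).toMonoidHom ≤ P ∧ Moves p M P e Q g}
  le_of_mem := by
    rintro Q φ ⟨hQ, g, hg, hgP, -⟩
    exact ⟨hQ, fun x => (hg x).symm ▸ hgP ⟨x, x.2, rfl⟩⟩
  injective_of_mem := by
    rintro Q φ ⟨-, g, hg, -, -⟩ a b hab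
    exact Subtype.ext (mul_left_cancel (mul_right_cancel ((hg a).symm.trans (hab.trans (hg b)))))
  conj_mem := by
    intro Q g hQ hg
    refine ⟨hQ, g, fun u => rfl, ?_, moves_of_mem hM hP hQ hg⟩
    rintro _ ⟨x, hx, rfl⟩
    exact P.mul_mem (P.mul_mem hg (hQ hx)) (P.inv_mem hg)
  comp_mem := by
    rintro Q R φ ψ ⟨hQ, g, hg, hgP, hmg⟩ ⟨hR, k, hk, hkP, hmk⟩ h
    have hle : Q.map (MulAut.conj g).toMonoidHom ≤ R := by
      rintro _ ⟨x, hx, rfl⟩
      have := h ⟨x, hx⟩
      rwa [hg] at this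
    refine ⟨hQ, k * g, fun u => ?_, ?_, hmg.comp hM hP hmk hle⟩
    · show ψ (φ.codRestrict R h u) = _
      rw [hk]
      show k * φ u * k⁻¹ = _
      rw [hg]; group
    · rintro _ ⟨x, hx, rfl⟩
      have := hkP ⟨g * x * g⁻¹, hle ⟨x, hx, rfl⟩, rfl⟩
      simpa [mul_assoc] using this
  inv_mem := by
    rintro Q φ ⟨hQ, g, hg, hgP, hm⟩
    have hr : φ.range = Q.map (MulAut.conj g).toMonoidHom := by
      ext y
      constructor
      · rintro ⟨x, rfl⟩; exact ⟨x, x.2, (hg x).symm⟩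
      · rintro ⟨x, hx, rfl⟩; exact ⟨⟨x, hx⟩, hg _⟩
    refine ⟨conjHom φ.range g⁻¹, ⟨hr.trans_le hgP, g⁻¹, fun u => rfl, ?_, hr ▸ hm.inv⟩, fun x => ?_⟩
    · rw [hr]
      rintro _ ⟨_, ⟨x, hx, rfl⟩, rfl⟩
      simpa [mul_assoc] using hQ hx
    · show g⁻¹ * φ x * g⁻¹⁻¹ = x
      rw [hg]; simp [mul_assoc]

theorem isBlockFusionSystemOn_blockFusion (hM : IsPModular p M)
    (hmax : IsMaximalBrauerPair p M B P e) :
    IsBlockFusionSystemOn p M B P e (blockFusion hM hmax.1.1) :=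
  ⟨hmax, fun _ _ => Iff.rfl⟩

variable {F : FusionSystem P}

omit [Fact p.Prime] in
theorem mem_hom_iff (hF : IsBlockFusionSystemOn p M B P e F) {Q : Subgroup G} {φ : Q →* G} :
    φ ∈ F.Hom Q ↔ Q ≤ P ∧ ∃ g : G, (∀ u : Q, φ u = g * (u : G) * g⁻¹) ∧ Moves p M P e Q g := by
  refine (hF.2 Q φ).trans (and_congr_right fun _ => exists_congr fun g => and_congr_right fun _ =>
    ⟨fun h => h.2, fun h => ⟨?_, h⟩⟩)
  obtain ⟨f, -, hgf⟩ := h
  exact hgf.le

omit [Fact p.Prime] in
theorem fn_iff (hF : IsBlockFusionSystemOn p M B P e F) {Q : Subgroup G} {f : G → G} :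
    CfsgLib.Fsys.Fn F Q f ↔ Q ≤ P ∧ ∃ g : G, (∀ x ∈ Q, f x = g * x * g⁻¹) ∧ Moves p M P e Q g := by
  constructor
  · rintro ⟨φ, hφ, hφf⟩
    obtain ⟨hQ, g, hg, hm⟩ := (mem_hom_iff hF).1 hφ
    exact ⟨hQ, g, fun x hx => (hφf ⟨x, hx⟩).symm.trans (hg ⟨x, hx⟩), hm⟩
  · rintro ⟨hQ, g, hg, hm⟩
    exact ⟨conjHom Q g, (mem_hom_iff hF).2 ⟨hQ, g, fun u => rfl, hm⟩, fun x => (hg x x.2).symm⟩

omit [Fact p.Prime] in
theorem isConj_iff_moves (hF : IsBlockFusionSystemOn p M B P e F) {Q R : Subgroup G} :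
    F.IsConj Q R ↔
      Q ≤ P ∧ ∃ g : G, Moves p M P e Q g ∧ Q.map (MulAut.conj g).toMonoidHom = R := by
  rw [CfsgLib.Fsys.isConj_iff]
  constructor
  · rintro ⟨f, hf, rfl⟩
    obtain ⟨hQ, g, hg, hm⟩ := (fn_iff hF).1 hf
    exact ⟨hQ, g, hm, ((CfsgLib.Fsys.img_congr hg).trans (CfsgLib.Fsys.img_conj Q g)).symm⟩
  · rintro ⟨hQ, g, hm, rfl⟩
    exact ⟨_, (fn_iff hF).2 ⟨hQ, g, fun _ _ => rfl, hm⟩, CfsgLib.Fsys.img_conj Q g⟩

variable {Q : Subgroup G} {f : Set (IrrCharacter (Subgroup.centralizer (Q : Set G)))}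

theorem blockDefect_conjBlock (hM : IsPModular p M) (hf : IsPBlock M f) (x : G) :
    blockDefect p (conjBlock Q x f) = blockDefect p f := by
  obtain ⟨D, hD⟩ := exists_isDefectGroup hM hf
  have h1 := card_defectGroup hM (isPBlock_conjBlock Q x hf) (isDefectGroup_conjBlock x hD)
  rw [Subgroup.card_map_of_injective (centIso Q x).injective, card_defectGroup hM hf hD] at h1
  exact ((Nat.pow_right_injective hM.1.two_le) h1).symm

theorem card_centralizerIn_le (hM : IsPModular p M) (hP : IsBrauerPair p M P e)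
    (hle : SubpairLE p M Q f P e) :
    Nat.card (P ⊓ Subgroup.centralizer (Q : Set G) : Subgroup G) ≤ p ^ blockDefect p f := by
  obtain ⟨D, hD, hPD⟩ := exists_defect_ge_centralizer hM hP hle
  rw [← card_defectGroup hM (isBrauerPair_of_subpairLE hle hP).2 hD,
    ← Nat.card_congr (Subgroup.subgroupOfEquivOfLe (inf_le_right :
      P ⊓ Subgroup.centralizer (Q : Set G) ≤ Subgroup.centralizer (Q : Set G))).toEquiv]
  exact Subgroup.card_le_of_le hPD

theorem isDefectGroup_centralizer_iff (hM : IsPModular p M) (hP : IsBrauerPair p M P e)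
    (hle : SubpairLE p M Q f P e) :
    IsDefectGroup p M f
        ((P ⊓ Subgroup.centralizer (Q : Set G)).subgroupOf (Subgroup.centralizer (Q : Set G)))
      ↔ Nat.card (P ⊓ Subgroup.centralizer (Q : Set G) : Subgroup G) = p ^ blockDefect p f := by
  have hf := (isBrauerPair_of_subpairLE hle hP).2
  rw [← Nat.card_congr (Subgroup.subgroupOfEquivOfLe (inf_le_right :
    P ⊓ Subgroup.centralizer (Q : Set G) ≤ Subgroup.centralizer (Q : Set G))).toEquiv]
  refine ⟨fun h => card_defectGroup hM hf h, fun h => ?_⟩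
  obtain ⟨D, hD, hPD⟩ := exists_defect_ge_centralizer hM hP hle
  rwa [Subgroup.eq_of_le_of_card_ge hPD (by rw [card_defectGroup hM hf hD, h])]

/-- Fully centralized subgroups. -/
theorem isFullyCentralized_iff (hM : IsPModular p M) (hF : IsBlockFusionSystemOn p M B P e F)
    (hle : SubpairLE p M Q f P e) :
    F.IsFullyCentralized Q
      ↔ Nat.card (P ⊓ Subgroup.centralizer (Q : Set G) : Subgroup G) = p ^ blockDefect p f := by
  have hP := hF.1.1.1
  have hQP : Q ≤ P := subgroup_le_of_subpairLE hle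
  have hQB := isBrauerPairOf_down hM hle hF.1.1
  constructor
  · intro h
    refine le_antisymm (card_centralizerIn_le hM hP hle) ?_
    obtain ⟨x, hx, hD⟩ := exists_conj_centralizer_defect hM hF.1 hQB
    rw [isDefectGroup_centralizer_iff hM hP hx, blockDefect_conjBlock hM hQB.1.2] at hD
    rw [← hD]
    exact h.2 _ ((isConj_iff_moves hF).2 ⟨hQP, x, ⟨f, hle, hx⟩, rfl⟩)
  · intro h
    refine ⟨hQP, fun R hR => ?_⟩
    obtain ⟨-, g, ⟨f', hf', hgf⟩, rfl⟩ := (isConj_iff_moves hF).1 hR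
    obtain rfl : f' = f := (existsUnique_below hM hP hQP).unique hf' hle
    refine (card_centralizerIn_le hM hP hgf).trans ?_
    rw [blockDefect_conjBlock hM hQB.1.2, ← h]
    exact le_rfl

variable {T : Subgroup G} {FT : Set (IrrCharacter T)}

theorem card_normalizerIn_le (hM : IsPModular p M) (hP : IsBrauerPair p M P e)
    (hQf : IsBrauerPair p M Q f)
    (hT : ∀ y : G, y ∈ T ↔ y ∈ Subgroup.normalizer (Q : Set G)
      ∧ StabilizesBlock (Subgroup.centralizer (Q : Set G)) f y)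
    (hFT : IsPBlock M FT)
    (hFc : ∀ t : T, blockCoeff FT t
      = subgroupBlockCoeff (Subgroup.centralizer (Q : Set G)) f (t : G)) {x : G}
    (hle : SubpairLE p M (Q.map (MulAut.conj x).toMonoidHom) (conjBlock Q x f) P e) :
    Nat.card (P ⊓ Subgroup.normalizer
      ((Q.map (MulAut.conj x).toMonoidHom : Subgroup G) : Set G) : Subgroup G)
      ≤ p ^ blockDefect p FT := by
  set Qx := Q.map (MulAut.conj x).toMonoidHom
  set S := (P ⊓ Subgroup.normalizer (Qx : Set G)).map (MulAut.conj x⁻¹).toMonoidHom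
  obtain ⟨-, hfix, c, hc, hne⟩ := stabHyp_inf hM hP hle
  have hmem : ∀ s ∈ S, x * s * x⁻¹ ∈ P ⊓ Subgroup.normalizer (Qx : Set G) := by
    rintro _ ⟨s, hs, rfl⟩
    simpa [mul_assoc] using hs
  have hST : S ≤ T := fun s hs => by
    refine (mem_stab_iff hT s).2 ⟨mem_normalizer_map_conj.1 (hmem s hs).2, fun z => ?_⟩
    have h := hfix _ (hmem s hs) (x * z * x⁻¹)
    rw [show x * s * x⁻¹ * (x * z * x⁻¹) * (x * s * x⁻¹)⁻¹ = x * (s * z * s⁻¹) * x⁻¹ by
      simp [mul_assoc], bc_conjBlock, bc_conjBlock] at h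
    exact h
  obtain ⟨D, hD, hSD⟩ := exists_defect_ge_stab hM hFT hFc
    (IsPGroup.map (hP.1.to_le inf_le_left) _ : IsPGroup p S) hST (stabHyp_of_iff hQf hM hT).cent
    ⟨x⁻¹ * c * x, Subgroup.mem_centralizer_iff.2 fun s hs => by
      have h := congrArg (fun z => x⁻¹ * z * x)
        (Subgroup.mem_centralizer_iff.1 hc _ (hmem s hs))
      simpa [mul_assoc] using h, fun hI => hne (by rwa [bc_conjBlock'])⟩
  have h1 := Subgroup.card_le_of_le hSD
  rwa [Nat.card_congr (Subgroup.subgroupOfEquivOfLe hST).toEquiv, card_defectGroup hM hFT hD,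
    Subgroup.card_map_of_injective (MulAut.conj x⁻¹).injective] at h1

/-- Fully normalized subgroups. -/
theorem isFullyNormalized_iff (hM : IsPModular p M) (hF : IsBlockFusionSystemOn p M B P e F)
    (hle : SubpairLE p M Q f P e)
    (hT : ∀ y : G, y ∈ T ↔ y ∈ Subgroup.normalizer (Q : Set G)
      ∧ StabilizesBlock (Subgroup.centralizer (Q : Set G)) f y)
    (hFT : IsPBlock M FT)
    (hFc : ∀ t : T, blockCoeff FT t
      = subgroupBlockCoeff (Subgroup.centralizer (Q : Set G)) f (t : G)) :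
    F.IsFullyNormalized Q
      ↔ Nat.card (P ⊓ Subgroup.normalizer (Q : Set G) : Subgroup G) = p ^ blockDefect p FT := by
  have hP := hF.1.1.1
  have hQP : Q ≤ P := subgroup_le_of_subpairLE hle
  have hQB := isBrauerPairOf_down hM hle hF.1.1
  have hh := stabHyp_of_iff hQB.1 hM hT
  constructor
  · intro h
    refine le_antisymm ?_ ?_
    · obtain ⟨D, hD, hPD⟩ := exists_defect_ge_normalizer hM hP hle hT hFT hFc
      obtain ⟨hQS, hfix, -⟩ := stabHyp_inf hM hP hle
      rw [← card_defectGroup hM hFT hD, ← Nat.card_congr (Subgroup.subgroupOfEquivOfLe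
        (fun s hs => (mem_stab_iff hT s).2 ⟨hs.2, hfix s hs⟩ :
          P ⊓ Subgroup.normalizer (Q : Set G) ≤ T)).toEquiv]
      exact Subgroup.card_le_of_le hPD
    · obtain ⟨D, hD⟩ := exists_isDefectGroup hM hFT
      obtain ⟨hQD, hunit⟩ := stab_defect_data hM hh hFT hFc hD
      obtain ⟨x, hx, hxD⟩ := exists_conj_le_maximal hM hF.1 hQB
        (IsPGroup.map (isPGroup_defectGroup hD) _) hQD
        ((Subgroup.map_subtype_le D).trans hh.norm)
        (fun s hs => hh.fix s (Subgroup.map_subtype_le D hs)) hunit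
      refine le_trans ?_ (h.2 _ ((isConj_iff_moves hF).2 ⟨hQP, x, ⟨f, hle, hx⟩, rfl⟩))
      rw [← card_defectGroup hM hFT hD, ← Subgroup.card_map_of_injective T.subtype_injective,
        ← Subgroup.card_map_of_injective (K := D.map T.subtype) (f := (MulAut.conj x).toMonoidHom)
          (MulAut.conj x).injective]
      refine Subgroup.card_le_of_le (le_inf hxD ?_)
      rintro _ ⟨s, hs, rfl⟩
      exact mem_normalizer_map_conj.2 (hh.norm (Subgroup.map_subtype_le D hs))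
  · intro h
    refine ⟨hQP, fun R hR => ?_⟩
    obtain ⟨-, g, ⟨f', hf', hgf⟩, rfl⟩ := (isConj_iff_moves hF).1 hR
    obtain rfl : f' = f := (existsUnique_below hM hP hQP).unique hf' hle
    refine (card_normalizerIn_le hM hP hQB.1 hT hFT hFc hgf).trans ?_
    rw [← h]
    exact le_rfl

/-- The automizer is induced by the stabilizer of the pair. -/
theorem autGroup_eq (hM : IsPModular p M) (hF : IsBlockFusionSystemOn p M B P e F)
    (hle : SubpairLE p M Q f P e)
    (hT : ∀ y : G, y ∈ T ↔ y ∈ Subgroup.normalizer (Q : Set G)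
      ∧ StabilizesBlock (Subgroup.centralizer (Q : Set G)) f y) :
    F.autGroup Q = autInducedBy T Q := by
  have hP := hF.1.1.1
  have hQP : Q ≤ P := subgroup_le_of_subpairLE hle
  ext α
  rw [CfsgLib.Fsys.mem_autGroup hQP, CfsgLib.Fsys.mem_autInducedBy, mem_hom_iff hF]
  constructor
  · rintro ⟨-, g, hg, f', hf', hgf⟩
    refine ⟨g, ?_, fun x => hg x⟩
    have hgN : g ∈ Subgroup.normalizer (Q : Set G) := CfsgLib.Fsys.mem_normalizer_of_autEq
      (α := α) fun x => hg x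
    refine (mem_stab_iff hT g).2 ⟨hgN, fun z => ?_⟩
    obtain rfl : f' = f := (existsUnique_below hM hP hQP).unique hf' hle
    have h1 := Below.eq hM hP hgf hle (map_conj_of_mem_normalizer hgN)
    have h2 := congrFun (congrArg (fun a : BrauerPairIdx G =>
      subgroupBlockCoeff (Subgroup.centralizer (a.1 : Set G)) a.2) h1) (g * z * g⁻¹)
    simp only [conjPair] at h2
    rw [bc_conjBlock] at h2
    exact h2.symm
  · rintro ⟨g, hgT, hg⟩
    obtain ⟨hgN, hfix⟩ := (mem_stab_iff hT g).1 hgT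
    refine ⟨hQP, g, hg, f, hle, ?_⟩
    have h1 : conjPair g ⟨Q, f⟩ = ⟨Q, f⟩ := pair_ext (map_conj_of_mem_normalizer hgN) fun c => by
      show subgroupBlockCoeff _ (conjBlock Q g f) c = _
      rw [bc_conjBlock', ← hfix]
      simp [mul_assoc]
    rw [h1]; exact hle

/-- The stabilizer of a pair. -/
def pairStab (Q : Subgroup G) (f : Set (IrrCharacter (Subgroup.centralizer (Q : Set G)))) :
    Subgroup G where
  carrier := {y | y ∈ Subgroup.normalizer (Q : Set G) ∧
    Fixes y (subgroupBlockCoeff (Subgroup.centralizer (Q : Set G)) f)}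
  one_mem' := ⟨Subgroup.one_mem _, fun z => by simp⟩
  mul_mem' ha hb := ⟨Subgroup.mul_mem _ ha.1 hb.1, ha.2.mul hb.2⟩
  inv_mem' ha := ⟨Subgroup.inv_mem _ ha.1, ha.2.inv⟩

omit [Fact p.Prime] in
theorem mem_pairStab (y : G) : y ∈ pairStab Q f ↔ y ∈ Subgroup.normalizer (Q : Set G)
    ∧ StabilizesBlock (Subgroup.centralizer (Q : Set G)) f y :=
  and_congr_right fun hy => ((stabilizesBlock_iff _ f y).trans
    (and_iff_right (normalizer_le_normalizer_centralizer Q hy))).symm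

/-- Fully centralized subgroups are receptive. -/
theorem receptive_of_card (hM : IsPModular p M) (hF : IsBlockFusionSystemOn p M B P e F)
    (hle : SubpairLE p M Q f P e)
    (hcard : Nat.card (P ⊓ Subgroup.centralizer (Q : Set G) : Subgroup G) = p ^ blockDefect p f) :
    F.IsReceptive Q := by
  have hP := hF.1.1.1
  have hQP : Q ≤ P := subgroup_le_of_subpairLE hle
  refine CfsgLib.Fsys.receptive_of_extend hQP fun P₀ φ hφ himg => ?_
  obtain ⟨hP₀, g, hg, f₀, hf₀, hgf₀⟩ := (fn_iff hF).1 hφ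
  have hmapg : P₀.map (MulAut.conj g).toMonoidHom = Q :=
    ((CfsgLib.Fsys.img_congr hg).trans (CfsgLib.Fsys.img_conj P₀ g)).symm.trans himg
  subst hmapg
  obtain rfl : conjBlock P₀ g f₀ = f := (existsUnique_below hM hP hQP).unique hgf₀ hle
  obtain ⟨hQR, hfixR, -⟩ := stabHyp_inf hM hP hle
  set R₀ := P ⊓ Subgroup.normalizer ((P₀.map (MulAut.conj g).toMonoidHom : Subgroup G) : Set G)
    with hR₀
  set C := Subgroup.centralizer ((P₀.map (MulAut.conj g).toMonoidHom : Subgroup G) : Set G) with hC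
  have hfixU : R₀ ⊔ C ≤ pairStab (P₀.map (MulAut.conj g).toMonoidHom) (conjBlock P₀ g f₀) :=
    sup_le (fun r hr => ⟨hr.2, hfixR r hr⟩)
      fun c hc => ⟨centralizer_le_normalizer _ hc, bc_fixes_of_mem hc _⟩
  have hh : StabHyp p M (P₀.map (MulAut.conj g).toMonoidHom) (R₀ ⊔ C) (conjBlock P₀ g f₀) :=
    ⟨isBrauerPair_of_subpairLE hle hP, hQR.trans le_sup_left, le_sup_right,
      fun u hu => (hfixU hu).1, fun u hu => (hfixU hu).2⟩
  have hUmul : ∀ u ∈ R₀ ⊔ C, ∃ r ∈ R₀, ∃ c ∈ C, r * c = u := by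
    intro u hu
    rw [← SetLike.mem_coe, Subgroup.coe_mul_of_left_le_normalizer_right R₀ C
      (inf_le_right.trans (normalizer_le_normalizer_centralizer _))] at hu
    obtain ⟨r, hr, c, hc, rfl⟩ := Set.mem_mul.1 hu
    exact ⟨r, hr, c, hc, rfl⟩
  have hbd : ∀ (F' : Set (IrrCharacter ↥(R₀ ⊔ C))) (D : Subgroup ↥(R₀ ⊔ C)), IsPBlock M F' →
      (∀ t : ↥(R₀ ⊔ C), blockCoeff F' t = subgroupBlockCoeff C (conjBlock P₀ g f₀) (t : G)) →
      IsDefectGroup p M F' D → Nat.card D ≤ Nat.card ↥(P ⊓ (R₀ ⊔ C)) := by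
    intro F' D hF' hFc' hD
    refine le_trans (card_defect_le_of_aut hM hh hF' hFc' hD (R₀ := R₀) fun α hα => ?_) ?_
    · rw [CfsgLib.Fsys.mem_autInducedBy] at hα ⊢
      obtain ⟨u, hu, hα⟩ := hα
      obtain ⟨r, hr, c, hc, rfl⟩ := hUmul u hu
      refine ⟨r, hr, fun x => (hα x).trans ?_⟩
      have : c * (x : G) * c⁻¹ = x := by
        rw [← Subgroup.mem_centralizer_iff.1 hc x x.2, mul_inv_cancel_right]
      rw [show r * c * (x : G) * (r * c)⁻¹ = r * (c * x * c⁻¹) * r⁻¹ by simp [mul_assoc], this]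
    · have h1 := card_autInducedBy (K := R₀)
        (Q := P₀.map (MulAut.conj g).toMonoidHom) inf_le_right
      have h2 : R₀ ⊓ C = P ⊓ C :=
        le_antisymm (inf_le_inf_right C inf_le_left)
          (le_inf (le_inf inf_le_left (inf_le_right.trans (centralizer_le_normalizer _))) inf_le_right)
      rw [show (P₀.map (MulAut.conj g).toMonoidHom : Subgroup G) = P₀.map (MulAut.conj g).toMonoidHom
        from rfl, ← hC, h2, hcard] at h1
      rw [h1]
      exact Subgroup.card_le_of_le (le_inf inf_le_left le_sup_left)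
  set N₀ := FusionSystem.extender P P₀ (conjHom P₀ g)
  have hN₀ : ∀ n, n ∈ N₀ ↔ CfsgLib.Fsys.InExt P P₀ φ n := fun n =>
    CfsgLib.Fsys.mem_extender fun x => (hg x x.2).symm
  have hPN : P₀ ≤ N₀ := fun x hx => (hN₀ x).2 (CfsgLib.Fsys.inExt_of_mem hφ hx)
  have hNP : N₀ ≤ P := fun n hn => ((hN₀ n).1 hn).1
  have hNN : N₀ ≤ Subgroup.normalizer (P₀ : Set G) := fun n hn => ((hN₀ n).1 hn).2.1
  have hgN : N₀.map (MulAut.conj g).toMonoidHom ≤ R₀ ⊔ C := by
    rintro _ ⟨n, hn, rfl⟩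
    obtain ⟨hnP, hnN, h, hhP, hh'⟩ := (hN₀ n).1 hn
    have hact : ∀ x ∈ P₀, g * (n * x * n⁻¹) * g⁻¹ = h * (g * x * g⁻¹) * h⁻¹ := fun x hx => by
      have h1 := hh' x hx
      rwa [hg _ ((Subgroup.mem_normalizer_iff.1 hnN x).1 hx), hg x hx] at h1
    have hhN : h ∈ R₀ := ⟨hhP, CfsgLib.Fsys.mem_normalizer_of_map_le (by
      rintro _ ⟨x, hx, rfl⟩
      exact ⟨n * x * n⁻¹, (Subgroup.mem_normalizer_iff.1 hnN x).1 hx, hact x hx⟩)⟩
    have hc : h⁻¹ * (g * n * g⁻¹) ∈ C := by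
      rw [hC, Subgroup.mem_centralizer_iff]
      rintro _ ⟨x, hx, rfl⟩
      have h1 : g * (n * x * n⁻¹) * g⁻¹ = h * (g * x * g⁻¹) * h⁻¹ := hact x hx
      show g * x * g⁻¹ * (h⁻¹ * (g * n * g⁻¹)) = h⁻¹ * (g * n * g⁻¹) * (g * x * g⁻¹)
      calc g * x * g⁻¹ * (h⁻¹ * (g * n * g⁻¹))
          = h⁻¹ * (h * (g * x * g⁻¹) * h⁻¹) * (g * n * g⁻¹) := by group
        _ = h⁻¹ * (g * (n * x * n⁻¹) * g⁻¹) * (g * n * g⁻¹) := by rw [h1]
        _ = _ := by group
    have := Subgroup.mul_mem _ (Subgroup.mem_sup_left hhN) (Subgroup.mem_sup_right hc : _ ∈ R₀ ⊔ C)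
    simpa [mul_assoc] using this
  obtain ⟨k₀, hk₀, -⟩ := existsUnique_below hM hP hNP
  have hN : IsNormalSubpair p M P₀ f₀ N₀ k₀ :=
    normal_of_subpairLE hM (isBrauerPair_of_subpairLE hk₀ hP)
      (subpairLE_mid hM hP hf₀ hk₀ hPN) hNN
  obtain ⟨u, hu, hub⟩ := exists_conj_below_in hM hh hP hle hbd (isNormalSubpair_conj g hN) hgN
  obtain ⟨r, hr, c, hc, rfl⟩ := hUmul u hu
  have hb : Below p M P e (conjPair (c * g) ⟨N₀, k₀⟩) := by
    have h1 : Below p M P e (conjPair r⁻¹ (conjPair (r * c) (conjPair g ⟨N₀, k₀⟩))) :=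
      Below.conj_mem hM hP hub (P.inv_mem hr.1)
    rwa [← conjPair_mul, ← conjPair_mul, ← mul_assoc, inv_mul_cancel, one_mul] at h1
  refine ⟨fun x => (c * g) * x * (c * g)⁻¹, fun N hN => ?_, fun x hx => ?_⟩
  · exact ((fn_iff hF).2 ⟨hNP, c * g, fun _ _ => rfl, k₀, hk₀, hb⟩).mono
      fun n hn => (hN₀ n).2 (hN n hn)
  · show c * g * x * (c * g)⁻¹ = φ x
    rw [hg x hx]
    have hc' : c ∈ Subgroup.centralizer
        ((P₀.map (MulAut.conj g).toMonoidHom : Subgroup G) : Set G) := hc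
    have h1 := Subgroup.mem_centralizer_iff.1 hc' (g * x * g⁻¹) ⟨x, hx, rfl⟩
    rw [show c * g * x * (c * g)⁻¹ = c * (g * x * g⁻¹) * c⁻¹ by simp [mul_assoc], ← h1,
      mul_inv_cancel_right]

/-- Fully normalized subgroups are fully centralized. -/
theorem centralizer_card_of_normalized (hM : IsPModular p M)
    (hF : IsBlockFusionSystemOn p M B P e F) (hle : SubpairLE p M Q f P e)
    (hFN : F.IsFullyNormalized Q) :
    Nat.card (P ⊓ Subgroup.centralizer (Q : Set G) : Subgroup G) = p ^ blockDefect p f := by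
  have hP := hF.1.1.1
  have hQf := isBrauerPair_of_subpairLE hle hP
  have hh := stabHyp_of_iff hQf hM (mem_pairStab (Q := Q) (f := f))
  obtain ⟨FT, hFT, hFc⟩ := exists_stabBlock hM hh
  have hcard := (isFullyNormalized_iff hM hF hle mem_pairStab hFT hFc).1 hFN
  obtain ⟨hQR, hfix, -⟩ := stabHyp_inf hM hP hle
  obtain ⟨D, hD, hRD⟩ := exists_defect_ge_normalizer hM hP hle mem_pairStab hFT hFc
  have hRT : P ⊓ Subgroup.normalizer (Q : Set G) ≤ pairStab Q f := fun s hs => ⟨hs.2, hfix s hs⟩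
  have hReq : (P ⊓ Subgroup.normalizer (Q : Set G)).subgroupOf (pairStab Q f) = D :=
    Subgroup.eq_of_le_of_card_ge hRD (by
      rw [card_defectGroup hM hFT hD, Nat.card_congr (Subgroup.subgroupOfEquivOfLe hRT).toEquiv,
        hcard])
  obtain ⟨E, hE⟩ := exists_isDefectGroup hM hQf.2
  obtain ⟨c, hc, hcl⟩ := exists_unit_coeff_centralizer hM hE
  set E' := E.map (Subgroup.centralizer (Q : Set G)).subtype
  obtain ⟨D₂, hD₂, hED⟩ := exists_defect_ge_stab hM hFT hFc
    (IsPGroup.map (isPGroup_defectGroup hE) _ : IsPGroup p E')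
    ((Subgroup.map_subtype_le E).trans hh.cent) hh.cent
    ⟨c, (coe_mem_centralizer_iff rfl c).2 hc, by rw [bc_coe]; exact hcl.2.1⟩
  obtain ⟨y, hy⟩ := exists_conj_eq_defectGroup hM hFT hD₂ hD
  refine le_antisymm (card_centralizerIn_le hM hP hle) ?_
  rw [← card_defectGroup hM hQf.2 hE,
    ← Subgroup.card_map_of_injective (Subgroup.centralizer (Q : Set G)).subtype_injective,
    ← Subgroup.card_map_of_injective (K := E') (f := (MulAut.conj (y : G)).toMonoidHom)
      (MulAut.conj (y : G)).injective]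
  refine Subgroup.card_le_of_le ?_
  rintro _ ⟨z, hz, rfl⟩
  have hzC : z ∈ Subgroup.centralizer (Q : Set G) := Subgroup.map_subtype_le E hz
  have h1 : y * ⟨z, hh.cent hzC⟩ * y⁻¹ ∈ D := hy ▸ ⟨⟨z, hh.cent hzC⟩, hED hz, rfl⟩
  rw [← hReq] at h1
  exact ⟨h1.1, mem_centralizer_conj (hh.norm y.2) hzC⟩

theorem fullyAutomized_of_normalized (hM : IsPModular p M)
    (hF : IsBlockFusionSystemOn p M B P e F) (hle : SubpairLE p M Q f P e)
    (hFN : F.IsFullyNormalized Q) : F.IsFullyAutomized p Q := by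
  have hP := hF.1.1.1
  have hQP : Q ≤ P := subgroup_le_of_subpairLE hle
  have hQf := isBrauerPair_of_subpairLE hle hP
  have hh := stabHyp_of_iff hQf hM (mem_pairStab (Q := Q) (f := f))
  obtain ⟨FT, hFT, hFc⟩ := exists_stabBlock hM hh
  have hcard := (isFullyNormalized_iff hM hF hle mem_pairStab hFT hFc).1 hFN
  obtain ⟨-, hfix, -⟩ := stabHyp_inf hM hP hle
  obtain ⟨D, hD, hRD⟩ := exists_defect_ge_normalizer hM hP hle mem_pairStab hFT hFc
  have hRT : P ⊓ Subgroup.normalizer (Q : Set G) ≤ pairStab Q f := fun s hs => ⟨hs.2, hfix s hs⟩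
  have hReq : (P ⊓ Subgroup.normalizer (Q : Set G)).subgroupOf (pairStab Q f) = D :=
    Subgroup.eq_of_le_of_card_ge hRD (by
      rw [card_defectGroup hM hFT hD, Nat.card_congr (Subgroup.subgroupOfEquivOfLe hRT).toEquiv,
        hcard])
  have hbound := autInducedBy_factorization_le hM hh hFT hFc hD
  rw [← hReq, Subgroup.map_subgroupOf_eq_of_le hRT] at hbound
  have hrestr : autInducedBy (P ⊓ Subgroup.normalizer (Q : Set G)) Q = autInducedBy P Q :=
    le_antisymm (autInducedBy_mono inf_le_left) fun α hα => by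
      rw [CfsgLib.Fsys.mem_autInducedBy] at hα ⊢
      obtain ⟨g, hg, hα⟩ := hα
      exact ⟨g, ⟨hg, CfsgLib.Fsys.mem_normalizer_of_autEq hα⟩, hα⟩
  rw [hrestr] at hbound
  refine ⟨hQP, ?_⟩
  have haut := autGroup_eq hM hF hle mem_pairStab
  obtain ⟨k, hk⟩ := IsPGroup.iff_card.1 (CfsgLib.Fsys.isPGroup_autInducedBy (P := Q) hP.1)
  have hleA : autInducedBy P Q ≤ F.autGroup Q := CfsgLib.Fsys.autInducedBy_le_autGroup hQP
  have hkA : k = (Nat.card (F.autGroup Q)).factorization p := by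
    refine le_antisymm ?_ ?_
    · exact (hM.1.pow_dvd_iff_le_factorization Nat.card_pos.ne').1
        (hk ▸ Subgroup.card_dvd_of_le hleA)
    · rw [haut]
      refine hbound.trans ?_
      rw [hk, Nat.Prime.factorization_pow hM.1, Finsupp.single_eq_same]
  refine ⟨Sylow.ofCard ((autInducedBy P Q).subgroupOf (F.autGroup Q)) ?_, Sylow.coe_ofCard _ _⟩
  rw [Nat.card_congr (Subgroup.subgroupOfEquivOfLe hleA).toEquiv, hk, hkA]

/-- The fusion system of a block is saturated. -/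
theorem isSaturated_block (hM : IsPModular p M) (hF : IsBlockFusionSystemOn p M B P e F) :
    F.IsSaturated p := by
  refine CfsgLib.Fsys.isSaturated_of_axioms fun Q hQ => ?_
  obtain ⟨f, hle, -⟩ := existsUnique_below hM hF.1.1.1 hQ.1
  exact ⟨fullyAutomized_of_normalized hM hF hle hQ,
    receptive_of_card hM hF hle (centralizer_card_of_normalized hM hF hle hQ)⟩

end CfsgLib.BrauerPairs
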