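import Cfsg.Agent.Lib.BrauerPairs.Stabilizer

/-!
# Brauer pairs of a subgroup containing the centralizer of a pair
-/

set_option autoImplicit false

namespace CfsgLib.BrauerPairs

open Cfsg CfsgLib.Blocks
open scoped Classical ComplexConjugate

variable {G : Type*} [Group G] [Fintype G] {p : ℕ} {M : Ideal AlgInt} {H : Subgroup G}
  {Q P : Subgroup G} {R R₁ R₂ : Subgroup H}

/-- The blocks `k` of `C_H(R)` and `k'` of `C_G(R)` have the same coefficients on `H`. -/
def Lifts (R : Subgroup H) (k : Set (IrrCharacter (Subgroup.centralizer (R : Set H))))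
    (k' : Set (IrrCharacter (Subgroup.centralizer ((R.map H.subtype : Subgroup G) : Set G)))) :
    Prop :=
  ∀ x : H, subgroupBlockCoeff (Subgroup.centralizer (R : Set H)) k x
    = subgroupBlockCoeff (Subgroup.centralizer ((R.map H.subtype : Subgroup G) : Set G)) k' (x : G)

theorem exists_lift (hR : Subgroup.centralizer ((R.map H.subtype : Subgroup G) : Set G) ≤ H)
    {k : Set (IrrCharacter (Subgroup.centralizer (R : Set H)))} (hk : IsPBlock M k) :
    ∃ k', IsPBlock M k' ∧ Lifts R k k' :=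
  exists_block_unnested hR (coe_mem_centralizer_iff rfl) hk

theorem exists_unlift (hR : Subgroup.centralizer ((R.map H.subtype : Subgroup G) : Set G) ≤ H)
    {k' : Set (IrrCharacter (Subgroup.centralizer ((R.map H.subtype : Subgroup G) : Set G)))}
    (hk : IsPBlock M k') : ∃ k, IsPBlock M k ∧ Lifts R k k' :=
  exists_block_nested hR (coe_mem_centralizer_iff rfl) hk

theorem Lifts.unique (hR : Subgroup.centralizer ((R.map H.subtype : Subgroup G) : Set G) ≤ H)
    {k : Set (IrrCharacter (Subgroup.centralizer (R : Set H)))}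
    {k₁ k₂ : Set (IrrCharacter (Subgroup.centralizer ((R.map H.subtype : Subgroup G) : Set G)))}
    (h₁ : Lifts R k k₁) (h₂ : Lifts R k k₂) : k₁ = k₂ := by
  refine bc_injective _ (funext fun x => ?_)
  show subgroupBlockCoeff _ k₁ x = subgroupBlockCoeff _ k₂ x
  by_cases hx : x ∈ Subgroup.centralizer ((R.map H.subtype : Subgroup G) : Set G)
  · exact (h₁ ⟨x, hR hx⟩).symm.trans (h₂ ⟨x, hR hx⟩)
  · rw [bc_of_notMem hx, bc_of_notMem hx]

theorem brauerOmega_lift (hR : Subgroup.centralizer ((R.map H.subtype : Subgroup G) : Set G) ≤ H)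
    {β : G → ℂ} {β₁ : H → ℂ} (hβ : ∀ x : H, β₁ x = β (x : G))
    {k : Set (IrrCharacter (Subgroup.centralizer (R : Set H)))}
    {k' : Set (IrrCharacter (Subgroup.centralizer ((R.map H.subtype : Subgroup G) : Set G)))}
    (hl : Lifts R k k') :
    (∀ ξ ∈ k', ∃ ξ₁ ∈ k, brauerOmega R β₁ (ξ₁ : _ → ℂ)
        = brauerOmega (R.map H.subtype) β (ξ : _ → ℂ)) ∧
    (∀ ξ₁ ∈ k, ∃ ξ ∈ k', brauerOmega R β₁ (ξ₁ : _ → ℂ)
        = brauerOmega (R.map H.subtype) β (ξ : _ → ℂ)) := by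
  set φ := nestIso hR (coe_mem_centralizer_iff (R := R) rfl)
  have himg : irrEquiv φ '' k' = k := bc_injective _ (funext fun x =>
    (bc_image_nestIso hR (coe_mem_centralizer_iff rfl) k' x).trans (hl x).symm)
  have key : ∀ ξ : IrrCharacter (Subgroup.centralizer ((R.map H.subtype : Subgroup G) : Set G)),
      brauerOmega R β₁ (irrEquiv φ ξ : _ → ℂ) = brauerOmega (R.map H.subtype) β (ξ : _ → ℂ) := by
    intro ξ
    rw [brauerOmega_eq_omega, brauerOmega_eq_omega, omega, omega, irrEquiv_apply, map_one]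
    congr 1
    refine Fintype.sum_equiv φ.toEquiv _ _ fun c => ?_
    rw [irrEquiv_apply, hβ]
    rfl
  refine ⟨fun ξ hξ => ⟨_, himg ▸ Set.mem_image_of_mem _ hξ, key ξ⟩, fun ξ₁ hξ₁ => ?_⟩
  rw [← himg] at hξ₁
  obtain ⟨ξ, hξ, rfl⟩ := hξ₁
  exact ⟨ξ, hξ, key ξ⟩

theorem isPGroup_map_subtype {R : Subgroup H} (h : IsPGroup p R) :
    IsPGroup p (R.map H.subtype) := IsPGroup.map h _

theorem isNormalSubpair_lift
    {k₁ : Set (IrrCharacter (Subgroup.centralizer (R₁ : Set H)))}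
    {k₂ : Set (IrrCharacter (Subgroup.centralizer (R₂ : Set H)))}
    {k₁' : Set (IrrCharacter (Subgroup.centralizer ((R₁.map H.subtype : Subgroup G) : Set G)))}
    {k₂' : Set (IrrCharacter (Subgroup.centralizer ((R₂.map H.subtype : Subgroup G) : Set G)))}
    (hR₁ : Subgroup.centralizer ((R₁.map H.subtype : Subgroup G) : Set G) ≤ H)
    (hk₁ : IsPBlock M k₁') (hk₂ : IsPBlock M k₂') (hl₁ : Lifts R₁ k₁ k₁') (hl₂ : Lifts R₂ k₂ k₂')
    (h : IsNormalSubpair p M R₁ k₁ R₂ k₂) :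
    IsNormalSubpair p M (R₁.map H.subtype) k₁' (R₂.map H.subtype) k₂' := by
  obtain ⟨hp₁, hp₂, hle, hN, hfix, h1⟩ := isNormalSubpair_iff.1 h
  refine isNormalSubpair_iff.2 ⟨⟨isPGroup_map_subtype hp₁.1, hk₁⟩, ⟨isPGroup_map_subtype hp₂.1, hk₂⟩,
    Subgroup.map_mono hle, ?_, ?_, fun ξ hξ => ?_⟩
  · rintro _ ⟨u, hu, rfl⟩
    exact Subgroup.le_normalizer_map H.subtype ⟨u, hN hu, rfl⟩
  · rintro _ ⟨u, hu, rfl⟩ x
    by_cases hx : x ∈ H
    · exact ((hl₁ (u * ⟨x, hx⟩ * u⁻¹)).symm.trans (hfix u hu ⟨x, hx⟩)).trans (hl₁ ⟨x, hx⟩)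
    · rw [bc_of_notMem fun hc => hx (hR₁ hc), bc_of_notMem fun hc => hx ?_]
      have := H.mul_mem (H.mul_mem (H.inv_mem u.2) (hR₁ hc)) u.2
      simpa [mul_assoc] using this
  · obtain ⟨ξ₁, hξ₁, he⟩ := (brauerOmega_lift ((centralizer_anti (Subgroup.map_mono hle)).trans hR₁)
      (β := subgroupBlockCoeff (Subgroup.centralizer ((R₁.map H.subtype : Subgroup G) : Set G)) k₁')
      (fun x => hl₁ x) hl₂).1 ξ hξ
    rw [← he]; exact h1 ξ₁ hξ₁

theorem subpairLE_lift (hM : IsPModular p M)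
    {k₁ : Set (IrrCharacter (Subgroup.centralizer (R₁ : Set H)))}
    {k₂ : Set (IrrCharacter (Subgroup.centralizer (R₂ : Set H)))}
    {k₁' : Set (IrrCharacter (Subgroup.centralizer ((R₁.map H.subtype : Subgroup G) : Set G)))}
    {k₂' : Set (IrrCharacter (Subgroup.centralizer ((R₂.map H.subtype : Subgroup G) : Set G)))}
    (hR₁ : Subgroup.centralizer ((R₁.map H.subtype : Subgroup G) : Set G) ≤ H)
    (hk₁ : IsPBlock M k₁') (hl₁ : Lifts R₁ k₁ k₁') (hl₂ : Lifts R₂ k₂ k₂')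
    (h : SubpairLE p M R₁ k₁ R₂ k₂) :
    SubpairLE p M (R₁.map H.subtype) k₁' (R₂.map H.subtype) k₂' := by
  have key : ∀ b : BrauerPairIdx H, Relation.ReflTransGen (NormalSubpairRel p M) ⟨R₁, k₁⟩ b →
      R₁ ≤ b.1 ∧ ∃ k', IsPBlock M k' ∧ Lifts b.1 b.2 k' ∧
        SubpairLE p M (R₁.map H.subtype) k₁' (b.1.map H.subtype) k' := by
    intro b hb
    induction hb with
    | refl => exact ⟨le_rfl, k₁', hk₁, hl₁, Relation.ReflTransGen.refl⟩
    | @tail c d _ hcd ih =>
      obtain ⟨hle, k', hk', hl', hch⟩ := ih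
      have hRc := (centralizer_anti (Subgroup.map_mono (f := H.subtype) hle)).trans hR₁
      have hRd := (centralizer_anti (Subgroup.map_mono (f := H.subtype) hcd.2.2.1)).trans hRc
      obtain ⟨k'', hk'', hl''⟩ := exists_lift hRd hcd.2.1.2
      exact ⟨hle.trans hcd.2.2.1, k'', hk'', hl'',
        subpairLE_trans hch (Relation.ReflTransGen.single
          (isNormalSubpair_lift hRc hk' hk'' hl' hl'' hcd))⟩
  obtain ⟨hle, k', -, hl', hch⟩ := key _ h
  rwa [hl'.unique ((centralizer_anti (Subgroup.map_mono hle)).trans hR₁) hl₂] at hch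

theorem lifts_conjBlock (u : H) {k : Set (IrrCharacter (Subgroup.centralizer (R : Set H)))}
    {k' : Set (IrrCharacter (Subgroup.centralizer ((R.map H.subtype : Subgroup G) : Set G)))}
    (hl : Lifts R k k') (hk' : IsPBlock M k') :
    ∃ k'' : Set (IrrCharacter
        (Subgroup.centralizer (((R.map (MulAut.conj u).toMonoidHom).map H.subtype : Subgroup G) : Set G))),
      IsPBlock M k'' ∧ Lifts (R.map (MulAut.conj u).toMonoidHom) (conjBlock R u k) k'' ∧
        (⟨_, k''⟩ : BrauerPairIdx G) = conjPair (u : G) ⟨R.map H.subtype, k'⟩ := by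
  have e : (R.map H.subtype).map (MulAut.conj (u : G)).toMonoidHom
      = (R.map (MulAut.conj u).toMonoidHom).map H.subtype := by
    rw [Subgroup.map_map, Subgroup.map_map]
    congr 1
  have hgen : ∀ (L : Subgroup G), (R.map H.subtype).map (MulAut.conj (u : G)).toMonoidHom = L →
      ∃ k'' : Set (IrrCharacter (Subgroup.centralizer (L : Set G))), IsPBlock M k'' ∧
        (⟨L, k''⟩ : BrauerPairIdx G) = conjPair (u : G) ⟨R.map H.subtype, k'⟩ := by
    rintro L rfl
    exact ⟨_, isPBlock_conjBlock _ _ hk', rfl⟩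
  obtain ⟨k'', hk'', hpair⟩ := hgen _ e
  refine ⟨k'', hk'', fun x => ?_, hpair⟩
  rw [bc_conjBlock', hl]
  have h1 := congrFun (congrArg (fun a : BrauerPairIdx G =>
    subgroupBlockCoeff (Subgroup.centralizer (a.1 : Set G)) a.2) hpair) (x : G)
  simp only [conjPair] at h1
  rw [h1, bc_conjBlock']
  rfl

/-- The pairs of the block of `H` above `Q` are the pairs of `G` above the pair. -/
theorem isBrauerPairOf_stab_iff {f : Set (IrrCharacter (Subgroup.centralizer (Q : Set G)))}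
    (h : StabHyp p M Q H f) {F : Set (IrrCharacter H)} (hF : IsPBlock M F)
    (hFc : ∀ t : H, blockCoeff F t
      = subgroupBlockCoeff (Subgroup.centralizer (Q : Set G)) f (t : G))
    {k : Set (IrrCharacter (Subgroup.centralizer (R : Set H)))}
    {k' : Set (IrrCharacter (Subgroup.centralizer ((R.map H.subtype : Subgroup G) : Set G)))}
    (hR : IsPGroup p R) (hQR : Q ≤ R.map H.subtype) (hk : IsPBlock M k) (hk' : IsPBlock M k')
    (hl : Lifts R k k') :
    IsBrauerPairOf p M F R k ↔ IsNormalSubpair p M Q f (R.map H.subtype) k' := by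
  have hC : Subgroup.centralizer ((R.map H.subtype : Subgroup G) : Set G) ≤ H :=
    (centralizer_anti hQR).trans h.cent
  obtain ⟨hto, hfrom⟩ := brauerOmega_lift hC
    (β := subgroupBlockCoeff (Subgroup.centralizer (Q : Set G)) f) (fun x => hFc x) hl
  constructor
  · intro hp
    refine isNormalSubpair_iff.2 ⟨h.pair, ⟨isPGroup_map_subtype hR, hk'⟩, hQR,
      (Subgroup.map_subtype_le R).trans h.norm, fun x hx => h.fix x (Subgroup.map_subtype_le R hx),
      fun ξ hξ => ?_⟩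
    obtain ⟨ξ₁, hξ₁, he⟩ := hto ξ hξ
    rw [← he]; exact hp.2.2 ξ₁ hξ₁
  · intro hn
    refine ⟨⟨hR, hk⟩, hF, fun ξ₁ hξ₁ => ?_⟩
    obtain ⟨ξ, hξ, he⟩ := hfrom ξ₁ hξ₁
    rw [he]; exact (isNormalSubpair_iff.1 hn).2.2.2.2.2 ξ hξ

variable [Fact p.Prime] {e : Set (IrrCharacter (Subgroup.centralizer (P : Set G)))}

/-- Conjugation inside `H` moves a normal overpair below the maximal pair, if `P ∩ H` is large. -/
theorem exists_conj_below_in (hM : IsPModular p M)
    {f : Set (IrrCharacter (Subgroup.centralizer (Q : Set G)))} (h : StabHyp p M Q H f)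
    (hPe : IsBrauerPair p M P e) (hle : SubpairLE p M Q f P e)
    (hbd : ∀ (F : Set (IrrCharacter H)) (D : Subgroup H), IsPBlock M F →
      (∀ t : H, blockCoeff F t = subgroupBlockCoeff (Subgroup.centralizer (Q : Set G)) f (t : G)) →
      IsDefectGroup p M F D → Nat.card D ≤ Nat.card ↥(P ⊓ H))
    {S : Subgroup G} {g : Set (IrrCharacter (Subgroup.centralizer (S : Set G)))}
    (hS : IsNormalSubpair p M Q f S g) (hSH : S ≤ H) :
    ∃ u ∈ H, SubpairLE p M (S.map (MulAut.conj u).toMonoidHom) (conjBlock S u g) P e := by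
  obtain ⟨F, hF, hFc⟩ := exists_stabBlock hM h
  obtain ⟨R₁, rfl⟩ : ∃ R₁ : Subgroup H, R₁.map H.subtype = S :=
    ⟨S.subgroupOf H, Subgroup.map_subgroupOf_eq_of_le hSH⟩
  have hQS : Q ≤ R₁.map H.subtype := hS.2.2.1
  obtain ⟨g₁, hg₁, hl₁⟩ := exists_unlift ((centralizer_anti hQS).trans h.cent) hS.2.1.2
  have hR₁ : IsPGroup p R₁ := hS.2.1.1.of_injective (R₁.equivMapOfInjective _ H.subtype_injective).toMonoidHom
    (R₁.equivMapOfInjective _ H.subtype_injective).injective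
  have hp₁ := (isBrauerPairOf_stab_iff h hF hFc hR₁ hQS hg₁ hS.2.1.2 hl₁).2 hS
  have hQ0 : Q ≤ P ⊓ H := le_inf (subgroup_le_of_subpairLE hle) h.le
  obtain ⟨R₀, hR₀⟩ : ∃ R₀ : Subgroup H, R₀.map H.subtype = P ⊓ H :=
    ⟨(P ⊓ H).subgroupOf H, Subgroup.map_subgroupOf_eq_of_le inf_le_right⟩
  obtain ⟨k₀', hk₀', hQk, hk₀P⟩ : ∃ k₀' : Set (IrrCharacter
      (Subgroup.centralizer ((R₀.map H.subtype : Subgroup G) : Set G))), IsPBlock M k₀' ∧
      IsNormalSubpair p M Q f (R₀.map H.subtype) k₀' ∧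
      SubpairLE p M (R₀.map H.subtype) k₀' P e := by
    have hRP : R₀.map H.subtype ≤ P := hR₀.trans_le inf_le_left
    have hQR : Q ≤ R₀.map H.subtype := hQ0.trans hR₀.ge
    obtain ⟨k, hk, -⟩ := existsUnique_below hM hPe hRP
    have hkp := isBrauerPair_of_subpairLE hk hPe
    exact ⟨k, hkp.2, normal_of_subpairLE hM hkp (subpairLE_mid hM hPe hle hk hQR)
      ((Subgroup.map_subtype_le R₀).trans h.norm), hk⟩
  have hQR₀ : Q ≤ R₀.map H.subtype := hQk.2.2.1
  obtain ⟨k₀, hk₀, hl₀⟩ := exists_unlift ((centralizer_anti hQR₀).trans h.cent) hk₀'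
  have hR₀p : IsPGroup p R₀ := hQk.2.1.1.of_injective
    (R₀.equivMapOfInjective _ H.subtype_injective).toMonoidHom
    (R₀.equivMapOfInjective _ H.subtype_injective).injective
  have hp₀ := (isBrauerPairOf_stab_iff h hF hFc hR₀p hQR₀ hk₀ hk₀' hl₀).2 hQk
  obtain ⟨D, hD, hR₀D⟩ := exists_defect_ge_of_pair hM hp₀
  have hcard : Nat.card (P ⊓ H : Subgroup G) = Nat.card R₀ := by
    rw [← hR₀, Subgroup.card_map_of_injective H.subtype_injective]
  have hDR : R₀ = D := Subgroup.eq_of_le_of_card_ge hR₀D ((hbd F D hF hFc hD).trans hcard.le)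
  subst hDR
  obtain ⟨u, hu⟩ := exists_conj_subpairLE hM (isMaximal_of_defectGroup hM hD hp₀) hp₁
  obtain ⟨k'', hk'', hl'', hpair⟩ := lifts_conjBlock u hl₁ hS.2.1.2
  have hC : Subgroup.centralizer
      (((R₁.map (MulAut.conj u).toMonoidHom).map H.subtype : Subgroup G) : Set G) ≤ H := by
    refine (centralizer_anti (Q := Q) ?_).trans h.cent
    intro q hq
    obtain ⟨r, hr, hre⟩ := hQS ((Subgroup.mem_normalizer_iff.1 (h.norm (H.inv_mem u.2)) q).1 hq)
    refine ⟨u * r * u⁻¹, ⟨r, hr, rfl⟩, ?_⟩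
    have hre' : (r : G) = (u : G)⁻¹ * q * ((u : G)⁻¹)⁻¹ := hre
    simp [hre', mul_assoc]
  have hle' := subpairLE_trans (subpairLE_lift hM hC hk'' hl'' hl₀ hu) hk₀P
  refine ⟨u, u.2, ?_⟩
  change Relation.ReflTransGen (NormalSubpairRel p M) ⟨_, k''⟩ ⟨P, e⟩ at hle'
  rw [hpair] at hle'
  exact hle'

end CfsgLib.BrauerPairs
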