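import Cfsg.Agent.Lib.BrauerPairs.NestedPairs
import Cfsg.Agent.Lib.FusionSystem.Saturated

/-!
# Automizers of pairs: a defect group of the stabilizer block is a Sylow subgroup modulo the centralizer
-/

set_option autoImplicit false

namespace CfsgLib.BrauerPairs

open Cfsg CfsgLib.Blocks
open scoped Classical ComplexConjugate

variable {G : Type*} [Group G] [Fintype G] {p : ℕ} {M : Ideal AlgInt}

omit [Fintype G] in
theorem card_autInducedBy {K Q : Subgroup G} (hK : K ≤ Subgroup.normalizer (Q : Set G)) :
    Nat.card (autInducedBy K Q) * Nat.card (K ⊓ Subgroup.centralizer (Q : Set G) : Subgroup G)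
      = Nat.card K := by
  set φ : K →* MulAut Q := Q.normalizerMonoidHom.comp (Subgroup.inclusion hK)
  have hr : φ.range = autInducedBy K Q := by
    ext α
    rw [CfsgLib.Fsys.mem_autInducedBy]
    constructor
    · rintro ⟨k, rfl⟩
      exact ⟨k, k.2, fun x => rfl⟩
    · rintro ⟨g, hg, h⟩
      exact ⟨⟨g, hg⟩, MulEquiv.ext fun x => Subtype.ext (h x).symm⟩
  have hk : φ.ker = (Subgroup.centralizer (Q : Set G)).subgroupOf K := by
    rw [show φ.ker = Q.normalizerMonoidHom.ker.comap (Subgroup.inclusion hK) from
      (MonoidHom.comap_ker _ _).symm, Subgroup.normalizerMonoidHom_ker]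
    rfl
  have h1 := Subgroup.card_mul_index φ.ker
  rw [Subgroup.index_ker, hr, hk] at h1
  have h2 : Nat.card ((Subgroup.centralizer (Q : Set G)).subgroupOf K)
      = Nat.card (K ⊓ Subgroup.centralizer (Q : Set G) : Subgroup G) := by
    rw [← Subgroup.inf_subgroupOf_right]
    rw [inf_comm]
    exact Nat.card_congr (Subgroup.subgroupOfEquivOfLe inf_le_left).toEquiv
  rw [h2] at h1
  rw [mul_comm]
  exact h1

omit [Fintype G] in
theorem autInducedBy_mono {K K' Q : Subgroup G} (h : K ≤ K') :
    autInducedBy K Q ≤ autInducedBy K' Q := fun α hα => by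
  rw [CfsgLib.Fsys.mem_autInducedBy] at hα ⊢
  obtain ⟨g, hg, hα⟩ := hα
  exact ⟨g, h hg, hα⟩

/-- A unit class sum over a normal subgroup forces equal `p`-parts of class lengths. -/
theorem centExp_eq_of_unit_classSum (hM : IsPModular p M) {L : Subgroup G} (hL : L.Normal)
    {e : Set (IrrCharacter L)} (he : IsPBlock M e)
    (hfix : ∀ t : G, Fixes t (subgroupBlockCoeff L e)) {ξ : IrrCharacter L} (hξ : ξ ∈ e) (g : L)
    (hu : ¬ MemLocalIdeal M (omega (ξ : L → ℂ) fun x : L => classInd (g : G) (x : G))) :
    centExp p (g : G) + (Nat.card L).factorization p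
      = centExp p g + (Nat.card G).factorization p := by
  set S := Finset.univ.filter fun C : ConjClasses L => IsConj (g : G) (C.out : G)
  have hcl : IsClassFunction L fun x : L => classInd (g : G) (x : G) :=
    resFun_isClassFunction L (classInd_isClassFunction _)
  have hsum : ∀ φ : IrrCharacter L, omega (φ : L → ℂ) (fun x : L => classInd (g : G) (x : G))
      = ∑ C ∈ S, centralChar (φ : L → ℂ) C.out := fun φ => by
    have h := omega_eq_sum_centralChar φ hcl
    refine h.trans ?_
    rw [Finset.sum_filter]
    refine Finset.sum_congr (by ext; simp) fun C _ => ?_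
    simp only [classInd, ite_mul, one_mul, zero_mul]
  have hconj : ∀ C ∈ S, ∃ t : G, t * (g : G) * t⁻¹ = (C.out : G) := fun C hC =>
    isConj_iff.1 (Finset.mem_filter.1 hC).2
  have hN : ∀ t : G, t ∈ Subgroup.normalizer (L : Set G) := fun t => by
    rw [Subgroup.normalizer_eq_top]; exact Subgroup.mem_top t
  have hcong : ∀ C ∈ S, (Subgroup.centralizer ({C.out} : Set L)).index
        = (Subgroup.centralizer ({g} : Set L)).index ∧
      MemLocalIdeal M (centralChar (ξ : L → ℂ) C.out - centralChar (ξ : L → ℂ) g) := by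
    intro C hC
    obtain ⟨t, ht⟩ := hconj C hC
    have hC' : C.out = conjIso t (mem_iff_of_normalizer (hN t)) g := Subtype.ext ht.symm
    refine ⟨by rw [hC', index_centralizer_map], ?_⟩
    rw [hC', ← centralChar_irrEquiv]
    have himg : irrEquiv (conjIso t (mem_iff_of_normalizer (hN t))) '' e = e :=
      bc_injective L (funext fun x => by
        show subgroupBlockCoeff L _ x = subgroupBlockCoeff L e x
        rw [bc_image_conjIso, hfix t x])
    exact IsPBlock.sameBlock hM he (himg ▸ Set.mem_image_of_mem _ hξ) hξ g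
  have hn : ¬ p ∣ S.card := by
    intro hd
    refine hu ?_
    rw [hsum]
    have h1 : MemLocalIdeal M (∑ C ∈ S, (centralChar (ξ : L → ℂ) C.out
        - centralChar (ξ : L → ℂ) g)) := LI.sum hM fun C hC => (hcong C hC).2
    rw [Finset.sum_sub_distrib, Finset.sum_const, nsmul_eq_mul] at h1
    have := LI.add hM h1
      (LI.mul_right hM ((LI.natCast_iff hM _).2 hd) (centralChar_LR hM ξ g))
    rwa [sub_add_cancel] at this
  have hcount : (Subgroup.centralizer ({(g : G)} : Set G)).index
      = S.card * (Subgroup.centralizer ({g} : Set L)).index := by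
    apply Nat.cast_injective (R := ℂ)
    have h1 := hsum (trivChar L)
    have h2 : omega ((trivChar L : IrrCharacter L) : L → ℂ) (fun x : L => classInd (g : G) (x : G))
        = ((Subgroup.centralizer ({(g : G)} : Set G)).index : ℂ) := by
      rw [omega, ← CfsgLib.Char.card_isConj_eq_index, Nat.card_eq_fintype_card,
        Fintype.card_subtype]
      simp only [trivChar, mul_one, div_one, classInd, Finset.sum_boole]
      congr 1
      refine Finset.card_bij (fun x _ => (x : G)) (fun x hx => ?_)
        (fun _ _ _ _ h => Subtype.ext h) fun x hx => ?_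
      · simpa [IsConj.symm] using (Finset.mem_filter.1 hx).2.symm
      · have hx' := (Finset.mem_filter.1 hx).2
        obtain ⟨t, ht⟩ := isConj_iff.1 hx'.symm
        exact ⟨⟨x, ht ▸ hL.conj_mem _ g.2 t⟩, Finset.mem_filter.2 ⟨Finset.mem_univ _, hx'.symm⟩, rfl⟩
    rw [h2] at h1
    rw [h1, Nat.cast_mul]
    refine (Finset.sum_congr rfl fun C hC => ?_).trans
      ((Finset.sum_const _).trans (nsmul_eq_mul _ _))
    simp only [Cfsg.centralChar, trivChar, mul_one, div_one, (hcong C hC).1]
  have hS0 : S.card ≠ 0 := fun h => hn (h ▸ dvd_zero p)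
  have h3 := index_factorization_add (p := p) (g : G)
  have h4 := index_factorization_add (p := p) g
  rw [hcount, Nat.factorization_mul hS0 Subgroup.index_ne_zero_of_finite, Finsupp.add_apply,
    Nat.factorization_eq_zero_of_not_dvd hn, zero_add] at h3
  omega

variable {Q T : Subgroup G} {f : Set (IrrCharacter (Subgroup.centralizer (Q : Set G)))}
  {F : Set (IrrCharacter T)}

/-- A defect group of the stabilizer block covers a Sylow subgroup modulo the centralizer. -/
theorem stab_defect_bound (hM : IsPModular p M) (h : StabHyp p M Q T f) (hF : IsPBlock M F)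
    (hFc : ∀ t : T, blockCoeff F t
      = subgroupBlockCoeff (Subgroup.centralizer (Q : Set G)) f (t : G))
    {D : Subgroup T} (hD : IsDefectGroup p M F D) :
    (Nat.card T).factorization p
        + (Nat.card (D.map T.subtype ⊓ Subgroup.centralizer (Q : Set G) : Subgroup G)).factorization p
      ≤ (Nat.card D).factorization p
        + (Nat.card (Subgroup.centralizer (Q : Set G))).factorization p := by
  obtain ⟨g, hg, S, hS⟩ := hD
  have hD' : IsDefectGroup p M F D := ⟨g, hg, S, hS⟩
  obtain ⟨R, hR⟩ : ∃ R : Subgroup T, R.map T.subtype = Q :=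
    ⟨Q.subgroupOf T, Subgroup.map_subgroupOf_eq_of_le h.le⟩
  subst hR
  set L := Subgroup.centralizer (R : Set T) with hL
  have hRn : R.Normal := by
    have hn := normalizer_subgroupOf_normal h.norm
    rwa [Subgroup.subgroupOf, Subgroup.comap_map_eq_self_of_injective T.subtype_injective] at hn
  have hLn : L.Normal := Subgroup.normalizer_eq_top_iff.1 (top_le_iff.1
    ((Subgroup.normalizer_eq_top (H := R)).ge.trans (normalizer_le_normalizer_centralizer R)))
  have hgQ : (g : G) ∈ Subgroup.centralizer ((R.map T.subtype : Subgroup G) : Set G) := by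
    by_contra hn
    refine hg.2.1 ?_
    rw [hFc, bc_of_notMem hn]; exact LI.zero hM
  have hgL : g ∈ L := (coe_mem_centralizer_iff rfl g).1 hgQ
  obtain ⟨f₁, hf₁, hl⟩ := exists_unlift h.cent h.pair.2
  have hRp : IsPGroup p R := h.pair.1.of_injective
    (R.equivMapOfInjective _ T.subtype_injective).toMonoidHom
    (R.equivMapOfInjective _ T.subtype_injective).injective
  have hrefl : IsNormalSubpair p M (R.map T.subtype) f (R.map T.subtype) f :=
    isNormalSubpair_iff.2 ⟨h.pair, h.pair, le_rfl, Subgroup.le_normalizer,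
      (goodAt_bc_self hM h.pair.2).fixP, fun ξ hξ => by
        rw [brauerOmega_bc_self, blockInd_of_mem hξ, sub_self]; exact LI.zero hM⟩
  have hpair := (isBrauerPairOf_stab_iff h hF hFc hRp le_rfl hf₁ h.pair.2 hl).2 hrefl
  obtain ⟨ξ, hξ⟩ := IsPBlock.nonempty hM hf₁
  obtain ⟨χ, hχ⟩ := IsPBlock.nonempty hM hF
  have hu : ¬ MemLocalIdeal M (omega (ξ : L → ℂ) fun x : L => classInd g (x : T)) := by
    intro hI
    have h1 := IsInducedBlock.omega_congr hM
      ((isBrauerPairOf_iff_induced hM hRp hf₁).1 hpair) hξ hχ (classInd_isClassFunction g)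
      (classInd_LR hM g)
    have h2 := LI.sub hM hI h1
    rw [sub_sub_cancel, omega_classInd] at h2
    exact hg.2.2 χ hχ h2
  have hkey := centExp_eq_of_unit_classSum hM hLn hf₁
    (fun t x => by rw [hl, hl]; exact h.fix (t : G) t.2 x) hξ ⟨g, hgL⟩ hu
  have hLcard : Nat.card L
      = Nat.card (Subgroup.centralizer ((R.map T.subtype : Subgroup G) : Set G)) :=
    Nat.card_congr (nestIso h.cent (coe_mem_centralizer_iff (R := R) rfl)).toEquiv
  have hcent : (Nat.card D).factorization p = centExp p g := by
    rw [card_defectGroup hM hF hD', Nat.Prime.factorization_pow hM.1, Finsupp.single_eq_same,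
      centExp_eq_of_isDefectClass hM hF hg]
  have hDg : ∀ d ∈ D, d * g = g * d := by
    rw [hS]
    rintro _ ⟨d, -, rfl⟩
    exact Subgroup.mem_centralizer_singleton_iff.1 d.2
  have hinf : (Nat.card (D.map T.subtype ⊓
      Subgroup.centralizer ((R.map T.subtype : Subgroup G) : Set G) : Subgroup G)).factorization p
      ≤ centExp p (⟨g, hgL⟩ : L) := by
    have e : D.map T.subtype ⊓ Subgroup.centralizer ((R.map T.subtype : Subgroup G) : Set G)
        = (D.comap L.subtype).map (T.subtype.comp L.subtype) := by
      ext x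
      constructor
      · rintro ⟨⟨d, hd, rfl⟩, hc⟩
        exact ⟨⟨d, (coe_mem_centralizer_iff rfl d).1 hc⟩, hd, rfl⟩
      · rintro ⟨d, hd, rfl⟩
        exact ⟨⟨(d : T), hd, rfl⟩, (coe_mem_centralizer_iff rfl (d : T)).2 d.2⟩
    rw [e, Subgroup.card_map_of_injective
      (f := T.subtype.comp L.subtype) (fun a b hab => Subtype.ext (Subtype.ext hab))]
    refine (Nat.factorization_le_iff_dvd Nat.card_pos.ne' Nat.card_pos.ne').2
      (Subgroup.card_dvd_of_le fun d hd => ?_) p
    exact Subgroup.mem_centralizer_singleton_iff.2 (Subtype.ext (hDg (d : T) hd))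
  have hTC : centExp p ((⟨g, hgL⟩ : L) : T) = centExp p g := rfl
  rw [hTC, hLcard] at hkey
  omega

theorem autInducedBy_factorization_le (hM : IsPModular p M) (h : StabHyp p M Q T f)
    (hF : IsPBlock M F)
    (hFc : ∀ t : T, blockCoeff F t
      = subgroupBlockCoeff (Subgroup.centralizer (Q : Set G)) f (t : G))
    {D : Subgroup T} (hD : IsDefectGroup p M F D) :
    (Nat.card (autInducedBy T Q)).factorization p
      ≤ (Nat.card (autInducedBy (D.map T.subtype) Q)).factorization p := by
  have h1 := card_autInducedBy h.norm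
  have h2 := card_autInducedBy (K := D.map T.subtype) ((Subgroup.map_subtype_le D).trans h.norm)
  rw [inf_eq_right.2 h.cent] at h1
  rw [Subgroup.card_map_of_injective T.subtype_injective] at h2
  have h3 := stab_defect_bound hM h hF hFc hD
  have e1 := congrArg (fun n => n.factorization p) h1
  have e2 := congrArg (fun n => n.factorization p) h2
  simp only [Nat.factorization_mul Nat.card_pos.ne' Nat.card_pos.ne', Finsupp.add_apply] at e1 e2
  omega

/-- Size of defect groups of the block over a subgroup acting like `R₀`. -/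
theorem card_defect_le_of_aut (hM : IsPModular p M) (h : StabHyp p M Q T f) (hF : IsPBlock M F)
    (hFc : ∀ t : T, blockCoeff F t
      = subgroupBlockCoeff (Subgroup.centralizer (Q : Set G)) f (t : G))
    {D : Subgroup T} (hD : IsDefectGroup p M F D) {R₀ : Subgroup G}
    (hact : autInducedBy T Q ≤ autInducedBy R₀ Q) :
    Nat.card D ≤ Nat.card (autInducedBy R₀ Q) * p ^ blockDefect p f := by
  have h2 := card_autInducedBy (K := D.map T.subtype) ((Subgroup.map_subtype_le D).trans h.norm)
  rw [Subgroup.card_map_of_injective T.subtype_injective] at h2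
  rw [← h2]
  refine Nat.mul_le_mul (Subgroup.card_le_of_le
    ((autInducedBy_mono (Subgroup.map_subtype_le D)).trans hact)) ?_
  obtain ⟨-, c, hc, hne⟩ := stab_defect_data hM h hF hFc hD
  have hcQ : c ∈ Subgroup.centralizer (Q : Set G) := by
    by_contra hn
    exact hne (by rw [bc_of_notMem hn]; exact LI.zero hM)
  rw [← Nat.card_congr (Subgroup.subgroupOfEquivOfLe (inf_le_right :
    D.map T.subtype ⊓ Subgroup.centralizer (Q : Set G) ≤ Subgroup.centralizer (Q : Set G))).toEquiv]
  obtain ⟨E, hE, hle⟩ := exists_isDefectGroup_ge hM h.pair.2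
    (IsPGroup.comap_subtype (K := Subgroup.centralizer (Q : Set G))
      ((IsPGroup.map (isPGroup_defectGroup hD) T.subtype).to_le inf_le_left))
    (c := ⟨c, hcQ⟩) ((mem_centralizer_subgroupOf_iff inf_le_right _).2
      (centralizer_anti (inf_le_left : D.map T.subtype ⊓ _ ≤ D.map T.subtype) hc))
    (by rw [← bc_coe]; exact hne)
  rw [← card_defectGroup hM h.pair.2 hE]
  exact Subgroup.card_le_of_le hle

end CfsgLib.BrauerPairs
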