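import Cfsg.Agent.Lib.BrauerPairs.Maximal
import Cfsg.Agent.Lib.BrauerPairs.Nested

/-!
# The first main theorem over subgroups containing the normalizer
-/

set_option autoImplicit false

namespace CfsgLib.BrauerPairs

open Cfsg CfsgLib.Blocks
open scoped Classical ComplexConjugate

variable {G : Type*} [Group G] [Fintype G] {p : ℕ} [Fact p.Prime] {M : Ideal AlgInt}
  {B : Set (IrrCharacter G)} {P : Subgroup G}
  {e : Set (IrrCharacter (Subgroup.centralizer (P : Set G)))}

/-- The Brauer image of a block at a locally maximal pair is the sum of the conjugates of the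
pair. -/
theorem blockCoeff_congr_orbitSum (hM : IsPModular p M) (he : IsBrauerPairOf p M B P e)
    (hmax : LocMax p M P e) {x : G} (hx : x ∈ Subgroup.centralizer (P : Set G)) :
    MemLocalIdeal M (blockCoeff B x - orbitSum P e x) := by
  have hgood := goodAt_blockCoeff hM he.2.1 P
  have h := congr_blockCoeff_of_idem hM hgood.res_isClassFunction (fun y => hgood.lr _)
    (fun y => LI.trans hM (LI.sub_comm (gconv_congr_res hM he.1.1 hgood hgood y))
      (idemAt_blockCoeff hM B P _ y.2)) (⟨x, hx⟩ : Subgroup.centralizer (P : Set G))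
  set S := {ψ : IrrCharacter (Subgroup.centralizer (P : Set G)) |
    ¬ MemLocalIdeal M (omega (ψ : Subgroup.centralizer (P : Set G) → ℂ)
      fun y : Subgroup.centralizer (P : Set G) => blockCoeff B y)}
  have hcl := (orbitSum_goodAt hM he.1.2).res_isClassFunction
  have key : (fun ψ : IrrCharacter (Subgroup.centralizer (P : Set G)) =>
      omega (ψ : Subgroup.centralizer (P : Set G) → ℂ)
        fun y : Subgroup.centralizer (P : Set G) => orbitSum P e y) = blockInd S := by
    funext ψ
    rw [← brauerOmega_eq_omega]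
    unfold orbitSum
    rw [brauerOmega_sum]
    by_cases hψ : ψ ∈ S
    · rw [blockInd_of_mem hψ]
      have hψ' : ¬ MemLocalIdeal M (brauerOmega P (blockCoeff B) (ψ : _ → ℂ)) := by
        rw [brauerOmega_eq_omega]; exact hψ
      have hg : IsBrauerPairOf p M B P
          (blockOf M (ψ : Subgroup.centralizer (P : Set G) → ℂ)) :=
        ⟨⟨he.1.1, isPBlock_blockOf ψ⟩, he.2.1, fun η hη => LI.trans hM
          (brauerOmega_sameBlock η hM hgood (SameBlock_symm hη))
          ((brauerOmega_idem ψ hM he.1.1 hgood (idemAt_blockCoeff hM B P)).resolve_left hψ')⟩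
      obtain ⟨u, hu, hue⟩ := exists_conj_of_locMax hM he hmax hg
      have hb : ∀ c, subgroupBlockCoeff (Subgroup.centralizer (P : Set G))
          (blockOf M (ψ : Subgroup.centralizer (P : Set G) → ℂ)) c
          = subgroupBlockCoeff (Subgroup.centralizer (P : Set G)) e (u * c * u⁻¹) := fun c => by
        have h1 := congrFun (congrArg (fun a : BrauerPairIdx G =>
          subgroupBlockCoeff (Subgroup.centralizer (a.1 : Set G)) a.2) hue) (u * c * u⁻¹)
        simp only [conjPair] at h1
        rw [bc_conjBlock] at h1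
        exact h1
      let β₀ : OrbitFun P e := ⟨_, u, hu, funext hb⟩
      rw [Finset.sum_eq_single β₀]
      · rw [show β₀.1 = subgroupBlockCoeff (Subgroup.centralizer (P : Set G))
          (blockOf M (ψ : Subgroup.centralizer (P : Set G) → ℂ)) from rfl, brauerOmega_bc_self,
          blockInd_of_mem (SameBlock_refl hM _)]
      · intro β _ hne
        obtain ⟨g, hgb, hgβ⟩ := orbitFun_block he.1.2 β
        rw [← hgβ, brauerOmega_bc_self, blockInd_of_notMem]
        intro hψg
        exact hne (Subtype.ext (hgβ.symm.trans (by rw [IsPBlock.eq_blockOf hM hgb hψg])))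
      · simp
    · rw [blockInd_of_notMem hψ]
      refine Finset.sum_eq_zero fun β _ => ?_
      obtain ⟨g, hgb, hgβ⟩ := orbitFun_block he.1.2 β
      obtain ⟨u, hu, hβu⟩ := β.2
      rw [← hgβ, brauerOmega_bc_self, blockInd_of_notMem]
      intro hψg
      have heq : conjPair u⁻¹ ⟨P, e⟩ = ⟨P, g⟩ := by
        refine pair_ext (map_conj_of_mem_normalizer (Subgroup.inv_mem _ hu)) fun c => ?_
        show subgroupBlockCoeff _ (conjBlock P u⁻¹ e) c = subgroupBlockCoeff _ g c
        rw [bc_conjBlock', hgβ, hβu, inv_inv]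
      have h1 : IsBrauerPairOf p M B (conjPair u⁻¹ ⟨P, e⟩).1 (conjPair u⁻¹ ⟨P, e⟩).2 :=
        isBrauerPairOf_conj u⁻¹ he
      rw [heq] at h1
      refine hψ fun hI => LI.not_one hM ?_
      have h2 := LI.sub hM hI (by
        have h3 := h1.2.2 ψ hψg
        rw [brauerOmega_eq_omega] at h3
        exact h3)
      rwa [sub_sub_cancel] at h2
  have h2 : (fun y : Subgroup.centralizer (P : Set G) => orbitSum P e y) = blockCoeff S := by
    funext y
    rw [blockCoeff_eq_fourierInv, ← key, fourierInv_omega hcl]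
  rw [← congrFun h2 ⟨x, hx⟩] at h
  exact h

variable {H : Subgroup G}
  {e' : Set (IrrCharacter (Subgroup.centralizer (P.subgroupOf H : Set H)))}

omit [Fintype G] in
theorem mem_normalizer_subgroupOf_iff (hPH : P ≤ H) (u : H) :
    u ∈ Subgroup.normalizer (P.subgroupOf H : Set H)
      ↔ (u : G) ∈ Subgroup.normalizer (P : Set G) := by
  simp only [Subgroup.mem_normalizer_iff, Subgroup.mem_subgroupOf, Subgroup.coe_mul,
    InvMemClass.coe_inv]
  refine ⟨fun h x => ⟨fun hx => (h ⟨x, hPH hx⟩).1 hx, fun hx => ?_⟩, fun h x => h x⟩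
  have hxH : x ∈ H := by
    simpa [mul_assoc] using H.mul_mem (H.mul_mem (H.inv_mem u.2) (hPH hx)) u.2
  exact (h ⟨x, hxH⟩).2 hx

theorem locMax_subgroupOf_iff (hH : Subgroup.normalizer (P : Set G) ≤ H)
    (he' : ∀ x : H, subgroupBlockCoeff (Subgroup.centralizer (P.subgroupOf H : Set H)) e' x
      = subgroupBlockCoeff (Subgroup.centralizer (P : Set G)) e (x : G)) :
    LocMax p M (P.subgroupOf H) e' ↔ LocMax p M P e := by
  have hPH : P ≤ H := Subgroup.le_normalizer.trans hH
  have hCH : Subgroup.centralizer (P : Set G) ≤ H :=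
    (Subgroup.centralizer_le_normalizer (P : Set G)).trans hH
  constructor
  · rintro hmax R hR hPR hRN hfix ⟨c, hc, hne⟩
    have hRH : R ≤ H := hRN.trans hH
    have h1 := hmax (R.subgroupOf H)
      (hR.of_equiv (Subgroup.subgroupOfEquivOfLe hRH).symm) (Subgroup.comap_mono hPR)
      (fun r hr => (mem_normalizer_subgroupOf_iff hPH r).2 (hRN hr))
      (fun r hr x => by rw [he', he']; exact hfix _ hr x)
      ⟨⟨c, hCH (centralizer_anti hPR hc)⟩, (mem_centralizer_subgroupOf_iff hRH _).2 hc,
        fun hI => hne (by rwa [he'] at hI)⟩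
    rw [← Subgroup.map_subgroupOf_eq_of_le hRH, h1, Subgroup.map_subgroupOf_eq_of_le hPH]
  · rintro hmax R hR hPR hRN hfix ⟨c, hc, hne⟩
    have h1 := hmax (R.map H.subtype) (IsPGroup.map hR _)
      (by rw [← Subgroup.map_subgroupOf_eq_of_le hPH]; exact Subgroup.map_mono hPR)
      (by
        rintro _ ⟨r, hr, rfl⟩
        exact (mem_normalizer_subgroupOf_iff hPH r).1 (hRN hr))
      (by
        rintro _ ⟨r, hr, rfl⟩ x
        by_cases hx : x ∈ H
        · have := hfix r hr ⟨x, hx⟩
          rw [he', he'] at this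
          exact this
        · rw [bc_of_notMem (g := x) fun h => hx (hCH h), bc_of_notMem fun h => hx ?_]
          have := H.mul_mem (H.mul_mem (H.inv_mem r.2) (hCH h)) r.2
          simpa [mul_assoc] using this)
      ⟨c, (coe_mem_centralizer_iff rfl c).2 hc, fun hI => hne (by rw [he']; exact hI)⟩
    rw [← Subgroup.comap_map_eq_self_of_injective H.subtype_injective R, h1]
    rfl

theorem orbitSum_subgroupOf (hH : Subgroup.normalizer (P : Set G) ≤ H)
    (he' : ∀ x : H, subgroupBlockCoeff (Subgroup.centralizer (P.subgroupOf H : Set H)) e' x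
      = subgroupBlockCoeff (Subgroup.centralizer (P : Set G)) e (x : G)) (x : H) :
    orbitSum (P.subgroupOf H) e' x = orbitSum P e (x : G) := by
  have hPH : P ≤ H := Subgroup.le_normalizer.trans hH
  have hCH : Subgroup.centralizer (P : Set G) ≤ H :=
    (Subgroup.centralizer_le_normalizer (P : Set G)).trans hH
  let F : OrbitFun P e → OrbitFun (P.subgroupOf H) e' := fun β => ⟨fun y => β.1 y, by
    obtain ⟨u, hu, hβ⟩ := β.2
    refine ⟨⟨u, hH hu⟩, (mem_normalizer_subgroupOf_iff hPH _).2 hu, funext fun y => ?_⟩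
    rw [hβ, he']
    rfl⟩
  have hF : Function.Bijective F := by
    refine ⟨fun β γ h => Subtype.ext (funext fun y => ?_), fun β => ?_⟩
    · by_cases hy : y ∈ H
      · exact congrFun (congrArg Subtype.val h) ⟨y, hy⟩
      · obtain ⟨u, hu, hβ⟩ := β.2
        obtain ⟨v, hv, hγ⟩ := γ.2
        have h0 : ∀ w ∈ H,
            subgroupBlockCoeff (Subgroup.centralizer (P : Set G)) e (w * y * w⁻¹) = 0 :=
          fun w hw => bc_of_notMem (fun hc => hy (by
            simpa [mul_assoc] using H.mul_mem (H.mul_mem (H.inv_mem hw) (hCH hc)) hw)) _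
        rw [hβ, hγ]
        exact (h0 u (hH hu)).trans (h0 v (hH hv)).symm
    · obtain ⟨u, hu, hβ⟩ := β.2
      refine ⟨⟨_, (u : G), (mem_normalizer_subgroupOf_iff hPH u).1 hu, rfl⟩,
        Subtype.ext (funext fun y => ?_)⟩
      rw [hβ]
      exact ((he' (u * y * u⁻¹)).trans rfl).symm
  exact (Fintype.sum_bijective F hF _ _ fun β => rfl).symm

/-- A pair with matching blocks on both sides gives corresponding blocks with defect group. -/
theorem corresponding_of_locMax (hM : IsPModular p M) {H : Subgroup G}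
    (hH : Subgroup.normalizer (P : Set G) ≤ H) {c : Set (IrrCharacter H)}
    {e' : Set (IrrCharacter (Subgroup.centralizer (P.subgroupOf H : Set H)))}
    (he' : ∀ x : H, subgroupBlockCoeff (Subgroup.centralizer (P.subgroupOf H : Set H)) e' x
      = subgroupBlockCoeff (Subgroup.centralizer (P : Set G)) e (x : G))
    (hB : IsBrauerPairOf p M B P e) (hc : IsBrauerPairOf p M c (P.subgroupOf H) e')
    (hmax : LocMax p M P e) :
    IsDefectGroup p M B P ∧ IsDefectGroup p M c (P.subgroupOf H) ∧
      ∀ x : G, x ∈ Subgroup.centralizer (P : Set G) →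
        MemLocalIdeal M (blockCoeff B x - subgroupBlockCoeff H c x) := by
  have hmax' := (locMax_subgroupOf_iff hH he').2 hmax
  refine ⟨isDefectGroup_of_locMax hM hB hmax, isDefectGroup_of_locMax hM hc hmax', fun x hx => ?_⟩
  have hxH : x ∈ H := hH (Subgroup.centralizer_le_normalizer (P : Set G) hx)
  have h1 := blockCoeff_congr_orbitSum hM hc hmax'
    ((mem_centralizer_subgroupOf_iff (Subgroup.le_normalizer.trans hH) ⟨x, hxH⟩).2 hx)
  rw [orbitSum_subgroupOf hH he'] at h1
  rw [bc_of_mem hxH]
  exact LI.trans hM (blockCoeff_congr_orbitSum hM hB hmax hx) (LI.sub_comm h1)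

/-- Blocks with congruent Brauer images at a defect group are equal. -/
theorem eq_of_congr_centralizer (hM : IsPModular p M) {B B' : Set (IrrCharacter G)}
    (hB : IsPBlock M B) (hB' : IsPBlock M B') (hD : IsDefectGroup p M B P)
    (h : ∀ x ∈ Subgroup.centralizer (P : Set G),
      MemLocalIdeal M (blockCoeff B x - blockCoeff B' x)) : B = B' := by
  obtain ⟨g, hg⟩ := exists_pair_of_defectGroup hM hB hD
  refine block_unique hM hg ⟨hg.1, hB', fun ξ hξ => ?_⟩
  exact LI.trans hM (LI.sub_comm (brauerOmega_congr ξ hM (goodAt_blockCoeff hM hB P)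
    (goodAt_blockCoeff hM hB' P) h)) (hg.2.2 ξ hξ)

theorem existsUnique_corresponding_down (hM : IsPModular p M) {H : Subgroup G}
    (hH : Subgroup.normalizer (P : Set G) ≤ H) (hB : IsPBlock M B)
    (hD : IsDefectGroup p M B P) :
    ∃! c : Set (IrrCharacter H), IsPBlock M c ∧ IsDefectGroup p M c (P.subgroupOf H) ∧
      ∀ x : G, x ∈ Subgroup.centralizer (P : Set G) →
        MemLocalIdeal M (blockCoeff B x - subgroupBlockCoeff H c x) := by
  have hPH : P ≤ H := Subgroup.le_normalizer.trans hH
  have hCH : Subgroup.centralizer (P : Set G) ≤ H :=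
    (Subgroup.centralizer_le_normalizer (P : Set G)).trans hH
  obtain ⟨e, he⟩ := exists_pair_of_defectGroup hM hB hD
  obtain ⟨e', he'b, he'⟩ := exists_block_nested (L := Subgroup.centralizer (P.subgroupOf H : Set H))
    hCH (fun x => (mem_centralizer_subgroupOf_iff hPH x).symm) he.1.2
  obtain ⟨c, hc⟩ := exists_block_of_pair hM (Q := P.subgroupOf H)
    (⟨he.1.1.of_equiv (Subgroup.subgroupOfEquivOfLe hPH).symm, he'b⟩ :
      IsBrauerPair p M (P.subgroupOf H) e')
  obtain ⟨-, hc1, hc2⟩ := corresponding_of_locMax hM hH he' he hc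
    (isMaximal_locMax hM (isMaximal_of_defectGroup hM hD he))
  refine ⟨c, ⟨hc.2.1, hc1, hc2⟩, fun c₂ h2 => ?_⟩
  refine eq_of_congr_centralizer hM h2.1 hc.2.1 h2.2.1 fun y hy => ?_
  have hy' := (mem_centralizer_subgroupOf_iff hPH y).1 hy
  have := LI.trans hM (LI.sub_comm (h2.2.2 y hy')) (hc2 y hy')
  rwa [bc_coe, bc_coe] at this

theorem existsUnique_corresponding_up (hM : IsPModular p M) {H : Subgroup G}
    (hP : IsPGroup p P) (hH : Subgroup.normalizer (P : Set G) ≤ H) {c : Set (IrrCharacter H)}
    (hc : IsPBlock M c) (hD : IsDefectGroup p M c (P.subgroupOf H)) :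
    ∃! B : Set (IrrCharacter G), IsPBlock M B ∧ IsDefectGroup p M B P ∧
      ∀ x : G, x ∈ Subgroup.centralizer (P : Set G) →
        MemLocalIdeal M (blockCoeff B x - subgroupBlockCoeff H c x) := by
  have hPH : P ≤ H := Subgroup.le_normalizer.trans hH
  have hCH : Subgroup.centralizer (P : Set G) ≤ H :=
    (Subgroup.centralizer_le_normalizer (P : Set G)).trans hH
  obtain ⟨e', he⟩ := exists_pair_of_defectGroup hM hc hD
  obtain ⟨e, heb, he'⟩ := exists_block_unnested (L := Subgroup.centralizer (P.subgroupOf H : Set H))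
    hCH (fun x => (mem_centralizer_subgroupOf_iff hPH x).symm) he.1.2
  obtain ⟨B, hB⟩ := exists_block_of_pair hM (Q := P) (⟨hP, heb⟩ : IsBrauerPair p M P e)
  have hmax := (locMax_subgroupOf_iff hH he').1
    (isMaximal_locMax hM (isMaximal_of_defectGroup hM hD he))
  obtain ⟨hB1, -, hB2⟩ := corresponding_of_locMax hM hH he' hB he hmax
  refine ⟨B, ⟨hB.2.1, hB1, hB2⟩, fun B₂ h2 => ?_⟩
  exact eq_of_congr_centralizer hM h2.1 hB.2.1 h2.2.1 fun y hy =>
    LI.trans hM (h2.2.2 y hy) (LI.sub_comm (hB2 y hy))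

end CfsgLib.BrauerPairs
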