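import Cfsg.Agent.Lib.BrauerPairs.Maximal
import Cfsg.Agent.Lib.Blocks.Kernel
import Cfsg.Agent.Lib.Blocks.ChainCount
import Cfsg.Agent.Lib.OddOrder.SigmaBasics

/-!
# `π'`-cores in the kernels of Brauer pairs

For a normal `p'`-subgroup `L` the averaging idempotent decides whether `L` is in the kernel of a
block, and its Brauer image at a `p`-group `P` is the averaging idempotent of `C_L(P)`.
-/

set_option autoImplicit false
set_option maxHeartbeats 800000

namespace CfsgLib.BrauerPairs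

open Cfsg CfsgLib.Blocks
open scoped Classical ComplexConjugate

variable {G : Type*} [Group G] [Fintype G] {p : ℕ} {M : Ideal AlgInt}

/-- The averaging idempotent of a subgroup. -/
noncomputable def avgIdem (N : Subgroup G) : G → ℂ :=
  fun x => if x ∈ N then (Nat.card N : ℂ)⁻¹ else 0

theorem avgIdem_isClassFunction {N : Subgroup G} (hN : N.Normal) :
    IsClassFunction G (avgIdem N) := fun x y => by
  refine if_congr ⟨fun h => ?_, fun h => hN.conj_mem x h y⟩ rfl rfl
  simpa [mul_assoc] using hN.conj_mem _ h y⁻¹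

theorem avgIdem_LR (hM : IsPModular p M) {N : Subgroup G} (hcop : ¬ p ∣ Nat.card N) (x : G) :
    MemLocalRing M (avgIdem N x) := by
  unfold avgIdem; split
  · exact LR.inv hM (LR.natCast hM _) fun hI => hcop ((LI.natCast_iff hM _).1 hI)
  · exact LR.zero hM

theorem gconv_avgIdem (N : Subgroup G) : gconv (avgIdem N) (avgIdem N) = avgIdem N := by
  funext c
  refine (Finset.sum_filter_of_ne (p := fun x => x ∈ N) fun x _ hne => ?_).symm.trans ?_
  · by_contra hx; exact hne (by simp [avgIdem, hx])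
  rw [Finset.sum_congr rfl (g := fun _ => (Nat.card N : ℂ)⁻¹ * avgIdem N c) fun x hx => ?_,
    Finset.sum_const, nsmul_eq_mul, ← mul_assoc]
  · have : (Finset.univ.filter fun x => x ∈ N).card = Nat.card N := by
      rw [Nat.card_eq_fintype_card, Fintype.card_subtype]
    rw [this, mul_inv_cancel₀ CfsgLib.Char.card_ne_zero, one_mul]
  · have hx' : x ∈ N := (Finset.mem_filter.1 hx).2
    simp only [avgIdem, if_pos hx']
    congr 1
    exact if_congr ⟨fun h => by simpa using N.mul_mem hx' h, fun h =>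
      N.mul_mem (N.inv_mem hx') h⟩ rfl rfl

/-- The averaging idempotent acts by one on the characters with `N` in the kernel, else by zero. -/
theorem omega_avgIdem {N : Subgroup G} (hN : N.Normal) (ψ : IrrCharacter G) :
    omega (ψ : G → ℂ) (avgIdem N) = if N ≤ irrKer ψ then 1 else 0 := by
  have hN0 : (Nat.card N : ℂ) ≠ 0 := CfsgLib.Char.card_ne_zero
  have hsum : omega (ψ : G → ℂ) (avgIdem N)
      = (Nat.card N : ℂ)⁻¹ * (∑ n : N, (ψ : G → ℂ) n) / (ψ : G → ℂ) 1 := by
    rw [omega, Finset.mul_sum]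
    congr 1
    refine (Finset.sum_filter_of_ne (p := fun x => x ∈ N) fun x _ hne => ?_).symm.trans ?_
    · by_contra hx; exact hne (by simp [avgIdem, hx])
    refine Finset.sum_bij (fun x hx => (⟨x, (Finset.mem_filter.1 hx).2⟩ : N))
      (fun _ _ => Finset.mem_univ _) (fun _ _ _ _ h => congrArg Subtype.val h)
      (fun n _ => ⟨(n : G), by simp, rfl⟩) fun x hx => ?_
    simp [avgIdem, (Finset.mem_filter.1 hx).2]
  by_cases hker : N ≤ irrKer ψ
  · rw [if_pos hker, hsum, Finset.sum_congr rfl fun n _ => mem_irrKer.1 (hker n.2),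
      Finset.sum_const, nsmul_eq_mul, Finset.card_univ, Fintype.card_eq_nat_card,
      inv_mul_cancel_left₀ hN0, div_self (irr_one_ne_zero ψ)]
  · rw [if_neg hker]
    have hidem : omega (ψ : G → ℂ) (avgIdem N) * omega (ψ : G → ℂ) (avgIdem N)
        = omega (ψ : G → ℂ) (avgIdem N) := by
      rw [← omega_gconv ψ (avgIdem_isClassFunction hN) (avgIdem_isClassFunction hN), gconv_avgIdem]
    rcases mul_left_eq_self₀.1 hidem with h2 | h2
    · refine absurd (fun n hn => ?_) hker
      rw [hsum, div_eq_one_iff_eq (irr_one_ne_zero ψ), inv_mul_eq_iff_eq_mul₀ hN0] at h2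
      rw [mem_irrKer, irr_one_eq]
      set d : ℝ := (charDegree (ψ : G → ℂ) : ℝ)
      have hre : ∀ m : N, ((ψ : G → ℂ) m).re ≤ d := fun m =>
        (Complex.re_le_norm _).trans (norm_irr_le ψ m)
      have hs : ∑ m : N, ((ψ : G → ℂ) m).re = ∑ _m : N, d := by
        rw [← Complex.re_sum, h2, irr_one_eq, Finset.sum_const, nsmul_eq_mul, Finset.card_univ,
          Fintype.card_eq_nat_card]
        simp [d]
      have hall := (Finset.sum_eq_sum_iff_of_le fun m _ => hre m).1 hs ⟨n, hn⟩ (Finset.mem_univ _)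
      have hnorm : ‖(ψ : G → ℂ) n‖ = ((ψ : G → ℂ) n).re :=
        le_antisymm ((norm_irr_le ψ n).trans hall.ge) (Complex.re_le_norm _)
      have him : ((ψ : G → ℂ) n).im = 0 :=
        (Complex.nonneg_iff.1 (Complex.re_eq_norm.1 hnorm.symm)).2.symm
      exact Complex.ext (by rw [Complex.natCast_re]; exact hall)
        (by rw [Complex.natCast_im]; exact him)
    · exact h2

/-- Every member of the block `e` of the subgroup `K` has `L` in its kernel. -/
def InKer (K L : Subgroup G) (e : Set (IrrCharacter K)) : Prop :=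
  ∀ θ ∈ e, ∀ n : K, (n : G) ∈ L → (θ : K → ℂ) n = (θ : K → ℂ) 1

theorem inKer_iff {K L : Subgroup G} {e : Set (IrrCharacter K)} :
    InKer K L e ↔ ∀ θ ∈ e, L.subgroupOf K ≤ irrKer θ := by
  exact Iff.rfl

/-- The Brauer map carries "`L` in the kernel" to "`C_L(P)` in the kernel". -/
theorem inKer_step (hM : IsPModular p M) {P X L : Subgroup G} (hP : IsPGroup p P)
    (hCX : Subgroup.centralizer (P : Set G) ≤ X) {f : Set (IrrCharacter X)} (hf : IsPBlock M f)
    (hfix : ∀ u ∈ P, Fixes u (subgroupBlockCoeff X f))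
    {e : Set (IrrCharacter (Subgroup.centralizer (P : Set G)))} (he : IsPBlock M e)
    (h1 : ∀ ξ ∈ e, MemLocalIdeal M (brauerOmega P (subgroupBlockCoeff X f)
      (ξ : Subgroup.centralizer (P : Set G) → ℂ) - 1))
    (hLX : L ≤ X) (hLn : ∀ x ∈ X, ∀ n ∈ L, x * n * x⁻¹ ∈ L)
    (hLP : ∀ u ∈ P, ∀ n ∈ L, u * n * u⁻¹ ∈ L) (hL : ¬ p ∣ Nat.card L) :
    InKer X L f ↔ InKer (Subgroup.centralizer (P : Set G)) L e := by
  set LX := L.subgroupOf X with hLX'
  have hLXn : LX.Normal := ⟨fun n hn x => hLn _ x.2 _ hn⟩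
  have hLXc : Nat.card LX = Nat.card L := Nat.card_congr (Subgroup.subgroupOfEquivOfLe hLX).toEquiv
  set LY := L.subgroupOf (Subgroup.centralizer (P : Set G)) with hLY'
  have hLYn : LY.Normal := ⟨fun n hn y => hLn _ (hCX y.2) _ hn⟩
  have hLYc : Nat.card LY ∣ Nat.card L := by
    rw [← Subgroup.card_map_of_injective (Subgroup.centralizer (P : Set G)).subtype_injective]
    exact Subgroup.card_dvd_of_le fun x ⟨y, hy, e⟩ => e ▸ hy
  have hLYp : ¬ p ∣ Nat.card LY := fun h => hL (h.trans hLYc)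
  have hLXp : ¬ p ∣ Nat.card LX := by rwa [hLXc]
  have hfixset : ∀ {u : G}, (∀ n ∈ L, u * n * u⁻¹ ∈ L) → (∀ n ∈ L, u⁻¹ * n * u⁻¹⁻¹ ∈ L) →
      Fixes u (avgIdem L) := fun {u} h h' x => if_congr
    ⟨fun hx => by simpa [mul_assoc] using h' _ hx, fun hx => h x hx⟩ rfl rfl
  have hαgood : GoodAt M P (avgIdem L) :=
    ⟨avgIdem_LR hM hL, fun u hu => hfixset (hLP u hu) (hLP _ (inv_mem hu)),
      fun u hu => hfixset (hLn _ (hCX hu)) (hLn _ (inv_mem (hCX hu)))⟩
  have hβgood : GoodAt M P (subgroupBlockCoeff X f) :=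
    ⟨bc_LR hM hf, hfix, fun u hu => bc_fixes_of_mem (hCX hu) f⟩
  -- the product of the two idempotents
  have hconv : ∀ (ε : ℂ), (∀ θ ∈ f, omega (θ : X → ℂ) (avgIdem LX) = ε) → ∀ c : G,
      gconv (subgroupBlockCoeff X f) (avgIdem L) c = ε * subgroupBlockCoeff X f c := by
    intro ε hε c
    have h0 : gconv (subgroupBlockCoeff X f) (avgIdem L) c
        = ∑ k : X, blockCoeff f k * avgIdem L ((k : G)⁻¹ * c) := by
      rw [gconv, sum_supported (K := X) (fun x hx => bc_of_notMem hx f)]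
      exact Finset.sum_congr rfl fun k _ => by rw [bc_coe]
    rw [h0]
    by_cases hc : c ∈ X
    · rw [bc_of_mem hc]
      have hcl : IsClassFunction X fun c' : X =>
          ∑ k : X, blockCoeff f k * avgIdem LX (k⁻¹ * c') :=
        conv_isClassFunction (blockCoeff_isClassFunction f) (avgIdem_isClassFunction hLXn)
      have e1 : ∀ k : X, avgIdem L ((k : G)⁻¹ * c) = avgIdem LX (k⁻¹ * ⟨c, hc⟩) := fun k => by
        unfold avgIdem
        rw [hLXc]
        exact if_congr (by rw [hLX', Subgroup.mem_subgroupOf]; simp) rfl rfl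
      simp only [e1]
      have h2 := congrFun (fourierInv_omega hcl) ⟨c, hc⟩
      rw [← h2, blockCoeff_eq_fourierInv]
      simp only [fourierInv, Finset.mul_sum]
      refine Finset.sum_congr rfl fun θ _ => ?_
      rw [omega_conv θ (blockCoeff_isClassFunction f) (avgIdem_isClassFunction hLXn),
        omega_blockCoeff]
      by_cases hθ : θ ∈ f
      · rw [hε θ hθ, blockInd_of_mem hθ]; ring
      · rw [blockInd_of_notMem hθ]; ring
    · rw [bc_of_notMem hc, mul_zero]
      refine Finset.sum_eq_zero fun k _ => ?_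
      unfold avgIdem
      rw [if_neg fun h => hc ?_, mul_zero]
      simpa using X.mul_mem k.2 (hLX h)
  -- the ratio of the orders
  have hratio : MemLocalIdeal M ((Nat.card L : ℂ) - (Nat.card LY : ℂ)) := by
    letI act : MulAction P L :=
      { smul := fun u n => ⟨(u : G) * n * (u : G)⁻¹, hLP _ u.2 _ n.2⟩
        one_smul := fun n => Subtype.ext (show (1 : G) * n * (1 : G)⁻¹ = n by simp)
        mul_smul := fun u v n => Subtype.ext (show ((u : G) * v) * n * ((u : G) * v)⁻¹
          = u * ((v : G) * n * (v : G)⁻¹) * (u : G)⁻¹ by simp [mul_assoc]) }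
    have h := sum_congr_fixedPoints hM hP (Ω := L) (fun _ => (1 : ℂ)) (fun _ => LR.one hM)
      fun _ _ => rfl
    simp only [Finset.sum_const, nsmul_eq_mul, mul_one, Finset.card_univ,
      Fintype.card_eq_nat_card] at h
    have hcard : (Finset.univ.filter fun n : L => n ∈ MulAction.fixedPoints P L).card
        = Nat.card LY := by
      rw [Nat.card_eq_fintype_card, ← Finset.card_univ]
      have hmem : ∀ n : L, n ∈ MulAction.fixedPoints P L ↔ (n : G) ∈ (Subgroup.centralizer (P : Set G)) := fun n => by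
        rw [Subgroup.mem_centralizer_iff]
        exact ⟨fun h u hu => mul_inv_eq_iff_eq_mul.1 (congrArg Subtype.val (h ⟨u, hu⟩)),
          fun h u => Subtype.ext (mul_inv_eq_iff_eq_mul.2 (h u u.2))⟩
      refine Finset.card_bij' (fun n hn => ⟨⟨(n : G), (hmem n).1 (Finset.mem_filter.1 hn).2⟩, n.2⟩)
        (fun y _ => ⟨((y : (Subgroup.centralizer (P : Set G))) : G), y.2⟩) (fun _ _ => Finset.mem_univ _)
        (fun y _ => Finset.mem_filter.2 ⟨Finset.mem_univ _, (hmem _).2 (y : (Subgroup.centralizer (P : Set G))).2⟩)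
        (fun _ _ => rfl) (fun _ _ => rfl)
    rwa [hcard] at h
  have hα : ∀ ξ : IrrCharacter (Subgroup.centralizer (P : Set G)), MemLocalIdeal M
      (brauerOmega P (avgIdem L) (ξ : (Subgroup.centralizer (P : Set G)) → ℂ) - omega (ξ : (Subgroup.centralizer (P : Set G)) → ℂ) (avgIdem LY)) := by
    intro ξ
    rw [brauerOmega_eq_omega]
    have e1 : (fun y : (Subgroup.centralizer (P : Set G)) => avgIdem L (y : G))
        = fun y : (Subgroup.centralizer (P : Set G)) => ((Nat.card LY : ℂ) * (Nat.card L : ℂ)⁻¹) * avgIdem LY y := funext fun y => by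
      unfold avgIdem
      by_cases hy : (y : G) ∈ L
      · rw [if_pos hy, if_pos (show y ∈ LY from hy), mul_comm (Nat.card LY : ℂ), mul_assoc,
          mul_inv_cancel₀ CfsgLib.Char.card_ne_zero, mul_one]
      · rw [if_neg hy, if_neg (show y ∉ LY from hy), mul_zero]
    rw [e1, show omega (ξ : (Subgroup.centralizer (P : Set G)) → ℂ) (fun y : (Subgroup.centralizer (P : Set G)) => ((Nat.card LY : ℂ) * (Nat.card L : ℂ)⁻¹)
        * avgIdem LY y) = ((Nat.card LY : ℂ) * (Nat.card L : ℂ)⁻¹) * omega (ξ : (Subgroup.centralizer (P : Set G)) → ℂ) (avgIdem LY) by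
      simp only [omega, mul_assoc, ← Finset.mul_sum, mul_div]]
    rw [← sub_one_mul]
    refine LI.mul_right hM ?_ (omega_LR hM ξ (avgIdem_isClassFunction hLYn) (avgIdem_LR hM hLYp))
    have e2 : (Nat.card LY : ℂ) * (Nat.card L : ℂ)⁻¹ - 1
        = -((Nat.card L : ℂ) - (Nat.card LY : ℂ)) * (Nat.card L : ℂ)⁻¹ := by
      rw [neg_sub, sub_mul, mul_inv_cancel₀ CfsgLib.Char.card_ne_zero]
    rw [e2]
    exact LI.mul_right hM (LI.neg hratio)
      (LR.inv hM (LR.natCast hM _) fun hI => hL ((LI.natCast_iff hM _).1 hI))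
  have hprod : ∀ (ε : ℂ), MemLocalRing M ε →
      (∀ θ ∈ f, omega (θ : X → ℂ) (avgIdem LX) = ε) → ∀ ξ ∈ e,
      MemLocalIdeal M (omega (ξ : (Subgroup.centralizer (P : Set G)) → ℂ) (avgIdem LY) - ε) := by
    intro ε hεR hε ξ hξ
    have hm := brauerOmega_gconv (ξ := ξ) hM hP hβgood hαgood
    rw [show gconv (subgroupBlockCoeff X f) (avgIdem L)
      = fun c => ε * subgroupBlockCoeff X f c from funext (hconv ε hε)] at hm
    have hlin : brauerOmega P (fun c => ε * subgroupBlockCoeff X f c) (ξ : (Subgroup.centralizer (P : Set G)) → ℂ)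
        = ε * brauerOmega P (subgroupBlockCoeff X f) (ξ : (Subgroup.centralizer (P : Set G)) → ℂ) := by
      simp only [brauerOmega_eq_omega, omega, mul_assoc, ← Finset.mul_sum, mul_div]
    rw [hlin] at hm
    set a := brauerOmega P (subgroupBlockCoeff X f) (ξ : (Subgroup.centralizer (P : Set G)) → ℂ)
    set b := brauerOmega P (avgIdem L) (ξ : (Subgroup.centralizer (P : Set G)) → ℂ)
    have ha : MemLocalIdeal M (a - 1) := h1 ξ hξ
    have hb : MemLocalRing M b := brauerOmega_LR ξ hM hαgood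
    have h3 := LI.sub hM (LI.sub hM (LI.mul_left hM hεR ha) hm) (LI.mul_left hM hb ha)
    have h4 : MemLocalIdeal M (b - ε) := by convert h3 using 1; ring
    exact LI.trans hM (LI.sub_comm (hα ξ)) h4
  rw [inKer_iff, inKer_iff]
  constructor
  · intro hker ξ hξ
    have h := hprod 1 (LR.one hM) (fun θ hθ => by rw [omega_avgIdem hLXn, if_pos (hker θ hθ)]) ξ hξ
    rw [omega_avgIdem hLYn] at h
    by_contra hne
    rw [if_neg hne, zero_sub] at h
    exact LI.not_one hM (by simpa using LI.neg h)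
  · intro hker θ hθ
    by_contra hne
    obtain ⟨ξ, hξ⟩ := IsPBlock.nonempty hM he
    have hall : ∀ θ' ∈ f, omega (θ' : X → ℂ) (avgIdem LX) = 0 := fun θ' hθ' => by
      rw [omega_avgIdem hLXn, if_neg fun hle => hne (le_irrKer_of_sameBlock hM hLXn hLXp
        (IsPBlock.sameBlock hM hf hθ' hθ) hle)]
    have h := hprod 0 (LR.zero hM) hall ξ hξ
    rw [omega_avgIdem hLYn, if_pos (hker ξ hξ), sub_zero] at h
    exact LI.not_one hM h

/-! ### The `π'`-core -/

variable {π : Set ℕ}

/-- `O_π'` of a subgroup, inside the group. -/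
noncomputable def coreOut (π : Set ℕ) (K : Subgroup G) : Subgroup G :=
  (piCore {q | q ∉ π} K).map K.subtype

theorem coreOut_le (π : Set ℕ) (K : Subgroup G) : coreOut π K ≤ K := by
  rintro _ ⟨x, -, rfl⟩; exact x.2

theorem coreOut_primes {K : Subgroup G} {q : ℕ} (hq : q.Prime) (h : q ∣ Nat.card (coreOut π K)) :
    q ∉ π := by
  rw [coreOut, Subgroup.card_map_of_injective K.subtype_injective] at h
  exact CfsgLib.OddOrder.SigmaBasics.mem_of_dvd_piCore hq h

theorem coreOut_p' (hM : IsPModular p M) (hp : p ∈ π) (K : Subgroup G) :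
    ¬ p ∣ Nat.card (coreOut π K) := fun h => coreOut_primes hM.1 h hp

theorem le_coreOut {K N : Subgroup G} (hNK : N ≤ K) (hn : ∀ x ∈ K, ∀ n ∈ N, x * n * x⁻¹ ∈ N)
    (hpi : ∀ q : ℕ, q.Prime → q ∣ Nat.card N → q ∉ π) : N ≤ coreOut π K := by
  haveI : (N.subgroupOf K).Normal := ⟨fun n hn' x => hn _ x.2 _ hn'⟩
  have h : N.subgroupOf K ≤ piCore {q | q ∉ π} K :=
    CfsgLib.OddOrder.SigmaBasics.le_piCore fun q hq hd => hpi q hq (by
      rwa [Nat.card_congr (Subgroup.subgroupOfEquivOfLe hNK).toEquiv] at hd)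
  intro n hn'
  exact ⟨⟨n, hNK hn'⟩, h hn', rfl⟩

theorem coreOut_normalized {K : Subgroup G} {u : G} (hu : ∀ x, u * x * u⁻¹ ∈ K ↔ x ∈ K) :
    ∀ n ∈ coreOut π K, u * n * u⁻¹ ∈ coreOut π K := by
  intro n hn
  have hsub : (coreOut π K).map (MulAut.conj u).toMonoidHom ≤ coreOut π K := by
    refine le_coreOut ?_ ?_ ?_
    · rintro _ ⟨y, hy, rfl⟩; exact (hu y).2 (coreOut_le π K hy)
    · rintro x hx _ ⟨y, hy, rfl⟩
      refine ⟨(u⁻¹ * x * u) * y * (u⁻¹ * x * u)⁻¹, ?_, by simp [mul_assoc]⟩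
      obtain ⟨z, hz, rfl⟩ := hy
      have hm : u⁻¹ * x * u ∈ K := (hu _).1 (by simpa [mul_assoc] using hx)
      exact ⟨⟨_, hm⟩ * z * ⟨_, hm⟩⁻¹, Subgroup.Normal.conj_mem inferInstance z hz _, rfl⟩
    · intro q hq hd
      rw [Subgroup.card_map_of_injective (MulAut.conj u).injective] at hd
      exact coreOut_primes hq hd
  exact hsub ⟨n, hn, rfl⟩

theorem coreOut_conj_mem {K : Subgroup G} {x : G} (hx : x ∈ K) :
    ∀ n ∈ coreOut π K, x * n * x⁻¹ ∈ coreOut π K :=
  coreOut_normalized fun y =>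
    ⟨fun h => by simpa [mul_assoc] using K.mul_mem (K.mul_mem (K.inv_mem hx) h) hx,
      fun h => K.mul_mem (K.mul_mem hx h) (K.inv_mem hx)⟩

theorem centralizer_conj_iff {P : Subgroup G} {u : G}
    (hu : u ∈ Subgroup.normalizer (P : Set G)) (y : G) :
    u * y * u⁻¹ ∈ Subgroup.centralizer (P : Set G) ↔ y ∈ Subgroup.centralizer (P : Set G) :=
  ⟨fun h => by simpa [mul_assoc] using mem_centralizer_conj (inv_mem hu) h,
    mem_centralizer_conj hu⟩

/-- `C_{O_π'(C(Q))}(P) ≤ O_π'(C(P))`. -/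
theorem inf_le_coreOut {K Y : Subgroup G} (hYK : Y ≤ K) :
    coreOut π K ⊓ Y ≤ coreOut π Y := by
  refine le_coreOut inf_le_right (fun x hx n hn => ⟨coreOut_conj_mem (hYK hx) n hn.1,
    Y.mul_mem (Y.mul_mem hx hn.2) (Y.inv_mem hx)⟩) fun q hq hd => ?_
  exact coreOut_primes hq (hd.trans (Subgroup.card_dvd_of_le inf_le_left))

theorem InKer.mono {K L L' : Subgroup G} {e : Set (IrrCharacter K)} (h : InKer K L e)
    (hle : ∀ n ∈ K, n ∈ L' → n ∈ L) : InKer K L' e :=
  fun θ hθ n hn => h θ hθ n (hle _ n.2 hn)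

/-- Down a normal inclusion. -/
theorem inKer_down_normal (hM : IsPModular p M) (hp : p ∈ π) {Q P : Subgroup G}
    {f : Set (IrrCharacter (Subgroup.centralizer (Q : Set G)))}
    {e : Set (IrrCharacter (Subgroup.centralizer (P : Set G)))}
    (h : IsNormalSubpair p M Q f P e)
    (hker : InKer _ (coreOut π (Subgroup.centralizer (P : Set G))) e) :
    InKer _ (coreOut π (Subgroup.centralizer (Q : Set G))) f := by
  obtain ⟨hQf, hPe, hQP, hPN, hfP, hf1⟩ := isNormalSubpair_iff.1 h
  refine (inKer_step hM hPe.1 (centralizer_anti hQP) hQf.2 hfP hPe.2 hf1 (coreOut_le π _)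
    (fun x hx => coreOut_conj_mem hx)
    (fun u hu => coreOut_normalized (centralizer_conj_iff (hPN hu))) (coreOut_p' hM hp _)).2 ?_
  exact hker.mono fun n hn hn' => inf_le_coreOut (centralizer_anti hQP) ⟨hn', hn⟩

theorem inKer_down (hM : IsPModular p M) (hp : p ∈ π) {Q P : Subgroup G}
    {f : Set (IrrCharacter (Subgroup.centralizer (Q : Set G)))}
    {e : Set (IrrCharacter (Subgroup.centralizer (P : Set G)))}
    (h : SubpairLE p M Q f P e)
    (hker : InKer _ (coreOut π (Subgroup.centralizer (P : Set G))) e) :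
    InKer _ (coreOut π (Subgroup.centralizer (Q : Set G))) f := by
  have key : ∀ a b : BrauerPairIdx G, Relation.ReflTransGen (NormalSubpairRel p M) a b →
      InKer _ (coreOut π (Subgroup.centralizer (b.1 : Set G))) b.2 →
      InKer _ (coreOut π (Subgroup.centralizer (a.1 : Set G))) a.2 := by
    intro a b hab hb
    induction hab with
    | refl => exact hb
    | tail _ h ih => exact ih (inKer_down_normal hM hp h hb)
  exact key _ _ h hker

/-- Up a chain, when the `π'`-elements at the bottom lie in the core. -/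
theorem inKer_up (hM : IsPModular p M) (hp : p ∈ π) {Q P : Subgroup G}
    {f : Set (IrrCharacter (Subgroup.centralizer (Q : Set G)))}
    {e : Set (IrrCharacter (Subgroup.centralizer (P : Set G)))}
    (h : SubpairLE p M Q f P e)
    (hhall : ∀ x ∈ Subgroup.centralizer (Q : Set G),
      (∀ q : ℕ, q.Prime → q ∣ orderOf x → q ∉ π) → x ∈ coreOut π (Subgroup.centralizer (Q : Set G)))
    (hker : InKer _ (coreOut π (Subgroup.centralizer (Q : Set G))) f) :
    InKer _ (coreOut π (Subgroup.centralizer (P : Set G))) e := by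
  have key : ∀ a b : BrauerPairIdx G, Relation.ReflTransGen (NormalSubpairRel p M) a b →
      a.1 = Q → InKer _ (coreOut π (Subgroup.centralizer (a.1 : Set G))) a.2 →
      Q ≤ b.1 ∧ InKer _ (coreOut π (Subgroup.centralizer (b.1 : Set G))) b.2 := by
    intro a b hab hQ ha
    induction hab with
    | refl => exact ⟨hQ.ge, ha⟩
    | @tail c d _ hcd ih =>
      obtain ⟨hQc, hc⟩ := ih
      obtain ⟨hQf, hPe, hQP, hPN, hfP, hf1⟩ := isNormalSubpair_iff.1 hcd
      refine ⟨hQc.trans hQP, ((inKer_step hM hPe.1 (centralizer_anti hQP) hQf.2 hfP hPe.2 hf1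
        (coreOut_le π _) (fun x hx => coreOut_conj_mem hx)
        (fun u hu => coreOut_normalized (centralizer_conj_iff (hPN hu)))
        (coreOut_p' hM hp _)).1 hc).mono fun n _ hn' => ?_⟩
      have hnc : n ∈ Subgroup.centralizer (c.1 : Set G) :=
        centralizer_anti hQP (coreOut_le π _ hn')
      have hpi : ∀ q : ℕ, q.Prime → q ∣ orderOf n → q ∉ π := fun q hq hd =>
        coreOut_primes hq (hd.trans (Subgroup.orderOf_dvd_natCard _ hn'))
      exact inf_le_coreOut (centralizer_anti hQc) ⟨hhall n (centralizer_anti hQc hnc) hpi, hnc⟩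
  exact (key _ _ h rfl hker).2

theorem inKer_conjBlock {Q : Subgroup G} {x : G}
    {f : Set (IrrCharacter (Subgroup.centralizer (Q : Set G)))}
    (h : InKer _ (coreOut π (Subgroup.centralizer
      ((Q.map (MulAut.conj x).toMonoidHom : Subgroup G) : Set G))) (conjBlock Q x f)) :
    InKer _ (coreOut π (Subgroup.centralizer (Q : Set G))) f := by
  intro θ hθ n hn
  obtain ⟨ξ, hξ, rfl⟩ : θ ∈ irrEquiv (centIso Q x) '' conjBlock Q x f := by
    rwa [image_conjBlock]
  rw [irrEquiv_apply, irrEquiv_apply, map_one]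
  refine h ξ hξ _ ?_
  set C := Subgroup.centralizer ((Q.map (MulAut.conj x).toMonoidHom : Subgroup G) : Set G)
  obtain ⟨m, hm, hmn⟩ := hn
  haveI : ((piCore {q | q ∉ π} (Subgroup.centralizer (Q : Set G))).map
      (centIso Q x).toMonoidHom).Normal :=
    Subgroup.Normal.map inferInstance _ (centIso Q x).surjective
  have hle : (piCore {q | q ∉ π} (Subgroup.centralizer (Q : Set G))).map
      (centIso Q x).toMonoidHom ≤ piCore {q | q ∉ π} C :=
    CfsgLib.OddOrder.SigmaBasics.le_piCore fun q hq hd => by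
      rw [Subgroup.card_map_of_injective (centIso Q x).injective] at hd
      exact CfsgLib.OddOrder.SigmaBasics.mem_of_dvd_piCore hq hd
  exact ⟨centIso Q x n, hle ⟨m, hm, congrArg (centIso Q x) (Subtype.ext hmn)⟩, rfl⟩

/-- A block of an overgroup of `C_G(P)` gives a pair at `P`. -/
theorem exists_pair_sub [Fact p.Prime] (hM : IsPModular p M) {P H : Subgroup G}
    (hPp : IsPGroup p P) (hPH : P ≤ H) (hCH : Subgroup.centralizer (P : Set G) ≤ H)
    {F : Set (IrrCharacter H)} {B : Set (IrrCharacter G)} (hF : IsInducedBlock M H F B)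
    {c : H} (hc : (c : G) ∈ Subgroup.centralizer (P : Set G))
    (hu : ¬ MemLocalIdeal M (blockCoeff F c)) :
    ∃ e : Set (IrrCharacter (Subgroup.centralizer (P : Set G))), IsBrauerPairOf p M B P e ∧
      ∀ ξ ∈ e, MemLocalIdeal M (brauerOmega P (subgroupBlockCoeff H F)
        (ξ : Subgroup.centralizer (P : Set G) → ℂ) - 1) := by
  have hgood : GoodAt M P (subgroupBlockCoeff H F) :=
    ⟨bc_LR hM hF.1, fun u hu' => bc_fixes_of_mem (hPH hu') F,
      fun u hu' => bc_fixes_of_mem (hCH hu') F⟩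
  obtain ⟨e, he, h1⟩ := exists_block_omega_one hM hPp hgood (idemAt_bc hM H F P) hc
    (by rwa [bc_coe])
  obtain ⟨F', hF'⟩ := BrouePuig.exists_inducedIn hM hPH hPp hCH he
  obtain ⟨ξ, hξ⟩ := IsPBlock.nonempty hM he
  obtain ⟨χ, hχ⟩ := IsPBlock.nonempty hM hF'.2.1
  have hmem : χ ∈ F := by
    have h2 := BrouePuig.omega_incl_congr hM hCH
      (ξ : Subgroup.centralizer (P : Set G) → ℂ) χ (blockCoeff_isClassFunction F)
      (blockCoeff_LR hM hF.1) (hF'.2.2 ξ hξ χ hχ)
    rw [omega_blockCoeff] at h2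
    by_contra hne
    rw [blockInd_of_notMem hne, sub_zero] at h2
    have h3 := h1 ξ hξ
    rw [brauerOmega_eq_omega, show (fun k : Subgroup.centralizer (P : Set G) =>
        subgroupBlockCoeff H F (k : G))
      = fun k : Subgroup.centralizer (P : Set G) => blockCoeff F (⟨(k : G), hCH k.2⟩ : H) from
        funext fun k => bc_of_mem (hCH k.2) F] at h3
    exact LI.not_one hM (by simpa using LI.sub hM h2 h3)
  have hFF : F' = F := IsPBlock.eq_of_mem hM hF'.2.1 hF.1 hχ hmem
  subst hFF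
  exact ⟨e, (isBrauerPairOf_iff_induced hM hPp he).2
    ((isInducedBlock_trans_iff hM hCH hF' B).1 hF), h1⟩

/-- A block unit at a centralised element, for the defect group of a subgroup's block. -/
theorem exists_pair_sub_defect [Fact p.Prime] (hM : IsPModular p M) {P H : Subgroup G}
    (hPp : IsPGroup p P) (hPH : P ≤ H) (hCH : Subgroup.centralizer (P : Set G) ≤ H)
    {F : Set (IrrCharacter H)} {B : Set (IrrCharacter G)} (hF : IsInducedBlock M H F B)
    (hD : IsDefectGroup p M F (P.subgroupOf H)) :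
    ∃ e : Set (IrrCharacter (Subgroup.centralizer (P : Set G))), IsBrauerPairOf p M B P e ∧
      ∀ ξ ∈ e, MemLocalIdeal M (brauerOmega P (subgroupBlockCoeff H F)
        (ξ : Subgroup.centralizer (P : Set G) → ℂ) - 1) := by
  obtain ⟨c, hc, hcl⟩ := exists_unit_coeff_centralizer hM hD
  exact exists_pair_sub hM hPp hPH hCH hF
    ((mem_centralizer_subgroupOf_iff hPH c).1 hc) hcl.2.1

end CfsgLib.BrauerPairs
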