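import Cfsg.Agent.Lib.BrauerPairs.KernelCore

/-!
# Descent of the condition "`O_π'` lies in the kernel" from the Brauer correspondent
-/

set_option autoImplicit false
set_option maxHeartbeats 800000

namespace CfsgLib.BrauerPairs

open Cfsg CfsgLib.Blocks
open scoped Classical

variable {G : Type*} [Group G] [Fintype G] {p : ℕ} [Fact p.Prime] {M : Ideal AlgInt} {π : Set ℕ}
  {B : Set (IrrCharacter G)}

omit [Fintype G] in
theorem mem_coreOut_coe_iff {K : Subgroup G} {n : K} :
    (n : G) ∈ coreOut π K ↔ n ∈ piCore {q | q ∉ π} K :=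
  ⟨fun ⟨_, hm, h⟩ => Subtype.ext h ▸ hm, fun h => ⟨n, h, rfl⟩⟩

theorem inKer_coreOut_iff {K : Subgroup G} {F : Set (IrrCharacter K)} :
    InKer K (coreOut π K) F ↔ ∀ n : K, n ∈ piCore {q | q ∉ π} K → n ∈ blockKer F :=
  ⟨fun h n hn θ hθ => h θ hθ n (mem_coreOut_coe_iff.2 hn),
    fun h θ hθ n hn => h n (mem_coreOut_coe_iff.1 hn) θ hθ⟩

/-- The condition at a maximal pair gives it at every pair of the block. -/
theorem inKer_all (hM : IsPModular p M) (hp : p ∈ π) {P : Subgroup G}
    {e : Set (IrrCharacter (Subgroup.centralizer (P : Set G)))}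
    (hmax : IsMaximalBrauerPair p M B P e)
    (hker : InKer _ (coreOut π (Subgroup.centralizer (P : Set G))) e) (Q : Subgroup G)
    (f : Set (IrrCharacter (Subgroup.centralizer (Q : Set G))))
    (h : IsBrauerPairOf p M B Q f) :
    InKer _ (coreOut π (Subgroup.centralizer (Q : Set G))) f := by
  obtain ⟨x, hx⟩ := exists_conj_subpairLE hM hmax h
  exact inKer_conjBlock (inKer_down hM hp hx hker)

/-- The Brauer correspondent and a maximal pair at the defect group. -/
theorem exists_maximal_inKer_iff (hM : IsPModular p M) (hp : p ∈ π) {D : Subgroup G}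
    (hBD : IsDefectGroup p M B D)
    {B₁ : Set (IrrCharacter ↥(Subgroup.normalizer (D : Set G)))}
    (hB₁ : IsInducedBlock M (Subgroup.normalizer (D : Set G)) B₁ B)
    (hB₁D : IsDefectGroup p M B₁ (D.subgroupOf (Subgroup.normalizer (D : Set G)))) :
    ∃ k : Set (IrrCharacter (Subgroup.centralizer (D : Set G))),
      IsMaximalBrauerPair p M B D k ∧
      (InKer _ (coreOut π (Subgroup.normalizer (D : Set G))) B₁ ↔
        InKer _ (coreOut π (Subgroup.centralizer (D : Set G))) k) := by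
  have hDN : D ≤ Subgroup.normalizer (D : Set G) := Subgroup.le_normalizer
  have hCN : Subgroup.centralizer (D : Set G) ≤ Subgroup.normalizer (D : Set G) :=
    centralizer_le_normalizer D
  obtain ⟨k, hk, h1⟩ :=
    exists_pair_sub_defect hM (isPGroup_defectGroup hBD) hDN hCN hB₁ hB₁D
  refine ⟨k, isMaximal_of_defectGroup hM hBD hk, ?_⟩
  rw [inKer_step hM (isPGroup_defectGroup hBD) hCN hB₁.1 (fun u hu => bc_fixes_of_mem (hDN hu) _)
    hk.1.2 h1 (coreOut_le π _) (fun x hx => coreOut_conj_mem hx)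
    (fun u hu => coreOut_conj_mem (hDN hu)) (coreOut_p' hM hp _)]
  refine ⟨fun h => h.mono fun n _ hn' => ?_, fun h => h.mono fun n hn hn' =>
    inf_le_coreOut hCN ⟨hn', hn⟩⟩
  exact le_coreOut ((coreOut_le π _).trans hCN)
    (fun x hx => coreOut_normalized (centralizer_conj_iff hx))
    (fun q hq hd => coreOut_primes hq hd) hn'

theorem inKer_all_of_normalizer (hM : IsPModular p M) (hp : p ∈ π) {D : Subgroup G}
    (hBD : IsDefectGroup p M B D)
    {B₁ : Set (IrrCharacter ↥(Subgroup.normalizer (D : Set G)))}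
    (hB₁ : IsInducedBlock M (Subgroup.normalizer (D : Set G)) B₁ B)
    (hB₁D : IsDefectGroup p M B₁ (D.subgroupOf (Subgroup.normalizer (D : Set G))))
    (hker : ∀ n : ↥(Subgroup.normalizer (D : Set G)),
      n ∈ piCore {q | q ∉ π} ↥(Subgroup.normalizer (D : Set G)) → n ∈ blockKer B₁)
    (Q : Subgroup G) (f : Set (IrrCharacter (Subgroup.centralizer (Q : Set G))))
    (h : IsBrauerPairOf p M B Q f) :
    InKer _ (coreOut π (Subgroup.centralizer (Q : Set G))) f := by
  obtain ⟨k, hmax, hiff⟩ := exists_maximal_inKer_iff hM hp hBD hB₁ hB₁D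
  exact inKer_all hM hp hmax (hiff.1 (inKer_coreOut_iff.2 hker)) Q f h

/-- Descent to a subgroup containing the centralizer of a defect group of its block. -/
theorem inKer_of_sub (hM : IsPModular p M) (hp : p ∈ π)
    (hall : ∀ (Q : Subgroup G) (f : Set (IrrCharacter (Subgroup.centralizer (Q : Set G)))),
      IsBrauerPairOf p M B Q f → InKer _ (coreOut π (Subgroup.centralizer (Q : Set G))) f)
    {G₀ : Subgroup G} {B₀ : Set (IrrCharacter G₀)} (hB₀ : IsInducedBlock M G₀ B₀ B)
    {D₀ : Subgroup G₀} (hD₀ : IsDefectGroup p M B₀ D₀)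
    (hC : Subgroup.centralizer ((D₀.map G₀.subtype : Subgroup G) : Set G) ≤ G₀) :
    InKer G₀ (coreOut π G₀) B₀ := by
  set Q := D₀.map G₀.subtype with hQ
  have hQp : IsPGroup p Q := (isPGroup_defectGroup hD₀).map _
  have hQ0 : Q ≤ G₀ := Subgroup.map_subtype_le D₀
  have hD : D₀ = Q.subgroupOf G₀ :=
    (Subgroup.comap_map_eq_self_of_injective G₀.subtype_injective D₀).symm
  rw [hD] at hD₀
  obtain ⟨e, he, h1⟩ := exists_pair_sub_defect hM hQp hQ0 hC hB₀ hD₀
  exact (inKer_step hM hQp hC hB₀.1 (fun u hu => bc_fixes_of_mem (hQ0 hu) _)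
    he.1.2 h1 (coreOut_le π _) (fun x hx => coreOut_conj_mem hx)
    (fun u hu => coreOut_conj_mem (hQ0 hu)) (coreOut_p' hM hp _)).2
    ((hall Q e he).mono fun n hn hn' => inf_le_coreOut hC ⟨hn', hn⟩)

end CfsgLib.BrauerPairs
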