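import Cfsg.Agent.Lib.BrauerPairs.Fusion
import Cfsg.Agent.Lib.Blocks.CentralDefect
import Cfsg.Agent.Lib.DegreeTools.PDegree

/-!
# The criterion for maximal Brauer pairs
-/

set_option autoImplicit false

namespace CfsgLib.BrauerPairs

open Cfsg CfsgLib.Blocks
open scoped Classical ComplexConjugate Pointwise

section Theta

variable {H : Type*} [Group H] [Fintype H] {p : ℕ} {M : Ideal AlgInt} {b : Set (IrrCharacter H)}

/-- A block with central defect group has a member trivial on it, of full defect-zero degree. -/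
theorem exists_theta (hM : IsPModular p M) (hb : IsPBlock M b) {D : Subgroup H}
    (hD : IsDefectGroup p M b D) (hDZ : D ≤ Subgroup.center H) :
    ∃ θ ∈ b, (∀ z ∈ D, (θ : H → ℂ) z = (θ : H → ℂ) 1) ∧
      degVal p θ + (Nat.card D).factorization p = (Nat.card H).factorization p := by
  haveI := Fact.mk hM.1
  have hDp := isPGroup_defectGroup hD
  have hcard := card_defectGroup hM hb hD
  obtain ⟨c, hc, hcl⟩ := exists_unit_coeff_centralizer hM hD
  have hsum : ¬ MemLocalIdeal M (∑ z : D, blockCoeff b (c * (z : H))) := by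
    intro hI
    refine hcl.2.1 ?_
    have hrest : MemLocalIdeal M (∑ z ∈ (Finset.univ : Finset D).erase 1,
        blockCoeff b (c * (z : H))) := LI.sum hM fun z hz => by
      by_contra hn
      have hz1 : (z : H) ≠ 1 := fun h => (Finset.mem_erase.1 hz).1 (Subtype.ext h)
      have hcreg := isPRegular_of_not_LI hM hb hcl.2.1
      obtain ⟨k, hk⟩ := IsPGroup.iff_orderOf.1 hDp z
      rw [← Subgroup.orderOf_coe] at hk
      have hcomm : Commute c (z : H) := Subgroup.mem_center_iff.1 (hDZ z.2) c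
      have hcop : (orderOf c).Coprime (orderOf (z : H)) := by
        rw [hk]
        exact ((Nat.Prime.coprime_iff_not_dvd hM.1).2 hcreg).symm.pow_right k
      refine isPRegular_of_not_LI hM hb hn ?_
      rw [hcomm.orderOf_mul_eq_mul_orderOf_of_coprime hcop]
      refine dvd_mul_of_dvd_right ?_ _
      rw [hk]
      refine dvd_pow_self p fun h0 => hz1 ?_
      rw [h0, pow_zero] at hk
      exact orderOf_eq_one_iff.1 hk
    rw [← Finset.add_sum_erase _ _ (Finset.mem_univ (1 : D))] at hI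
    simpa using LI.sub hM hI hrest
  obtain ⟨θ, hθb, hθD⟩ : ∃ θ ∈ b, ∀ z ∈ D, (θ : H → ℂ) z = (θ : H → ℂ) 1 := by
    by_contra hcon
    push Not at hcon
    refine hsum ?_
    have h0 : ∀ θ ∈ b, ∑ z : D, (θ : H → ℂ) (c * z)⁻¹ = 0 := by
      intro θ hθ
      obtain ⟨z₀, hz₀, hne⟩ := hcon θ hθ
      obtain ⟨a, ha, ha1⟩ :=
        CfsgLib.CharDeep.CentralTrick.exists_scalar_center θ.2 (hDZ hz₀)
      have h1 : ∑ z : D, (θ : H → ℂ) (c * z)⁻¹ = a * ∑ z : D, (θ : H → ℂ) (c * z)⁻¹ := by
        conv_lhs => rw [← Equiv.sum_comp (Equiv.mulRight (⟨z₀, hz₀⟩⁻¹ : D))]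
        rw [Finset.mul_sum]
        refine Finset.sum_congr rfl fun z _ => ?_
        rw [← ha]
        congr 1
        simp only [Equiv.coe_mulRight, Subgroup.coe_mul, InvMemClass.coe_inv, mul_inv_rev, inv_inv]
        rw [mul_assoc, ← Subgroup.mem_center_iff.1 (hDZ hz₀)]
      by_contra hS
      exact hne (ha1 (mul_right_cancel₀ hS (h1.symm.trans (one_mul _).symm)))
    simp only [blockCoeff_eq_fourierInv, fourierInv, Finset.mul_sum]
    rw [Finset.sum_comm, Finset.sum_eq_zero fun θ _ => ?_]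
    · exact LI.zero hM
    by_cases hθ : θ ∈ b
    · simp only [← Finset.mul_sum, h0 θ hθ, mul_zero]
    · simp [blockInd_of_notMem hθ]
  refine ⟨θ, hθb, hθD, ?_⟩
  haveI : D.Normal := ⟨fun n hn g => by
    rw [Subgroup.mem_center_iff.1 (hDZ hn) g, mul_inv_cancel_right]; exact hn⟩
  have hup : degVal p θ ≤ D.index.factorization p :=
    (Nat.factorization_le_iff_dvd (charDegree_pos θ).ne' Subgroup.index_ne_zero_of_finite).2
      (CfsgLib.DegreeTools.deg_dvd_index D
        (fun a b => Subtype.ext (Subgroup.mem_center_iff.1 (hDZ b.2) a)) θ) p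
  have h1 := blockDefect_add_min (p := p) (IsPBlock.nonempty hM hb)
  have h2 := minDegVal_le (p := p) hθb
  have h3 : (Nat.card D).factorization p + D.index.factorization p
      = (Nat.card H).factorization p := by
    rw [← Subgroup.card_mul_index D, Nat.factorization_mul Nat.card_pos.ne'
      Subgroup.index_ne_zero_of_finite, Finsupp.add_apply]
  rw [hcard, Nat.Prime.factorization_pow hM.1, Finsupp.single_eq_same] at h3 ⊢
  omega

end Theta

variable {G : Type*} [Group G] [Fintype G] {p : ℕ} [Fact p.Prime] {M : Ideal AlgInt}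
  {Q : Subgroup G} {e : Set (IrrCharacter (Subgroup.centralizer (Q : Set G)))}

omit [Fintype G] in
theorem centre_le_center :
    (Q ⊓ Subgroup.centralizer (Q : Set G)).subgroupOf (Subgroup.centralizer (Q : Set G))
      ≤ Subgroup.center (Subgroup.centralizer (Q : Set G)) := fun _ hz =>
  Subgroup.mem_center_iff.2 fun c =>
    Subtype.ext (Subgroup.mem_centralizer_iff.1 c.2 _ hz.1).symm

theorem of_isMaximal (hM : IsPModular p M) {B : Set (IrrCharacter G)}
    (hmax : IsMaximalBrauerPair p M B Q e) :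
    IsDefectGroup p M e ((Q ⊓ Subgroup.centralizer (Q : Set G)).subgroupOf
        (Subgroup.centralizer (Q : Set G))) ∧
      ∀ g : G, g ∈ Subgroup.normalizer (Q : Set G) →
        StabilizesBlock (Subgroup.centralizer (Q : Set G)) e g → (∃ k : ℕ, orderOf g = p ^ k) →
        g ∈ Q ⊔ Subgroup.centralizer (Q : Set G) := by
  have hF := isBlockFusionSystemOn_blockFusion hM hmax
  have hle : SubpairLE p M Q e Q e := Relation.ReflTransGen.refl
  have hFN : (blockFusion hM hmax.1.1).IsFullyNormalized Q := ⟨le_rfl, fun R _ => by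
    refine Subgroup.card_le_of_le ?_
    intro x hx
    exact ⟨hx.1, Subgroup.le_normalizer hx.1⟩⟩
  refine ⟨(isDefectGroup_centralizer_iff hM hmax.1.1 hle).2
    (centralizer_card_of_normalized hM hF hle hFN), fun g hgN hgs ⟨k, hk⟩ => ?_⟩
  set A := (blockFusion hM hmax.1.1).autGroup Q
  obtain ⟨-, R, hR⟩ : (blockFusion hM hmax.1.1).IsFullyAutomized p Q :=
    fullyAutomized_of_normalized hM hF hle hFN
  change Sylow p A at R
  have hA : A = autInducedBy (pairStab Q e) Q := autGroup_eq hM hF hle mem_pairStab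
  let φ : Subgroup.normalizer (Q : Set G) →* MulAut Q :=
    { toFun := fun u =>
        { toFun := fun x => ⟨u * x * u⁻¹, (Subgroup.mem_normalizer_iff.1 u.2 x).1 x.2⟩
          invFun := fun x => ⟨(u : G)⁻¹ * x * u,
            (Subgroup.mem_normalizer_iff.1 u.2 _).2 (by simp [mul_assoc])⟩
          left_inv := fun x => Subtype.ext (by simp [mul_assoc])
          right_inv := fun x => Subtype.ext (by simp [mul_assoc])
          map_mul' := fun x y => Subtype.ext (by simp [mul_assoc]) }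
      map_one' := MulEquiv.ext fun x => Subtype.ext (by simp)
      map_mul' := fun u v => MulEquiv.ext fun x => Subtype.ext (by simp [mul_assoc]) }
  have hαA : φ ⟨g, hgN⟩ ∈ A := hA ▸ CfsgLib.Fsys.mem_autInducedBy.2
    ⟨g, (mem_pairStab g).2 ⟨hgN, hgs⟩, fun x => rfl⟩
  set α : A := ⟨φ ⟨g, hgN⟩, hαA⟩
  have hαp : IsPGroup p (Subgroup.zpowers α) := by
    have h : orderOf α ∣ p ^ k := by
      rw [← Subgroup.orderOf_coe α, ← hk]
      exact (orderOf_map_dvd φ _).trans (Subgroup.orderOf_mk g hgN).dvd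
    obtain ⟨m, -, hm⟩ := (Nat.dvd_prime_pow hM.1).1 h
    exact IsPGroup.of_card ((Nat.card_zpowers α).trans hm)
  haveI : ((autInducedBy Q Q).subgroupOf A).Normal := ⟨fun β hβ γ => by
    rw [Subgroup.mem_subgroupOf, CfsgLib.Fsys.mem_autInducedBy] at hβ ⊢
    obtain ⟨q, hq, hβ⟩ := hβ
    refine ⟨((γ : MulAut Q) ⟨q, hq⟩ : Q), ((γ : MulAut Q) ⟨q, hq⟩ : Q).2, fun x => ?_⟩
    have h2 : (β : MulAut Q) ((γ : MulAut Q)⁻¹ x)
        = (⟨q, hq⟩ : Q) * (γ : MulAut Q)⁻¹ x * (⟨q, hq⟩ : Q)⁻¹ := Subtype.ext (hβ _)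
    show (((γ : MulAut Q) * (β : MulAut Q) * (γ : MulAut Q)⁻¹) x : G) = _
    rw [MulAut.mul_apply, MulAut.mul_apply, h2, map_mul, map_mul, map_inv, MulAut.apply_inv_self]
    rfl⟩
  have hsup : IsPGroup p ((autInducedBy Q Q).subgroupOf A ⊔ Subgroup.zpowers α : Subgroup A) :=
    IsPGroup.to_sup_of_normal_left (hR ▸ R.isPGroup') hαp
  have heq := R.is_maximal' hsup (hR.le.trans le_sup_left)
  have hαR : α ∈ (autInducedBy Q Q).subgroupOf A := by
    rw [← hR, ← heq]
    exact Subgroup.mem_sup_right (Subgroup.mem_zpowers α)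
  obtain ⟨q, hq, hqα⟩ := CfsgLib.Fsys.mem_autInducedBy.1 hαR
  have hc : q⁻¹ * g ∈ Subgroup.centralizer (Q : Set G) := Subgroup.mem_centralizer_iff.2 fun x hx => by
    have h1 : g * x * g⁻¹ = q * x * q⁻¹ := hqα ⟨x, hx⟩
    calc x * (q⁻¹ * g) = q⁻¹ * (q * x * q⁻¹) * g := by simp [mul_assoc]
      _ = q⁻¹ * (g * x * g⁻¹) * g := by rw [h1]
      _ = q⁻¹ * g * x := by simp [mul_assoc]
  have := Subgroup.mul_mem _ (Subgroup.mem_sup_left (T := Subgroup.centralizer (Q : Set G)) hq)
    (Subgroup.mem_sup_right hc)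
  rwa [mul_inv_cancel_left] at this

theorem isMaximal_of_stab (hM : IsPModular p M) (he : IsBrauerPair p M Q e)
    (hD : IsDefectGroup p M e ((Q ⊓ Subgroup.centralizer (Q : Set G)).subgroupOf
      (Subgroup.centralizer (Q : Set G))))
    (hstab : ∀ g : G, g ∈ Subgroup.normalizer (Q : Set G) →
      StabilizesBlock (Subgroup.centralizer (Q : Set G)) e g → (∃ k : ℕ, orderOf g = p ^ k) →
      g ∈ Q ⊔ Subgroup.centralizer (Q : Set G)) :
    ∃ B : Set (IrrCharacter G), IsMaximalBrauerPair p M B Q e := by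
  obtain ⟨B, hB⟩ := exists_block_of_pair hM he
  refine ⟨B, isMaximal_of_defectGroup hM (isDefectGroup_of_locMax hM hB ?_) hB⟩
  intro R hR hQR hRN hfix ⟨c, hc, hne⟩
  refine le_antisymm (fun r hr => ?_) hQR
  obtain ⟨k, hk⟩ := IsPGroup.iff_orderOf.1 hR ⟨r, hr⟩
  rw [Subgroup.orderOf_mk] at hk
  have hrQC := hstab r (hRN hr) ((stabilizesBlock_iff _ e r).2
    ⟨normalizer_le_normalizer_centralizer Q (hRN hr), hfix r hr⟩) ⟨k, hk⟩
  haveI hn : ((Subgroup.centralizer (Q : Set G)).subgroupOf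
      (Subgroup.normalizer (Q : Set G))).Normal :=
    ⟨fun x hx u => mem_centralizer_conj u.2 hx⟩
  obtain ⟨q, hq, d, hd, hqd⟩ : ∃ q ∈ Q, ∃ d ∈ Subgroup.centralizer (Q : Set G), q * d = r := by
    have h : r ∈ ((Q : Set G) * (Subgroup.centralizer (Q : Set G) : Set G)) := by
      rw [← Subgroup.coe_mul_of_left_le_normalizer_right Q (Subgroup.centralizer (Q : Set G))
        ((Subgroup.le_normalizer).trans (normalizer_le_normalizer_centralizer Q))]
      exact hrQC
    exact h
  subst hqd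
  have hdR : d ∈ R := by simpa using R.mul_mem (R.inv_mem (hQR hq)) hr
  have hcQ : c ∈ Subgroup.centralizer (Q : Set G) := centralizer_anti hQR hc
  obtain ⟨E, hE, hle⟩ := exists_isDefectGroup_ge hM he.2
    (P := (R ⊓ Subgroup.centralizer (Q : Set G)).subgroupOf (Subgroup.centralizer (Q : Set G)))
    (IsPGroup.comap_subtype (K := Subgroup.centralizer (Q : Set G)) (hR.to_le inf_le_left))
    (c := ⟨c, hcQ⟩)
    ((mem_centralizer_subgroupOf_iff inf_le_right _).2 (centralizer_anti inf_le_left hc))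
    (by rw [← bc_coe]; exact hne)
  have heq := Subgroup.eq_of_le_of_card_ge
    (show (Q ⊓ Subgroup.centralizer (Q : Set G)).subgroupOf (Subgroup.centralizer (Q : Set G))
      ≤ (R ⊓ Subgroup.centralizer (Q : Set G)).subgroupOf (Subgroup.centralizer (Q : Set G))
      from Subgroup.comap_mono (inf_le_inf_right _ hQR))
    ((Subgroup.card_le_of_le hle).trans (le_of_eq (by
      rw [card_defectGroup hM he.2 hE, card_defectGroup hM he.2 hD])))
  have hdZ : (⟨d, hd⟩ : Subgroup.centralizer (Q : Set G))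
      ∈ (Q ⊓ Subgroup.centralizer (Q : Set G)).subgroupOf (Subgroup.centralizer (Q : Set G)) := by
    rw [heq]; exact ⟨hdR, hd⟩
  exact Q.mul_mem hq hdZ.1

end CfsgLib.BrauerPairs
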