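import Cfsg.Agent.Lib.BrauerPairs.Conj

/-!
# Normal inclusion of Brauer pairs
-/

set_option autoImplicit false

namespace CfsgLib.BrauerPairs

open Cfsg CfsgLib.Blocks
open scoped Classical ComplexConjugate

variable {G : Type*} [Group G] [Fintype G] {p : ℕ} {M : Ideal AlgInt} {Q R P : Subgroup G}

omit [Fintype G] in
theorem centralizer_anti (h : Q ≤ P) :
    Subgroup.centralizer (P : Set G) ≤ Subgroup.centralizer (Q : Set G) :=
  Subgroup.centralizer_le h

theorem goodAt_bc (hM : IsPModular p M) (hQP : Q ≤ P)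
    {f : Set (IrrCharacter (Subgroup.centralizer (Q : Set G)))} (hf : IsPBlock M f)
    (hfix : ∀ u ∈ P, Fixes u (subgroupBlockCoeff (Subgroup.centralizer (Q : Set G)) f)) :
    GoodAt M P (subgroupBlockCoeff (Subgroup.centralizer (Q : Set G)) f) :=
  ⟨bc_LR hM hf, hfix, fun _ hu => bc_fixes_of_mem (centralizer_anti hQP hu) f⟩

theorem idemAt_bc (hM : IsPModular p M) (K : Subgroup G) (e : Set (IrrCharacter K))
    (P : Subgroup G) : IdemAt M P (subgroupBlockCoeff K e) := fun c _ => by
  rw [gconv_bc, Set.inter_self, sub_self]; exact LI.zero hM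

theorem goodAt_bc_self (hM : IsPModular p M)
    {e : Set (IrrCharacter (Subgroup.centralizer (P : Set G)))} (he : IsPBlock M e) :
    GoodAt M P (subgroupBlockCoeff (Subgroup.centralizer (P : Set G)) e) :=
  ⟨bc_LR hM he, fun u hu x => by
    by_cases hx : x ∈ Subgroup.centralizer (P : Set G)
    · rw [show u * x * u⁻¹ = x by
        rw [Subgroup.mem_centralizer_iff.1 hx u hu, mul_inv_cancel_right]]
    · rw [bc_of_notMem hx, bc_of_notMem]
      intro h
      refine hx ?_
      have h2 : u * x * u⁻¹ = x := by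
        have h1 := Subgroup.mem_centralizer_iff.1 h u hu
        have h3 := congrArg (fun z => u⁻¹ * z) h1
        simpa [mul_assoc] using h3
      rwa [h2] at h,
    fun _ hu => bc_fixes_of_mem hu e⟩

theorem brauerOmega_bc_self (ξ : IrrCharacter (Subgroup.centralizer (P : Set G)))
    (e : Set (IrrCharacter (Subgroup.centralizer (P : Set G)))) :
    brauerOmega P (subgroupBlockCoeff (Subgroup.centralizer (P : Set G)) e) (ξ : _ → ℂ)
      = blockInd e ξ := by
  rw [brauerOmega_eq_omega, ← omega_blockCoeff]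
  exact congrArg _ (funext fun c => bc_coe _ e c)

/-- An idempotent at `R` with value one at the block `g` fixes the idempotent of `g` on `C(R)`. -/
theorem gconv_bc_congr (hM : IsPModular p M) (hR : IsPGroup p R) {β : G → ℂ}
    (hβ : GoodAt M R β) (hi : IdemAt M R β)
    {g : Set (IrrCharacter (Subgroup.centralizer (R : Set G)))} (hg : IsPBlock M g)
    (h1 : ∀ ξ ∈ g, MemLocalIdeal M (brauerOmega R β (ξ : _ → ℂ) - 1))
    {c : G} (hc : c ∈ Subgroup.centralizer (R : Set G)) :
    MemLocalIdeal M (gconv β (subgroupBlockCoeff (Subgroup.centralizer (R : Set G)) g) c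
      - subgroupBlockCoeff (Subgroup.centralizer (R : Set G)) g c) := by
  set w : (Subgroup.centralizer (R : Set G)) → ℂ := fun x => β x
  have hwi : ∀ x : (Subgroup.centralizer (R : Set G)), MemLocalIdeal M (gconv w w x - w x) := fun x =>
    LI.trans hM (LI.sub_comm (gconv_congr_res hM hR hβ hβ x)) (hi _ x.2)
  have h := gconv_blockCoeff_of_omega_one hM hβ.res_isClassFunction (fun x => hβ.lr _) hwi hg
    (fun ψ hψ => by rw [← brauerOmega_eq_omega]; exact h1 ψ hψ) (⟨c, hc⟩ : (Subgroup.centralizer (R : Set G)))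
  have e : gconv β (subgroupBlockCoeff (Subgroup.centralizer (R : Set G)) g) c = gconv w (blockCoeff g) (⟨c, hc⟩ : (Subgroup.centralizer (R : Set G))) := by
    simp only [gconv]
    rw [← Finset.sum_filter_of_ne (p := fun x : G => x ∈ (Subgroup.centralizer (R : Set G))) fun x _ hx => by
      by_contra hxK
      exact hx (by rw [bc_of_notMem (g := x⁻¹ * c) fun h' => hxK (by
        simpa using (Subgroup.centralizer (R : Set G)).inv_mem ((Subgroup.centralizer (R : Set G)).mul_mem h' ((Subgroup.centralizer (R : Set G)).inv_mem hc))), mul_zero])]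
    rw [Finset.sum_subtype _ (p := fun x : G => x ∈ (Subgroup.centralizer (R : Set G))) (fun x => by simp)]
    refine Finset.sum_congr rfl fun x _ => ?_
    rw [bc_of_mem ((Subgroup.centralizer (R : Set G)).mul_mem ((Subgroup.centralizer (R : Set G)).inv_mem x.2) hc)]
    rfl
  rw [e, bc_of_mem hc]
  exact h

theorem isNormalSubpair_iff {f : Set (IrrCharacter (Subgroup.centralizer (Q : Set G)))}
    {e : Set (IrrCharacter (Subgroup.centralizer (P : Set G)))} :
    IsNormalSubpair p M Q f P e ↔ IsBrauerPair p M Q f ∧ IsBrauerPair p M P e ∧ Q ≤ P ∧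
      P ≤ Subgroup.normalizer (Q : Set G) ∧
      (∀ x ∈ P, Fixes x (subgroupBlockCoeff (Subgroup.centralizer (Q : Set G)) f)) ∧
      ∀ ξ ∈ e, MemLocalIdeal M
        (brauerOmega P (subgroupBlockCoeff (Subgroup.centralizer (Q : Set G)) f) (ξ : _ → ℂ) - 1) := by
  refine and_congr_right fun _ => and_congr_right fun _ => and_congr_right fun _ =>
    and_congr_right fun hN => and_congr ?_ Iff.rfl
  exact forall₂_congr fun x hx => (stabilizesBlock_iff _ f x).trans
    (and_iff_right (normalizer_le_normalizer_centralizer Q (hN hx)))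

theorem brauerPair_le (hQP : Q ≤ P) {e : Set (IrrCharacter (Subgroup.centralizer (P : Set G)))}
    (he : IsBrauerPair p M P e) : IsPGroup p Q := he.1.to_le hQP

/-- Among the blocks of `C(Q)`, exactly one lies normally below a given pair on `P`. -/
theorem existsUnique_normal (hM : IsPModular p M) (hQP : Q ≤ P)
    (hPN : P ≤ Subgroup.normalizer (Q : Set G))
    {e : Set (IrrCharacter (Subgroup.centralizer (P : Set G)))} (he : IsBrauerPair p M P e) :
    ∃! f : Set (IrrCharacter (Subgroup.centralizer (Q : Set G))),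
      IsNormalSubpair p M Q f P e := by
  set K := Subgroup.centralizer (Q : Set G)
  have hCK : Subgroup.centralizer (P : Set G) ≤ K := centralizer_anti hQP
  obtain ⟨ξ, hξ⟩ := IsPBlock.nonempty hM he.2
  let Φ := {β : G → ℂ // ∃ f, IsPBlock M f ∧ subgroupBlockCoeff K f = β}
  let e₀ : {f // f ∈ blockSet M K} ≃ Φ := Equiv.ofBijective
    (fun f => ⟨subgroupBlockCoeff K f.1, f.1, mem_blockSet.1 f.2, rfl⟩)
    ⟨fun f f' h => Subtype.ext (bc_injective K (congrArg Subtype.val h)),
      fun β => by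
        obtain ⟨f, hf, h⟩ := β.2
        exact ⟨⟨f, mem_blockSet.2 hf⟩, Subtype.ext h⟩⟩
  haveI : Fintype Φ := Fintype.ofEquiv _ e₀
  have hmove : ∀ u ∈ P, ∀ β : G → ℂ, (∃ f, IsPBlock M f ∧ subgroupBlockCoeff K f = β) →
      ∃ f, IsPBlock M f ∧ subgroupBlockCoeff K f = fun x => β (u⁻¹ * x * u) := by
    rintro u hu β ⟨f, hf, rfl⟩
    have hN := normalizer_le_normalizer_centralizer Q
      (Subgroup.inv_mem _ (hPN hu) : u⁻¹ ∈ Subgroup.normalizer (Q : Set G))
    refine ⟨irrEquiv (conjIso u⁻¹ (mem_iff_of_normalizer hN)) '' f, isPBlock_image _ hf,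
      funext fun x => ?_⟩
    rw [bc_image_conjIso, inv_inv]
  letI act : MulAction P Φ :=
    { smul := fun u β => ⟨fun x => β.1 ((u : G)⁻¹ * x * u), hmove u u.2 β.1 β.2⟩
      one_smul := fun β => Subtype.ext (funext fun x => by
        show β.1 (((1 : P) : G)⁻¹ * x * ((1 : P) : G)) = β.1 x
        simp)
      mul_smul := fun u v β => Subtype.ext (funext fun x => by
        show β.1 (((u * v : P) : G)⁻¹ * x * ((u * v : P) : G))
          = β.1 ((v : G)⁻¹ * ((u : G)⁻¹ * x * u) * v)
        simp [mul_assoc]) }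
  have hcl : ∀ β : Φ, IsClassFunction (Subgroup.centralizer (P : Set G))
      (fun c : Subgroup.centralizer (P : Set G) => β.1 c) := by
    intro β x y
    obtain ⟨f, hf, hβ⟩ := β.2
    simp only [← hβ]
    exact bc_fixes_of_mem (hCK y.2) f x
  have hlr : ∀ β : Φ, ∀ x, MemLocalRing M (β.1 x) := by
    intro β x
    obtain ⟨f, hf, hβ⟩ := β.2
    rw [← hβ]; exact bc_LR hM hf x
  have h1 := sum_congr_fixedPoints hM he.1 (fun β : Φ => brauerOmega P β.1 (ξ : _ → ℂ))
    (fun β => by rw [brauerOmega_eq_omega]; exact omega_LR hM ξ (hcl β) fun c => hlr β _)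
    (fun u β => by
      simp only [brauerOmega_eq_omega]
      refine congrArg _ (funext fun c => ?_)
      show β.1 ((u : G)⁻¹ * (c : G) * u) = β.1 c
      rw [Subgroup.mem_centralizer_iff.1 c.2 _ (P.inv_mem u.2), inv_mul_cancel_right])
  have htot : ∑ β : Φ, brauerOmega P β.1 (ξ : _ → ℂ) = 1 := by
    rw [← brauerOmega_sum]
    refine (congrArg (brauerOmega P · (ξ : _ → ℂ)) (funext fun x => ?_)).trans (brauerOmega_delta ξ)
    rw [← sum_bc hM K x, ← Finset.sum_coe_sort (blockSet M K)]
    exact (Fintype.sum_equiv e₀ _ _ fun f => rfl).symm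
  rw [htot] at h1
  obtain ⟨β, hβfix, hβ⟩ : ∃ β : Φ, β ∈ MulAction.fixedPoints P Φ ∧
      ¬ MemLocalIdeal M (brauerOmega P β.1 (ξ : _ → ℂ)) := by
    by_contra hcon
    push Not at hcon
    have h2 := LI.add hM h1 (LI.sum hM
      (s := Finset.univ.filter fun β : Φ => β ∈ MulAction.fixedPoints P Φ) fun β hβ =>
        hcon β (Finset.mem_filter.1 hβ).2)
    rw [sub_add_cancel] at h2
    exact LI.not_one hM h2
  obtain ⟨f, hf, hfβ⟩ := β.2
  have hfix : ∀ u ∈ P, Fixes u (subgroupBlockCoeff K f) := by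
    intro u hu x
    rw [hfβ]
    have h2 := congrFun (congrArg Subtype.val (hβfix ⟨u⁻¹, P.inv_mem hu⟩)) x
    change β.1 ((u⁻¹)⁻¹ * x * u⁻¹) = β.1 x at h2
    rwa [inv_inv] at h2
  have hgood : GoodAt M P (subgroupBlockCoeff K f) := goodAt_bc hM hQP hf hfix
  have hone : MemLocalIdeal M (brauerOmega P (subgroupBlockCoeff K f) (ξ : _ → ℂ) - 1) :=
    (brauerOmega_idem ξ hM he.1 hgood (idemAt_bc hM K f P)).resolve_left (by rw [hfβ]; exact hβ)
  have hNS : IsNormalSubpair p M Q f P e := isNormalSubpair_iff.2 ⟨⟨he.1.to_le hQP, hf⟩, he, hQP,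
    hPN, hfix, fun η hη => LI.trans hM
      (brauerOmega_sameBlock η hM hgood (IsPBlock.sameBlock hM he.2 hη hξ)) hone⟩
  refine ⟨f, hNS, fun f' hf' => ?_⟩
  obtain ⟨⟨-, hb'⟩, -, -, -, hfix', hone'⟩ := isNormalSubpair_iff.1 hf'
  by_contra hne
  have hgood' := goodAt_bc hM hQP hb' hfix'
  have hempty : f' ∩ f = ∅ := Set.eq_empty_of_forall_notMem fun χ hχ =>
    hne (IsPBlock.eq_of_mem hM hb' hf hχ.1 hχ.2)
  have hz : MemLocalIdeal M (brauerOmega P
      (gconv (subgroupBlockCoeff K f') (subgroupBlockCoeff K f)) (ξ : _ → ℂ)) :=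
    brauerOmega_LI ξ hM (hgood'.gconv hM hgood) fun c _ => by
      rw [gconv_bc, hempty]
      by_cases hc : c ∈ K
      · rw [bc_of_mem hc, blockCoeff_empty]; exact LI.zero hM
      · rw [bc_of_notMem hc]; exact LI.zero hM
  have h2 := LI.sub hM hz (brauerOmega_gconv ξ hM he.1 hgood' hgood)
  rw [sub_sub_cancel] at h2
  refine LI.not_one hM ?_
  have h4 := LI.add hM (LI.mul_left hM (brauerOmega_LR ξ hM hgood') hone) (hone' ξ hξ)
  have h3 := LI.sub hM h2 h4
  convert h3 using 1
  ring

/-- Transitivity of normal inclusion inside a normalizer. -/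
theorem isNormalSubpair_trans (hM : IsPModular p M)
    {f : Set (IrrCharacter (Subgroup.centralizer (Q : Set G)))}
    {g : Set (IrrCharacter (Subgroup.centralizer (R : Set G)))}
    {e : Set (IrrCharacter (Subgroup.centralizer (P : Set G)))}
    (h1 : IsNormalSubpair p M Q f R g) (h2 : IsNormalSubpair p M R g P e)
    (hPN : P ≤ Subgroup.normalizer (Q : Set G)) : IsNormalSubpair p M Q f P e := by
  obtain ⟨hQf, hRg, hQR, hRN, hfR, hf1⟩ := isNormalSubpair_iff.1 h1
  obtain ⟨-, hPe, hRP, hPR, hgP, hg1⟩ := isNormalSubpair_iff.1 h2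
  have hfP : ∀ u ∈ P, Fixes u (subgroupBlockCoeff (Subgroup.centralizer (Q : Set G)) f) := by
    intro u hu
    have hNK := normalizer_le_normalizer_centralizer Q (hPN hu)
    have hNL := normalizer_le_normalizer_centralizer R (hPR hu)
    set f' := irrEquiv (conjIso u (mem_iff_of_normalizer hNK)) '' f with hf'
    have hbc : ∀ x, subgroupBlockCoeff (Subgroup.centralizer (Q : Set G)) f' x = subgroupBlockCoeff (Subgroup.centralizer (Q : Set G)) f (u * x * u⁻¹) :=
      fun x => bc_image_conjIso u (mem_iff_of_normalizer hNK) f x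
    have hfR' : ∀ r ∈ R, Fixes r (subgroupBlockCoeff (Subgroup.centralizer (Q : Set G)) f') := by
      intro r hr x
      rw [hbc, hbc]
      have hr' : u * r * u⁻¹ ∈ R := (Subgroup.mem_normalizer_iff.1 (hPR hu) r).1 hr
      have := hfR _ hr' (u * x * u⁻¹)
      simpa [mul_assoc] using this
    have hN : IsNormalSubpair p M Q f' R g := isNormalSubpair_iff.2
      ⟨⟨hQf.1, isPBlock_image _ hQf.2⟩, hRg, hQR, hRN, hfR', fun η hη => ?_⟩
    · have := (existsUnique_normal hM hQR hRN hRg).unique hN h1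
      intro x
      rw [← hbc, this]
    have hst : StabilizesBlock (Subgroup.centralizer (R : Set G)) g u := (stabilizesBlock_iff (Subgroup.centralizer (R : Set G)) g u).2 ⟨hNL, hgP u hu⟩
    obtain ⟨η', hη', hc⟩ := hst.2 η hη
    have key : brauerOmega R (subgroupBlockCoeff (Subgroup.centralizer (Q : Set G)) f') (η : _ → ℂ)
        = brauerOmega R (subgroupBlockCoeff (Subgroup.centralizer (Q : Set G)) f) (η' : _ → ℂ) := by
      simp only [brauerOmega_eq_omega, omega]
      congr 1
      · refine Fintype.sum_equiv (conjIso u (mem_iff_of_normalizer hNL)).toEquiv _ _ fun k => ?_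
        show subgroupBlockCoeff (Subgroup.centralizer (Q : Set G)) f' (k : G) * (η : (Subgroup.centralizer (R : Set G)) → ℂ) k
          = subgroupBlockCoeff (Subgroup.centralizer (Q : Set G)) f (u * (k : G) * u⁻¹) * _
        rw [hbc]
        exact congrArg _ (hc k _ rfl).symm
      · exact (hc 1 1 (by simp)).symm
    rw [key]; exact hf1 η' hη'
  refine isNormalSubpair_iff.2 ⟨hQf, hPe, hQR.trans hRP, hPN, hfP, fun ξ hξ => ?_⟩
  have hβP := goodAt_bc hM (hQR.trans hRP) hQf.2 hfP
  have hγP := goodAt_bc hM hRP hRg.2 hgP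
  have hcong : MemLocalIdeal M (brauerOmega P
      (gconv (subgroupBlockCoeff (Subgroup.centralizer (Q : Set G)) f) (subgroupBlockCoeff (Subgroup.centralizer (R : Set G)) g)) (ξ : _ → ℂ)
        - brauerOmega P (subgroupBlockCoeff (Subgroup.centralizer (R : Set G)) g) (ξ : _ → ℂ)) :=
    brauerOmega_congr ξ hM (hβP.gconv hM hγP) hγP fun c hc =>
      gconv_bc_congr hM hRg.1 (goodAt_bc hM hQR hQf.2 hfR) (idemAt_bc hM (Subgroup.centralizer (Q : Set G)) f R) hRg.2 hf1
        (centralizer_anti hRP hc)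
  have hm := brauerOmega_gconv ξ hM hPe.1 hβP hγP
  have hg := hg1 ξ hξ
  set a := brauerOmega P (subgroupBlockCoeff (Subgroup.centralizer (Q : Set G)) f) (ξ : _ → ℂ)
  set b := brauerOmega P (subgroupBlockCoeff (Subgroup.centralizer (R : Set G)) g) (ξ : _ → ℂ)
  set t := brauerOmega P (gconv (subgroupBlockCoeff (Subgroup.centralizer (Q : Set G)) f) (subgroupBlockCoeff (Subgroup.centralizer (R : Set G)) g)) (ξ : _ → ℂ)
  have := LI.sub hM (LI.sub hM (LI.add hM hcong hg) hm)
    (LI.mul_left hM (brauerOmega_LR ξ hM hβP) hg)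
  convert this using 1
  ring

end CfsgLib.BrauerPairs
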