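import Cfsg.Agent.Lib.BrauerPairs.Subpair
import Cfsg.Agent.Lib.Blocks.CoverBasics

/-!
# Brauer pairs and normal subgroups of `p`-power index
-/

set_option autoImplicit false

namespace CfsgLib.BrauerPairs.PExtension

open Cfsg CfsgLib.Blocks CfsgLib.Blocks.FongReynolds CfsgLib.BrauerPairs CfsgLib.CharDeep.Clifford
open scoped Classical ComplexConjugate

variable {G : Type*} [Group G] [Fintype G] {p : ℕ} {M : Ideal AlgInt} {N : Subgroup G} [N.Normal]

theorem mem_of_regular (hp : p.Prime) (hN : ∃ k : ℕ, N.index = p ^ k) {x : G}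
    (hx : IsPRegular p x) : x ∈ N := by
  obtain ⟨k, hk⟩ := hN
  rw [← QuotientGroup.eq_one_iff, ← orderOf_eq_one_iff]
  have h1 : orderOf (x : G ⧸ N) ∣ p ^ k := hk ▸ orderOf_dvd_natCard _
  have h2 : orderOf (x : G ⧸ N) ∣ orderOf x := orderOf_map_dvd (QuotientGroup.mk' N) x
  have h3 : Nat.Coprime (orderOf x) (p ^ k) :=
    (Nat.Coprime.pow_right k (hp.coprime_iff_not_dvd.2 hx).symm)
  exact Nat.eq_one_of_dvd_coprimes h3 h2 h1

variable (R₀ : Subgroup N)

theorem coe_mem_centralizer_map (n : N) :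
    (n : G) ∈ Subgroup.centralizer ((R₀.map N.subtype : Subgroup G) : Set G)
      ↔ n ∈ Subgroup.centralizer (R₀ : Set N) := by
  simp [Subgroup.mem_centralizer_iff, Subtype.ext_iff]

/-- `C_G(R) ∩ N` read inside `C_G(R)` and inside `N`. -/
def capIso :
    N.subgroupOf (Subgroup.centralizer ((R₀.map N.subtype : Subgroup G) : Set G))
      ≃* Subgroup.centralizer (R₀ : Set N) where
  toFun l := ⟨⟨((l : Subgroup.centralizer ((R₀.map N.subtype : Subgroup G) : Set G)) : G), l.2⟩,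
    (coe_mem_centralizer_map R₀ _).1 l.1.2⟩
  invFun k := ⟨⟨((k : N) : G), (coe_mem_centralizer_map R₀ _).2 k.2⟩, (k : N).2⟩
  left_inv _ := rfl
  right_inv _ := rfl
  map_mul' _ _ := rfl


/-- A character of `C_G(R)` lies over a character of `C_N(R)`. -/
def Over (χ : IrrCharacter (Subgroup.centralizer ((R₀.map N.subtype : Subgroup G) : Set G))) (θ : IrrCharacter (Subgroup.centralizer (R₀ : Set N))) : Prop :=
  classInner (fun l : N.subgroupOf (Subgroup.centralizer ((R₀.map N.subtype : Subgroup G) : Set G)) => (χ : (Subgroup.centralizer ((R₀.map N.subtype : Subgroup G) : Set G)) → ℂ) l)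
    (irrEquiv (capIso R₀) θ : N.subgroupOf (Subgroup.centralizer ((R₀.map N.subtype : Subgroup G) : Set G)) → ℂ) ≠ 0

theorem index_cap (hp : p.Prime) (hN : ∃ k : ℕ, N.index = p ^ k) :
    ∃ k : ℕ, (N.subgroupOf (Subgroup.centralizer ((R₀.map N.subtype : Subgroup G) : Set G))).index = p ^ k := by
  obtain ⟨k, hk⟩ := hN
  have h : N.relIndex (Subgroup.centralizer ((R₀.map N.subtype : Subgroup G) : Set G)) ∣ p ^ k := hk ▸ Subgroup.relIndex_dvd_index_of_normal N (Subgroup.centralizer ((R₀.map N.subtype : Subgroup G) : Set G))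
  obtain ⟨i, -, hi⟩ := (Nat.dvd_prime_pow hp).1 h
  exact ⟨i, hi⟩

variable {R₀} {b : Set (IrrCharacter (Subgroup.centralizer (R₀ : Set N)))} {f : Set (IrrCharacter (Subgroup.centralizer ((R₀.map N.subtype : Subgroup G) : Set G)))}

theorem exists_above (hM : IsPModular p M) (hb : IsPBlock M b) (hf : IsPBlock M f)
    (hcov : ∃ χ ∈ f, ∃ θ ∈ b, Over R₀ χ θ) {θ : IrrCharacter (Subgroup.centralizer (R₀ : Set N))} (hθ : θ ∈ b) :
    ∃ χ ∈ f, Over R₀ χ θ :=
  CoverBasics.exists_over_mem hM hf (isPBlock_image (capIso R₀) hb)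
    (by
      obtain ⟨χ, hχ, θ', hθ', h⟩ := hcov
      exact ⟨χ, hχ, _, Set.mem_image_of_mem _ hθ', h⟩)
    (Set.mem_image_of_mem _ hθ)

theorem exists_below (hM : IsPModular p M) (hb : IsPBlock M b) (hf : IsPBlock M f)
    (hcov : ∃ χ ∈ f, ∃ θ ∈ b, Over R₀ χ θ) {χ : IrrCharacter (Subgroup.centralizer ((R₀.map N.subtype : Subgroup G) : Set G))} (hχ : χ ∈ f) :
    ∃ θ ∈ b, Over R₀ χ θ := by
  obtain ⟨χ₀, hχ₀, θ₀, hθ₀, h⟩ := hcov
  obtain ⟨_, ⟨θ, hθ, rfl⟩, h'⟩ := CoverBasics.exists_over_of_sameBlock' hM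
    (isPBlock_image (capIso R₀) hb) (Set.mem_image_of_mem _ hθ₀) h
    (IsPBlock.sameBlock hM hf hχ₀ hχ)
  exact ⟨θ, hθ, h'⟩

variable {B : Set (IrrCharacter G)} {c : Set (IrrCharacter N)}

theorem brauerOmega_eq (hBc : ∀ g : G, blockCoeff B g = subgroupBlockCoeff N c g)
    {χ : IrrCharacter (Subgroup.centralizer ((R₀.map N.subtype : Subgroup G) : Set G))} {θ : IrrCharacter (Subgroup.centralizer (R₀ : Set N))} (h : Over R₀ χ θ) :
    brauerOmega (R₀.map N.subtype) (blockCoeff B) (χ : (Subgroup.centralizer ((R₀.map N.subtype : Subgroup G) : Set G)) → ℂ)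
      = brauerOmega R₀ (blockCoeff c) (θ : (Subgroup.centralizer (R₀ : Set N)) → ℂ) := by
  rw [brauerOmega_eq_omega, brauerOmega_eq_omega]
  set u : N.subgroupOf (Subgroup.centralizer ((R₀.map N.subtype : Subgroup G) : Set G)) → ℂ := fun l => blockCoeff B ((l : (Subgroup.centralizer ((R₀.map N.subtype : Subgroup G) : Set G))) : G)
  have e : (fun x : (Subgroup.centralizer ((R₀.map N.subtype : Subgroup G) : Set G)) => blockCoeff B x)
      = fun x => if hx : x ∈ N.subgroupOf (Subgroup.centralizer ((R₀.map N.subtype : Subgroup G) : Set G)) then u ⟨x, hx⟩ else 0 := by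
    funext x
    split_ifs with hx
    · rfl
    · rw [hBc, bc_of_notMem (show (x : G) ∉ N from hx)]
  rw [e, omega_extend, omega_eq_of_over h (f := u) fun g l => by
    show blockCoeff B _ = blockCoeff B _
    rw [MulAut.conjNormal_apply]
    exact blockCoeff_isClassFunction B _ _]
  rw [omega, omega, irrEquiv_apply, map_one]
  congr 1
  refine Fintype.sum_equiv (capIso R₀).toEquiv _ _ fun l => ?_
  show blockCoeff B ((l : (Subgroup.centralizer ((R₀.map N.subtype : Subgroup G) : Set G))) : G) * _ = blockCoeff c _ * _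
  rw [hBc, bc_of_mem (show ((l : (Subgroup.centralizer ((R₀.map N.subtype : Subgroup G) : Set G))) : G) ∈ N from l.2)]
  rfl

theorem pair_iff (hM : IsPModular p M) (hB : IsPBlock M B) (hc : IsPBlock M c)
    (hBc : ∀ g : G, blockCoeff B g = subgroupBlockCoeff N c g) (hR : IsPGroup p R₀)
    (hb : IsPBlock M b) (hf : IsPBlock M f) (hcov : ∃ χ ∈ f, ∃ θ ∈ b, Over R₀ χ θ) :
    IsBrauerPairOf p M B (R₀.map N.subtype) f ↔ IsBrauerPairOf p M c R₀ b := by
  refine ⟨fun h => ⟨⟨hR, hb⟩, hc, fun θ hθ => ?_⟩, fun h => ⟨⟨hR.map _, hf⟩, hB, fun χ hχ => ?_⟩⟩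
  · obtain ⟨χ, hχ, ho⟩ := exists_above hM hb hf hcov hθ
    rw [← brauerOmega_eq hBc ho]
    exact h.2.2 χ hχ
  · obtain ⟨θ, hθ, ho⟩ := exists_below hM hb hf hcov hχ
    rw [brauerOmega_eq hBc ho]
    exact h.2.2 θ hθ

theorem normalizer_map_iff (y : N) :
    (y : G) ∈ Subgroup.normalizer ((R₀.map N.subtype : Subgroup G) : Set G)
      ↔ y ∈ Subgroup.normalizer (R₀ : Set N) := by
  have hm : ∀ m : N, (m : G) ∈ R₀.map N.subtype ↔ m ∈ R₀ := fun m => by simp
  constructor
  · intro h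
    refine Subgroup.mem_normalizer_iff.2 fun n => ?_
    rw [← hm, ← hm]
    exact Subgroup.mem_normalizer_iff.1 h n
  · intro h
    refine Subgroup.mem_normalizer_iff.2 fun g => ⟨?_, ?_⟩
    · rintro ⟨n, hn, rfl⟩
      exact (hm (y * n * y⁻¹)).2 ((Subgroup.mem_normalizer_iff.1 h n).1 hn)
    · rintro ⟨n, hn, hng⟩
      have hg : g ∈ N := by
        rw [show g = (y : G)⁻¹ * (y * g * (y : G)⁻¹) * y by simp [mul_assoc], ← hng]
        exact N.mul_mem (N.mul_mem (N.inv_mem y.2) n.2) y.2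
      refine (hm ⟨g, hg⟩).2 ((Subgroup.mem_normalizer_iff.1 h ⟨g, hg⟩).2 ?_)
      rwa [show y * ⟨g, hg⟩ * y⁻¹ = n from Subtype.ext hng.symm]

theorem conj_mem_iff {y : G}
    (hy : y ∈ Subgroup.normalizer ((R₀.map N.subtype : Subgroup G) : Set G)) (x : G) :
    y * x * y⁻¹ ∈ (Subgroup.centralizer ((R₀.map N.subtype : Subgroup G) : Set G)) ↔ x ∈ (Subgroup.centralizer ((R₀.map N.subtype : Subgroup G) : Set G)) :=
  mem_iff_of_normalizer (normalizer_le_normalizer_centralizer _ hy) x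

theorem conj_mem_iff' (y : N) (hy : y ∈ Subgroup.normalizer (R₀ : Set N)) (x : N) :
    y * x * y⁻¹ ∈ (Subgroup.centralizer (R₀ : Set N)) ↔ x ∈ (Subgroup.centralizer (R₀ : Set N)) :=
  mem_iff_of_normalizer (normalizer_le_normalizer_centralizer _ hy) x

/-- Conjugation preserves the relation `Over`. -/
theorem over_conj (y : N) (hy : y ∈ Subgroup.normalizer (R₀ : Set N)) {χ : IrrCharacter (Subgroup.centralizer ((R₀.map N.subtype : Subgroup G) : Set G))}
    {θ : IrrCharacter (Subgroup.centralizer (R₀ : Set N))} (h : Over R₀ χ θ) :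
    Over R₀ (irrEquiv (conjIso (y : G) (conj_mem_iff ((normalizer_map_iff y).2 hy))) χ)
      (irrEquiv (conjIso y (conj_mem_iff' y hy)) θ) := by
  have e : ∀ l : N.subgroupOf (Subgroup.centralizer ((R₀.map N.subtype : Subgroup G) : Set G)),
      conjIso (y : G) (conj_mem_iff ((normalizer_map_iff y).2 hy)) (l : (Subgroup.centralizer ((R₀.map N.subtype : Subgroup G) : Set G))) ∈ N.subgroupOf (Subgroup.centralizer ((R₀.map N.subtype : Subgroup G) : Set G)) :=
    fun l => N.mul_mem (N.mul_mem y.2 l.2) (N.inv_mem y.2)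
  set φ : N.subgroupOf (Subgroup.centralizer ((R₀.map N.subtype : Subgroup G) : Set G)) ≃* N.subgroupOf (Subgroup.centralizer ((R₀.map N.subtype : Subgroup G) : Set G)) :=
    (capIso R₀).trans ((conjIso y (conj_mem_iff' y hy)).trans (capIso R₀).symm)
  unfold Over at h ⊢
  rwa [show classInner
      (fun l : N.subgroupOf (Subgroup.centralizer ((R₀.map N.subtype : Subgroup G) : Set G)) => (irrEquiv (conjIso (y : G)
        (conj_mem_iff ((normalizer_map_iff y).2 hy))) χ : (Subgroup.centralizer ((R₀.map N.subtype : Subgroup G) : Set G)) → ℂ) l)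
      (irrEquiv (capIso R₀) (irrEquiv (conjIso y (conj_mem_iff' y hy)) θ) : N.subgroupOf (Subgroup.centralizer ((R₀.map N.subtype : Subgroup G) : Set G)) → ℂ)
    = classInner (fun l : N.subgroupOf (Subgroup.centralizer ((R₀.map N.subtype : Subgroup G) : Set G)) => (χ : (Subgroup.centralizer ((R₀.map N.subtype : Subgroup G) : Set G)) → ℂ) l)
      (irrEquiv (capIso R₀) θ : N.subgroupOf (Subgroup.centralizer ((R₀.map N.subtype : Subgroup G) : Set G)) → ℂ) from ?_]
  unfold classInner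
  congr 1
  exact Fintype.sum_equiv φ.toEquiv _ _ fun l => rfl

/-- If the block of `C_G(R)` over a block `b` of `C_N(R)` is unique, it is fixed by the
stabilizer of `b`. -/
theorem stabilizes_cover (hM : IsPModular p M) (hN : ∃ k : ℕ, N.index = p ^ k)
    (hb : IsPBlock M b) (hf : IsPBlock M f) (hcov : ∃ χ ∈ f, ∃ θ ∈ b, Over R₀ χ θ) {y : N}
    (hy : y ∈ Subgroup.normalizer (R₀ : Set N)) (hst : StabilizesBlock (Subgroup.centralizer (R₀ : Set N)) b y) :
    StabilizesBlock (Subgroup.centralizer ((R₀.map N.subtype : Subgroup G) : Set G)) f (y : G) := by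
  have hyG := (normalizer_map_iff y).2 hy
  refine (stabilizesBlock_iff _ _ _).2 ⟨normalizer_le_normalizer_centralizer _ hyG, ?_⟩
  have hfix := ((stabilizesBlock_iff _ _ _).1 hst).2
  have hbeq : irrEquiv (conjIso y (conj_mem_iff' y hy)) '' b = b :=
    bc_injective (Subgroup.centralizer (R₀ : Set N)) (funext fun z => by
      show subgroupBlockCoeff _ _ z = subgroupBlockCoeff _ _ z
      rw [bc_image_conjIso y (conj_mem_iff' y hy) b z, hfix z])
  have hfeq : irrEquiv (conjIso (y : G) (conj_mem_iff hyG)) '' f = f := by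
    obtain ⟨χ, hχ, θ, hθ, h⟩ := hcov
    refine (CoverBasics.existsUnique_cover hM (index_cap R₀ hM.1 hN)
      (isPBlock_image (capIso R₀) hb)).unique
      ⟨isPBlock_image _ hf, _, Set.mem_image_of_mem _ hχ,
        _, Set.mem_image_of_mem _ (hbeq ▸ Set.mem_image_of_mem _ hθ), over_conj y hy h⟩
      ⟨hf, χ, hχ, _, Set.mem_image_of_mem _ hθ, h⟩
  intro z
  rw [← bc_image_conjIso (y : G) (conj_mem_iff hyG) f z, hfeq]

/-- An element fixing a block `f` of `C_G(R)` moves, up to `C_G(R)`, a covered block to itself. -/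
theorem exists_fix_covered (hM : IsPModular p M) (hb : IsPBlock M b) (hf : IsPBlock M f)
    (hcov : ∃ χ ∈ f, ∃ θ ∈ b, Over R₀ χ θ) {y : N}
    (hy : y ∈ Subgroup.normalizer (R₀ : Set N)) (hst : StabilizesBlock (Subgroup.centralizer ((R₀.map N.subtype : Subgroup G) : Set G)) f (y : G)) :
    ∃ g : G, g ∈ (Subgroup.centralizer ((R₀.map N.subtype : Subgroup G) : Set G)) ∧ Fixes ((y : G) * g)
      (fun z => if hz : z ∈ N then subgroupBlockCoeff (Subgroup.centralizer (R₀ : Set N)) b ⟨z, hz⟩ else 0) := by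
  have hyG := (normalizer_map_iff y).2 hy
  have hfeq : irrEquiv (conjIso (y : G) (conj_mem_iff hyG)) '' f = f :=
    bc_injective (Subgroup.centralizer ((R₀.map N.subtype : Subgroup G) : Set G)) (funext fun z => by
      show subgroupBlockCoeff _ _ z = subgroupBlockCoeff _ _ z
      rw [bc_image_conjIso (y : G) (conj_mem_iff hyG) f z, ((stabilizesBlock_iff _ _ _).1 hst).2 z])
  obtain ⟨χ, hχ, θ, hθ, h⟩ := hcov
  set χ' := irrEquiv (conjIso (y : G) (conj_mem_iff hyG)) χ
  set θ' := irrEquiv (conjIso y (conj_mem_iff' y hy)) θ with hθ'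
  have hχ' : χ' ∈ f := hfeq ▸ Set.mem_image_of_mem _ hχ
  have h' : Over R₀ χ' θ' := over_conj y hy h
  obtain ⟨θ₁, hθ₁, h₁⟩ := exists_below hM hb hf ⟨χ, hχ, θ, hθ, h⟩ hχ'
  obtain ⟨g, hg⟩ := exists_conj_of_constituent (N := N.subgroupOf (Subgroup.centralizer ((R₀.map N.subtype : Subgroup G) : Set G))) χ'.2
    (irrEquiv (capIso R₀) θ₁).2 (irrEquiv (capIso R₀) θ').2 h₁ h'
  set L := N.subgroupOf (Subgroup.centralizer ((R₀.map N.subtype : Subgroup G) : Set G))
  set b' := irrEquiv (capIso R₀) '' b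
  set b'' := irrEquiv (capIso R₀) '' (irrEquiv (conjIso y (conj_mem_iff' y hy)) '' b)
  have hb' : IsPBlock M b' := isPBlock_image _ hb
  have hb'' : IsPBlock M b'' := isPBlock_image _ (isPBlock_image _ hb)
  set κ : L ≃* L := (MulAut.conjNormal g : MulAut L)
  have himg : b'' = irrEquiv κ '' b' := by
    refine IsPBlock.eq_of_mem hM hb'' (isPBlock_image κ hb')
      (Set.mem_image_of_mem _ (Set.mem_image_of_mem _ hθ))
      ⟨irrEquiv (capIso R₀) θ₁, Set.mem_image_of_mem _ hθ₁, Subtype.ext hg.symm⟩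
  refine ⟨(g : G)⁻¹, (Subgroup.centralizer ((R₀.map N.subtype : Subgroup G) : Set G)).inv_mem g.2, ?_⟩
  have hsupp : ∀ (z : G) (hz : z ∈ N), z ∉ (Subgroup.centralizer ((R₀.map N.subtype : Subgroup G) : Set G)) → subgroupBlockCoeff (Subgroup.centralizer (R₀ : Set N)) b ⟨z, hz⟩ = 0 :=
    fun z hz hzC => bc_of_notMem (fun h' => hzC ((coe_mem_centralizer_map R₀ ⟨z, hz⟩).2 h')) _
  have hnorm : ∀ z : G, (y : G) * z * (y : G)⁻¹ ∈ N ↔ z ∈ N := fun z =>
    ⟨fun hz => by
      simpa [mul_assoc] using N.mul_mem (N.mul_mem (N.inv_mem y.2) hz) y.2,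
    fun hz => N.mul_mem (N.mul_mem y.2 hz) (N.inv_mem y.2)⟩
  set β := fun z : G => if hz : z ∈ N then subgroupBlockCoeff (Subgroup.centralizer (R₀ : Set N)) b ⟨z, hz⟩ else 0
  have hβ : ∀ l : L, β ((l : (Subgroup.centralizer ((R₀.map N.subtype : Subgroup G) : Set G))) : G) = blockCoeff b (capIso R₀ l) := fun l => by
    show dite _ _ _ = _
    rw [dif_pos (show ((l : (Subgroup.centralizer ((R₀.map N.subtype : Subgroup G) : Set G))) : G) ∈ N from l.2)]
    exact bc_of_mem _ b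
  have key : ∀ l : L, β ((y : G) * ((l : (Subgroup.centralizer ((R₀.map N.subtype : Subgroup G) : Set G))) : G) * (y : G)⁻¹)
      = β ((g : G) * ((l : (Subgroup.centralizer ((R₀.map N.subtype : Subgroup G) : Set G))) : G) * (g : G)⁻¹) := fun l => by
    have h1 : blockCoeff b'' l = blockCoeff (irrEquiv κ '' b') l := by rw [himg]
    simp only [b'', b', blockCoeff_image] at h1
    have hl' : (y : G) * ((l : (Subgroup.centralizer ((R₀.map N.subtype : Subgroup G) : Set G))) : G) * (y : G)⁻¹ ∈ (Subgroup.centralizer ((R₀.map N.subtype : Subgroup G) : Set G)) := (conj_mem_iff hyG _).2 l.1.2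
    have e1 := hβ ⟨⟨_, hl'⟩, (hnorm _).2 l.2⟩
    have e2 := hβ (κ l)
    rw [show ((κ l : (Subgroup.centralizer ((R₀.map N.subtype : Subgroup G) : Set G))) : G) = (g : G) * ((l : (Subgroup.centralizer ((R₀.map N.subtype : Subgroup G) : Set G))) : G) * (g : G)⁻¹ by
      exact congrArg Subtype.val (MulAut.conjNormal_apply g l)] at e2
    rw [e2, ← h1]
    exact e1
  intro z
  show β ((y : G) * (g : G)⁻¹ * z * ((y : G) * (g : G)⁻¹)⁻¹) = β z
  rw [mul_inv_rev, inv_inv,
    show (y : G) * (g : G)⁻¹ * z * ((g : G) * (y : G)⁻¹)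
      = (y : G) * ((g : G)⁻¹ * z * g) * (y : G)⁻¹ by simp [mul_assoc]]
  have hgN : (g : G)⁻¹ * z * g ∈ N ↔ z ∈ N :=
    ⟨fun h => by
      simpa [mul_assoc] using Subgroup.Normal.conj_mem (inferInstance : N.Normal) _ h (g : G),
    fun h => by
      simpa [mul_assoc] using Subgroup.Normal.conj_mem (inferInstance : N.Normal) _ h (g : G)⁻¹⟩
  have hgC : (g : G)⁻¹ * z * g ∈ (Subgroup.centralizer ((R₀.map N.subtype : Subgroup G) : Set G)) ↔ z ∈ (Subgroup.centralizer ((R₀.map N.subtype : Subgroup G) : Set G)) :=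
    ⟨fun h => by simpa [mul_assoc] using (Subgroup.centralizer ((R₀.map N.subtype : Subgroup G) : Set G)).mul_mem ((Subgroup.centralizer ((R₀.map N.subtype : Subgroup G) : Set G)).mul_mem g.2 h) ((Subgroup.centralizer ((R₀.map N.subtype : Subgroup G) : Set G)).inv_mem g.2),
    fun h => (Subgroup.centralizer ((R₀.map N.subtype : Subgroup G) : Set G)).mul_mem ((Subgroup.centralizer ((R₀.map N.subtype : Subgroup G) : Set G)).mul_mem ((Subgroup.centralizer ((R₀.map N.subtype : Subgroup G) : Set G)).inv_mem g.2) h) g.2⟩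
  have hzero : ∀ x : G, ¬ (x ∈ N ∧ x ∈ (Subgroup.centralizer ((R₀.map N.subtype : Subgroup G) : Set G))) → β x = 0 := fun x hx => by
    show dite _ _ _ = _
    split_ifs with hxN
    · exact hsupp x hxN fun h => hx ⟨hxN, h⟩
    · rfl
  by_cases hz : z ∈ N ∧ z ∈ (Subgroup.centralizer ((R₀.map N.subtype : Subgroup G) : Set G))
  · rw [key ⟨⟨_, hgC.2 hz.2⟩, hgN.2 hz.1⟩]
    congr 1
    simp [mul_assoc]
  · rw [hzero z hz, hzero]
    rintro ⟨h1, h2⟩
    exact hz ⟨hgN.1 ((hnorm _).1 h1), hgC.1 ((conj_mem_iff hyG _).1 h2)⟩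

end CfsgLib.BrauerPairs.PExtension
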