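import Cfsg.Agent.Lib.BrauerPairs.Stabilizer
import Cfsg.Agent.Lib.Blocks.CentralDefect
import Cfsg.Agent.Lib.DegreeTools.PDegree
import Cfsg.Agent.Lib.Solvable.Basic
import Cfsg.Agent.Lib.Char.Induced
import Cfsg.Agent.Lib.Char.Constituent

/-!
# Weights at Brauer pairs
-/

set_option autoImplicit false

namespace CfsgLib.BrauerPairs

open Cfsg CfsgLib.Blocks
open scoped Classical ComplexConjugate

variable {p : ℕ} {M : Ideal AlgInt}

section Tools

variable {G : Type*} [Group G] [Fintype G]

theorem degVal_le_add_index (hp : p.Prime) (N : Subgroup G) [N.Normal] (χ : IrrCharacter G)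
    (ψ : IrrCharacter N) (h : classInner (fun n : N => (χ : G → ℂ) n) (ψ : N → ℂ) ≠ 0) :
    degVal p χ ≤ degVal p ψ + N.index.factorization p := by
  obtain ⟨⟨k, hk⟩, hdvd⟩ := Cfsg.Agent.S0887.result N (χ : G → ℂ) χ.2 (ψ : N → ℂ) ψ.2 h
    (charDegree (χ : G → ℂ)) (charDegree (ψ : N → ℂ)) (irr_one_eq χ) (irr_one_eq ψ)
  rw [hk, Nat.mul_div_cancel_left _ (charDegree_pos ψ)] at hdvd
  have hk0 : k ≠ 0 := fun h0 => (charDegree_pos χ).ne' (by rw [hk, h0, mul_zero])
  have hle := (Nat.factorization_le_iff_dvd hk0 Subgroup.index_ne_zero_of_finite).2 hdvd p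
  show (charDegree (χ : G → ℂ)).factorization p ≤ _
  rw [hk, Nat.factorization_mul (charDegree_pos ψ).ne' hk0, Finsupp.add_apply]
  exact Nat.add_le_add_left hle _

variable {N A C : Type*} [Group N] [Fintype N] [Group A] [Fintype A] [Group C] [Fintype C]

/-- An irreducible character invariant under a subgroup `A` stays irreducible on a complement
modulo `A`. -/
theorem isIrrCharacter_comp_of_cover (i : A →* N) (j : C →* N) (ψ : IrrCharacter N)
    (hinv : ∀ a n, (ψ : N → ℂ) (i a * n) = (ψ : N → ℂ) n) (hsurj : ∀ n, ∃ a c, i a * j c = n) :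
    IsIrrCharacter C ((ψ : N → ℂ) ∘ j) := by
  refine CfsgLib.Char.IsCharacter.isIrrCharacter_of_norm_one
    (CfsgLib.Char.IsCharacter.comp (CfsgLib.Char.isCharacter_irr ψ) j) ?_
  set K := Finset.univ.filter fun x : A × C => i x.1 * j x.2 = 1 with hK
  have hfib : ∀ n : N,
      (Finset.univ.filter fun x : A × C => i x.1 * j x.2 = n).card = K.card := by
    intro n
    obtain ⟨a, c, hac⟩ := hsurj n
    refine (Finset.card_equiv ((Equiv.mulLeft a).prodCongr (Equiv.mulRight c)) fun x => ?_).symm
    simp only [hK, Finset.mem_filter, Finset.mem_univ, true_and, Equiv.prodCongr_apply,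
      Prod.map_fst, Prod.map_snd, Equiv.coe_mulLeft, Equiv.coe_mulRight, map_mul]
    rw [show i a * i x.1 * (j x.2 * j c) = i a * (i x.1 * j x.2) * j c by simp [mul_assoc], ← hac]
    constructor
    · intro h; rw [h, mul_one]
    · intro h; exact mul_left_cancel (a := i a) (by rw [mul_one]; exact mul_right_cancel h)
  have hsum : ∀ f : N → ℂ, (∀ a n, f (i a * n) = f n) →
      (Nat.card A : ℂ) * ∑ c, f (j c) = (K.card : ℂ) * ∑ n, f n := by
    intro f hf
    calc (Nat.card A : ℂ) * ∑ c, f (j c) = ∑ x : A × C, f (i x.1 * j x.2) := by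
          rw [Fintype.sum_prod_type]
          simp only [hf, Finset.sum_const, Finset.card_univ, nsmul_eq_mul,
            Nat.card_eq_fintype_card]
      _ = ∑ n, ∑ x ∈ Finset.univ.filter (fun x : A × C => i x.1 * j x.2 = n),
            f (i x.1 * j x.2) := (Finset.sum_fiberwise _ _ _).symm
      _ = ∑ n, (K.card : ℂ) * f n := by
          refine Finset.sum_congr rfl fun n _ => ?_
          rw [Finset.sum_congr rfl fun x hx => by rw [(Finset.mem_filter.1 hx).2], Finset.sum_const,
            hfib, nsmul_eq_mul]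
      _ = _ := (Finset.mul_sum _ _ _).symm
  have h1 := hsum (fun _ => 1) fun _ _ => rfl
  have h2 := hsum (fun n => (ψ : N → ℂ) n * conj ((ψ : N → ℂ) n)) fun a n => by rw [hinv]
  have hψ : ∑ n, (ψ : N → ℂ) n * conj ((ψ : N → ℂ) n) = (Nat.card N : ℂ) := by
    have h := sum_mul_inv ψ ψ
    rw [if_pos rfl] at h
    rw [← h]
    exact Finset.sum_congr rfl fun x _ => by rw [conj_irr]
  simp only [Finset.sum_const, Finset.card_univ, nsmul_eq_mul, mul_one,
    ← Nat.card_eq_fintype_card] at h1
  rw [hψ, ← h1] at h2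
  have h3 := mul_left_cancel₀ (Nat.cast_ne_zero.2 Nat.card_pos.ne') h2
  rw [classInner]
  simp only [Function.comp_apply]
  rw [h3, inv_mul_cancel₀ (Nat.cast_ne_zero.2 Nat.card_pos.ne')]

end Tools

variable {G : Type*} [Group G] [Fintype G] {Q T : Subgroup G}
  {e : Set (IrrCharacter (Subgroup.centralizer (Q : Set G)))}

theorem isDefectGroup_of_weight (hM : IsPModular p M) (h : StabHyp p M Q T e)
    {F : Set (IrrCharacter T)} (hFe : ∀ t : T, blockCoeff F t
      = subgroupBlockCoeff (Subgroup.centralizer (Q : Set G)) e (t : G))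
    {χ : IrrCharacter T} (hχ : χ ∈ F)
    (hχQ : ∀ q : T, (q : G) ∈ Q → (χ : T → ℂ) q = (χ : T → ℂ) 1)
    (hdeg : degVal p χ + (Nat.card Q).factorization p = (Nat.card T).factorization p) :
    IsDefectGroup p M e ((Q ⊓ Subgroup.centralizer (Q : Set G)).subgroupOf
      (Subgroup.centralizer (Q : Set G))) := by
  haveI hQn : (Q.subgroupOf T).Normal := normalizer_subgroupOf_normal h.norm
  haveI hCn : ((Subgroup.centralizer (Q : Set G)).subgroupOf T).Normal := normalizer_subgroupOf_normal
    (h.norm.trans (normalizer_le_normalizer_centralizer Q))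
  set N : Subgroup T := (Subgroup.centralizer (Q : Set G)).subgroupOf T ⊔ Q.subgroupOf T
  let j : Subgroup.centralizer (Q : Set G) →* N :=
    { toFun := fun c => ⟨⟨c, h.cent c.2⟩, Subgroup.mem_sup_left c.2⟩
      map_one' := rfl
      map_mul' := fun _ _ => rfl }
  obtain ⟨m, hm, hexp⟩ := CfsgLib.Char.IsCharacter.exists_multiplicity
    (CfsgLib.Char.IsCharacter.restrict (CfsgLib.Char.isCharacter_irr χ) N)
  have hirr : ∀ ψ : IrrCharacter N, m ψ ≠ 0 → IsIrrCharacter (Subgroup.centralizer (Q : Set G)) ((ψ : N → ℂ) ∘ j) := by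
    intro ψ hψ
    refine isIrrCharacter_comp_of_cover
      (Subgroup.inclusion (le_sup_right : Q.subgroupOf T ≤ N)) j ψ (fun a n => ?_) fun n => ?_
    · refine CfsgLib.Char.IsCharacter.apply_mul_of_mem_ker (CfsgLib.Char.isCharacter_irr ψ)
        (CfsgLib.Char.IsCharacter.constituent_apply_eq_one
          (CfsgLib.Char.IsCharacter.restrict (CfsgLib.Char.isCharacter_irr χ) N) ψ.2
          (by rw [hm]; exact Nat.cast_ne_zero.2 hψ) ?_) n
      exact hχQ _ a.2
    · obtain ⟨c, hc, a, ha, hn⟩ := Subgroup.mem_sup_of_normal_right.1 n.2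
      refine ⟨⟨c * a * c⁻¹, hQn.conj_mem a ha c⟩, ⟨(c : G), hc⟩, Subtype.ext ?_⟩
      show c * a * c⁻¹ * (⟨(c : G), _⟩ : T) = (n : T)
      rw [Subtype.coe_eta, inv_mul_cancel_right]
      exact hn
  obtain ⟨ψ, hψm, hψe⟩ : ∃ ψ : IrrCharacter N, ∃ hm : m ψ ≠ 0,
      (⟨_, hirr ψ hm⟩ : IrrCharacter (Subgroup.centralizer (Q : Set G))) ∈ e := by
    by_contra hcon
    push Not at hcon
    have h1 := omega_blockCoeff F χ
    rw [blockInd_of_mem hχ, omega, div_eq_one_iff_eq (irr_one_ne_zero χ)] at h1
    refine irr_one_ne_zero χ (h1.symm.trans ?_)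
    have hsum : ∑ t : T, blockCoeff F t * (χ : T → ℂ) t
        = ∑ c : Subgroup.centralizer (Q : Set G), blockCoeff e c * (χ : T → ℂ) (j c : T) := by
      refine (Fintype.sum_of_injective (fun c : Subgroup.centralizer (Q : Set G) => (j c : T))
        (fun a b hab => Subtype.ext (congrArg (fun x : T => (x : G)) hab)) _ _
        (fun t ht => ?_) fun c => ?_).symm
      · rw [hFe, bc_of_notMem (fun hc => ht ⟨⟨t, hc⟩, rfl⟩), zero_mul]
      · rw [hFe, ← bc_coe (Subgroup.centralizer (Q : Set G)) e c]; rfl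
    rw [hsum]
    calc ∑ c : Subgroup.centralizer (Q : Set G), blockCoeff e c * (χ : T → ℂ) (j c : T)
        = ∑ c : Subgroup.centralizer (Q : Set G), ∑ ψ : IrrCharacter N, (m ψ : ℂ) * (blockCoeff e c * (ψ : N → ℂ) (j c)) := by
          refine Finset.sum_congr rfl fun c _ => ?_
          rw [hexp (j c), Finset.mul_sum]
          exact Finset.sum_congr rfl fun ψ _ => by ring
      _ = ∑ ψ : IrrCharacter N, (m ψ : ℂ) * ∑ c : Subgroup.centralizer (Q : Set G), blockCoeff e c * (ψ : N → ℂ) (j c) := by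
          rw [Finset.sum_comm]
          simp only [Finset.mul_sum]
      _ = 0 := by
          refine Finset.sum_eq_zero fun ψ _ => ?_
          by_cases hψ : m ψ = 0
          · rw [hψ, Nat.cast_zero, zero_mul]
          · have h2 := omega_blockCoeff e (⟨_, hirr ψ hψ⟩ : IrrCharacter (Subgroup.centralizer (Q : Set G)))
            rw [blockInd_of_notMem (hcon ψ hψ), omega, div_eq_zero_iff] at h2
            rcases h2 with h2 | h2
            · exact mul_eq_zero_of_right _ h2
            · exact absurd h2 (irr_one_ne_zero _)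
  set θ : IrrCharacter (Subgroup.centralizer (Q : Set G)) := ⟨_, hirr ψ hψm⟩ with hθ
  set D := (Q ⊓ Subgroup.centralizer (Q : Set G)).subgroupOf (Subgroup.centralizer (Q : Set G))
  have hDp : IsPGroup p D := IsPGroup.comap_subtype (K := Subgroup.centralizer (Q : Set G)) (h.pair.1.to_le inf_le_left)
  have hDZ : D ≤ Subgroup.center (Subgroup.centralizer (Q : Set G)) := fun z hz => Subgroup.mem_center_iff.2 fun c =>
    Subtype.ext (Subgroup.mem_centralizer_iff.1 c.2 z hz.1).symm
  have hval : degVal p θ = D.index.factorization p := by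
    have hθψ : degVal p θ = degVal p ψ := by
      simp only [degVal, hθ, charDegree, Function.comp_apply, map_one]
    haveI : D.Normal := ⟨fun n hn g => by
      rw [Subgroup.mem_center_iff.1 (hDZ hn) g, mul_inv_cancel_right]; exact hn⟩
    have hup : degVal p θ ≤ D.index.factorization p :=
      (Nat.factorization_le_iff_dvd (charDegree_pos θ).ne' Subgroup.index_ne_zero_of_finite).2
        (CfsgLib.DegreeTools.deg_dvd_index D
          (fun a b => Subtype.ext (Subgroup.mem_center_iff.1 (hDZ b.2) a)) θ) p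
    have hlow := degVal_le_add_index hM.1 N χ ψ (by rw [hm]; exact Nat.cast_ne_zero.2 hψm)
    have e1 : Nat.card ((Subgroup.centralizer (Q : Set G)).subgroupOf T) = Nat.card (Subgroup.centralizer (Q : Set G)) :=
      Nat.card_congr (Subgroup.subgroupOfEquivOfLe h.cent).toEquiv
    have e2 : Nat.card (Q.subgroupOf T) = Nat.card Q :=
      Nat.card_congr (Subgroup.subgroupOfEquivOfLe h.le).toEquiv
    have e3 : Nat.card (Q.subgroupOf T ⊓ (Subgroup.centralizer (Q : Set G)).subgroupOf T : Subgroup T) = Nat.card D := by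
      rw [show Q.subgroupOf T ⊓ (Subgroup.centralizer (Q : Set G)).subgroupOf T = (Q ⊓ Subgroup.centralizer (Q : Set G)).subgroupOf T from
        (Subgroup.comap_inf _ _ _).symm,
        Nat.card_congr (Subgroup.subgroupOfEquivOfLe (inf_le_left.trans h.le)).toEquiv,
        Nat.card_congr (Subgroup.subgroupOfEquivOfLe (inf_le_right : Q ⊓ Subgroup.centralizer (Q : Set G) ≤ Subgroup.centralizer (Q : Set G))).toEquiv]
    have hN : Nat.card N * Nat.card D = Nat.card (Subgroup.centralizer (Q : Set G)) * Nat.card Q := by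
      rw [← e1, ← e2, ← e3]
      exact CfsgLib.Solvable.Basic.card_sup_mul _ _
    have hT := congrArg (fun n => n.factorization p) (Subgroup.card_mul_index N)
    have hD := congrArg (fun n => n.factorization p) (Subgroup.card_mul_index D)
    have hNv := congrArg (fun n => n.factorization p) hN
    simp only [Nat.factorization_mul Nat.card_pos.ne' Nat.card_pos.ne',
      Nat.factorization_mul Nat.card_pos.ne' Subgroup.index_ne_zero_of_finite,
      Finsupp.add_apply] at hT hD hNv
    omega
  have := (defectGroup_and_vanish_of_central hM hDp hDZ θ hval).1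
  rwa [← IsPBlock.eq_blockOf hM h.pair.2 hψe] at this

variable [Fact p.Prime]

theorem le_of_weight (hQ : IsPGroup p Q) (hQT : Q ≤ T)
    (hQn : T ≤ Subgroup.normalizer (Q : Set G)) {χ : IrrCharacter T}
    (hχQ : ∀ q : T, (q : G) ∈ Q → (χ : T → ℂ) q = (χ : T → ℂ) 1)
    (hdeg : degVal p χ + (Nat.card Q).factorization p = (Nat.card T).factorization p)
    {R : Subgroup G} (hRT : R ≤ T) (hR : IsPGroup p R)
    (hRn : T ≤ Subgroup.normalizer (R : Set G)) : R ≤ Q := by
  have hp : p.Prime := Fact.out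
  haveI : (Q.subgroupOf T).Normal := normalizer_subgroupOf_normal hQn
  haveI : (R.subgroupOf T).Normal := normalizer_subgroupOf_normal hRn
  set N : Subgroup T := R.subgroupOf T ⊔ Q.subgroupOf T with hN
  have hNp : IsPGroup p N :=
    (IsPGroup.comap_subtype (K := T) hR).to_sup_of_normal_right (IsPGroup.comap_subtype (K := T) hQ)
  have hres := CfsgLib.Char.IsCharacter.restrict (CfsgLib.Char.isCharacter_irr χ) N
  obtain ⟨ψ₀, hψ₀, hne⟩ := CfsgLib.Char.IsCharacter.exists_constituent hres
    (fun h0 => irr_one_ne_zero χ (congrFun h0 1))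
  set ψ : IrrCharacter N := ⟨ψ₀, hψ₀⟩
  have hlow := degVal_le_add_index hp N χ ψ hne
  have hker : ∀ a : Q.subgroupOf T,
      (ψ : N → ℂ) (Subgroup.inclusion le_sup_right a) = (ψ : N → ℂ) 1 := fun a =>
    CfsgLib.Char.IsCharacter.constituent_apply_eq_one hres ψ.2 hne (hχQ _ a.2)
  have hsq : Nat.card (Q.subgroupOf T) * charDegree (ψ : N → ℂ) ^ 2 ≤ Nat.card N := by
    have h1 : ∑ a : Q.subgroupOf T,
        Complex.normSq ((ψ : N → ℂ) (Subgroup.inclusion le_sup_right a))
          ≤ ∑ n : N, Complex.normSq ((ψ : N → ℂ) n) := by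
      rw [← Finset.sum_image (g := Subgroup.inclusion (le_sup_right : Q.subgroupOf T ≤ N))
        (f := fun n => Complex.normSq ((ψ : N → ℂ) n))
        fun a _ b _ hab => Subgroup.inclusion_injective _ hab]
      exact Finset.sum_le_univ_sum_of_nonneg fun n => Complex.normSq_nonneg _
    rw [sum_normSq_irr ψ, Finset.sum_congr rfl (fun a _ => by rw [hker a]), Finset.sum_const,
      irr_one_eq, Complex.normSq_natCast, nsmul_eq_mul, Finset.card_univ,
      ← Nat.card_eq_fintype_card] at h1
    rw [sq]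
    exact_mod_cast h1
  obtain ⟨n, hn⟩ := IsPGroup.iff_card.1 hNp
  obtain ⟨q, hq⟩ := IsPGroup.iff_card.1 hQ
  obtain ⟨k, -, hk⟩ := (Nat.dvd_prime_pow hp).1 (hn ▸ charDegree_dvd ψ)
  have hdk : degVal p ψ = k := by
    simp only [degVal, hk, hp.factorization_pow, Finsupp.single_eq_same]
  have e2 : Nat.card (Q.subgroupOf T) = Nat.card Q :=
    Nat.card_congr (Subgroup.subgroupOfEquivOfLe hQT).toEquiv
  rw [e2, hq, hn, hk, ← pow_mul, ← pow_add, Nat.pow_le_pow_iff_right hp.one_lt] at hsq
  have hT := congrArg (fun n => n.factorization p) (Subgroup.card_mul_index N)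
  rw [Nat.factorization_mul Nat.card_pos.ne' Subgroup.index_ne_zero_of_finite, Finsupp.add_apply,
    hn, hp.factorization_pow, Finsupp.single_eq_same] at hT
  rw [hq, hp.factorization_pow, Finsupp.single_eq_same] at hdeg
  have hQN : Q.subgroupOf T = N := Subgroup.eq_of_le_of_card_ge le_sup_right (by
    rw [e2, hq, hn]; exact Nat.pow_le_pow_right hp.pos (by omega))
  intro r hr
  have : (⟨r, hRT hr⟩ : T) ∈ Q.subgroupOf T := hQN ▸ Subgroup.mem_sup_left hr
  exact this

end CfsgLib.BrauerPairs
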